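import Cfsg.Agent.H37.Split

/-! Embeddings of root data; the Steinberg groups of types B₂ and D₄ are of simply connected type. -/

set_option autoImplicit false

namespace Cfsg.Agent.H37

open Cfsg.Lie Cfsg.Lie.ChevalleyDatum Cfsg.Agent.H38 Finset H39 Chev

/-- A map of roots with signs that is compatible with the structure constants. -/
structure Emb2 (D D' : ChevalleyDatum) (φ : ℕ → ℕ) (ε : ℕ → ℤ) : Prop where
  lt : ∀ r < D.nroots, φ r < D'.nroots
  inj : ∀ r < D.nroots, ∀ s < D.nroots, φ r = φ s → r = s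
  neg : ∀ r < D.nroots, φ (D.neg r) = D'.neg (φ r)
  sq : ∀ r < D.nroots, ε r * ε r = 1
  ε_neg : ∀ r < D.nroots, ε (D.neg r) = ε r
  comm : ∀ r < D.nroots, ∀ s < D.nroots, (D'.commTerms (φ r) (φ s)).map (fun c => (c.1, c.2.1 * ε r ^ c.2.2.1 *
    ε s ^ c.2.2.2, c.2.2)) = (D.commTerms r s).map fun c => (φ c.1, c.2.1 * ε c.1, c.2.2)

variable {D D' : ChevalleyDatum} {φ : ℕ → ℕ} {ε : ℕ → ℤ} {F : Type*} [Field F] {G : Type*} [Group G]
  [Chev D] [Chev D']

omit [Chev D'] in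
/-- The pull-back of root elements. -/
def Emb2.pull (h : Emb2 D D' φ ε) (S : AB D' F G) : AB D F G where
  x r t := S.x (φ r) (ε r * t)
  x_add r hr t u := by rw [S.x_add _ (h.lt r hr), mul_add]
  x_comm r hr s hs h1 h2 t u := by
    rw [S.x_comm _ (h.lt r hr) _ (h.lt s hs) (fun e => h1 (h.inj _ hs _ hr e))
      (fun e => h2 (h.inj _ hs _ (neg_lt hr) (by rw [e, h.neg r hr])))]
    congr 1
    have := congrArg (fun l => (l.map fun c : ℕ × ℤ × ℕ × ℕ => S.x c.1 (c.2.1 * (-t) ^ c.2.2.1 * u ^ c.2.2.2)).prod)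
      (h.comm r hr s hs)
    simp only [gword, commWord, List.map_map] at this ⊢
    refine Eq.trans ?_ (this.trans ?_) <;> congr 1 <;> refine List.map_congr_left fun p _ => ?_ <;>
      simp only [Function.comp] <;> congr 1 <;> push_cast
    · rw [← mul_neg, mul_pow, mul_pow]; ring
    · ring

theorem Emb2.pull_h (h : Emb2 D D' φ ε) (S : StRel D' F G) {r : ℕ} (hr : r < D.nroots) {t : F} (ht : t ≠ 0) :
    gword (h.pull (ofStRel S)).x (D.hWord r t) = S.h (φ r) t := by
  have h0 : (ε r : F) * ε r = 1 := by exact_mod_cast congrArg (Int.cast : ℤ → F) (h.sq r hr)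
  have h1 : ∀ t : F, gword (h.pull (ofStRel S)).x (D.nWord r t) = gword S.x (D'.nWord (φ r) (ε r * t)) := fun t => by
    have : (ε r : F) * -t⁻¹ = -(ε r * t)⁻¹ := by rw [mul_inv, inv_eq_of_mul_eq_one_right h0]; ring
    simp only [gword, nWord, List.map_cons, List.map_nil, Emb2.pull, ofStRel, h.neg r hr, h.ε_neg r hr, this]
  rw [hWord, gword_append, h1, h1]
  have := (rg S).n_mul_n ⟨φ r, h.lt r hr⟩ (ε r * t) (ε r * -1)
  rw [rg_n, rg_n, rg_h, rg_h, mul_neg_one, neg_neg] at this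
  refine Eq.trans (by rw [mul_neg_one]; rfl) (this.trans ?_)
  rw [mul_inv_eq_iff_eq_mul, mul_comm (ε r : F)]
  exact (S.h_mul _ (h.lt r hr) t _ ht (left_ne_zero_of_mul_eq_one h0)).symm

theorem Emb2.exists_hom (h : Emb2 D D' φ ε) (S : StRel D' F G) :
    ∃ θ : D.SteinbergGroup F →* G, (∀ r < D.nroots, ∀ t, θ (D.stGen F r t) = S.x (φ r) (ε r * t)) ∧
      ∀ r < D.nroots, ∀ t, t ≠ 0 → θ (gword (D.stGen F) (D.hWord r t)) = S.h (φ r) t := by
  refine ⟨(h.pull (ofStRel S)).stLift fun r hr t u ht hu => ?_, fun r hr t => AB.stLift_x _ _ hr t,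
    fun r hr t ht => ?_⟩
  · rw [h.pull_h S hr ht, h.pull_h S hr hu, h.pull_h S hr (mul_ne_zero ht hu)]
    exact S.h_mul _ (h.lt r hr) t u ht hu
  · rw [map_gword, ← h.pull_h S hr ht]
    exact gword_congr fun p hp => AB.stLift_x _ _ (hWord_lt hr _ p hp) _

theorem Emb2.sc (h : Emb2 D D' φ ε) (hD : IsChev D) {hD' : IsChev D'} {A : Cov hD' F G} (hA : A.SC)
    {ν : ℕ → ℕ} (h1 : ∀ i < D.rank, ν i < D'.rank ∧ φ (D.simple i) = D'.simple (ν i)) : (scCov hD F).SC := by
  obtain ⟨θ, -, hθ⟩ := h.exists_hom A.S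
  let ν' : Fin D.rank → Fin D'.rank := fun i => ⟨ν i, (h1 i i.2).1⟩
  have hν : Function.Injective ν' := fun i j e => (rs D).sp_inj (Fin.ext (h.inj _ (simple_lt _ i.2) _
    (simple_lt _ j.2) ((h1 i i.2).2.trans ((congrArg D'.simple (congrArg Fin.val e)).trans (h1 j j.2).2.symm))))
  have key : ∀ c, θ ((scCov hD F).T c) = A.T (∏ i, Pi.mulSingle (ν' i) (c i)) := fun c => by
    conv_lhs => rw [← univ_prod_mulSingle c]
    induction (univ : Finset (Fin D.rank)) using Finset.induction_on with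
    | empty => simp
    | insert i s hi ih =>
      rw [prod_insert hi, prod_insert hi, map_mul, map_mul, map_mul, ih, Cov.T_single, Cov.T_single, rg_h, rg_h]
      congr 1
      exact (hθ _ (simple_lt _ i.2) _ (c i).ne_zero).trans (by rw [(h1 i i.2).2]; rfl)
  refine (injective_iff_map_eq_one _).2 fun c hc => funext fun i => ?_
  have := congrFun (hA (show _ = A.T 1 by rw [← key, hc, map_one, map_one])) (ν' i)
  simpa [Finset.prod_apply, Pi.mulSingle_apply, hν.eq_iff] using this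

set_option synthInstance.maxSize 4000 in
theorem embB2F4 : Emb2 chevB2 chevF4 (fun r => [17, 19, 20, 22, 25, 27, 28, 30].getD r 0) fun _ => 1 := by
  refine ⟨?_, ?_, ?_, ?_, ?_, ?_⟩ <;> decide +kernel

set_option synthInstance.maxSize 4000 in
theorem embD4E6 : Emb2 chevD4 chevE6
    (fun r => [18, 20, 21, 23, 24, 25, 27, 28, 31, 32, 29, 34, 37, 42, 39, 40, 43, 44, 46, 47, 48, 50, 51, 53].getD r 0)
    fun r => [1, 1, 1, 1, 1, 1, -1, -1, 1, 1, 1, 1, 1, 1, 1, 1, -1, -1, 1, 1, 1, 1, 1, 1].getD r 0 := by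
  refine ⟨?_, ?_, ?_, ?_, ?_, ?_⟩ <;> decide +kernel

theorem sc_B2 [Chev chevB2] (hD : IsChev chevB2) : (scCov hD F).SC := by
  have hD' : IsChev chevF4 := by simp
  obtain ⟨_⟩ := nonempty_chev hD'
  exact embB2F4.sc hD (Cov.sc_of_centT (adjCov hD' F) centT_F4) (ν := (· + 1)) (by decide +kernel)

theorem sc_D4 [Chev chevD4] (hD : IsChev chevD4) : (scCov hD F).SC := by
  have hD' : IsChev chevE6 := by simp
  obtain ⟨_⟩ := nonempty_chev hD'
  exact embD4E6.sc hD (A := scCov hD' F) (torus_injective_E6 hD') (ν := fun i => [1, 3, 2, 4].getD i 0)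
    (by decide +kernel)

theorem sc_all (hD : IsChev D) : (scCov hD F).SC := by
  have h := hD
  simp only [IsChev, List.mem_cons, List.not_mem_nil, or_false] at h
  rcases h with rfl | rfl | rfl | rfl | rfl | rfl | rfl
  exacts [Cov.sc_of_centT _ centT_G2, sc_B2 hD, sc_D4 hD, Cov.sc_of_centT _ centT_F4, torus_injective_E6 hD,
    torus_injective_E7 hD, Cov.sc_of_centT _ centT_E8]

end Cfsg.Agent.H37
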