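import Cfsg.Agent.H37.EwB
import Cfsg.Agent.H37.EvE

/-! Eigenvalues of the elements of orders `8`, `11`, `31`, `41` of `E₈(3)` in the adjoint representation. -/

set_option autoImplicit false

namespace Cfsg.Agent.H37.S2

open Cfsg.Lie Cfsg.Agent.H38 Cfsg.Agent.H39 Matrix Finset Ew

/-- dimensions of the fixed spaces of `x`, `x²`, `x⁴` -/
def T8 : List (ℕ × ℕ × ℕ) := [(30, 60, 120), (32, 60, 120), (32, 64, 120), (34, 66, 136), (34, 70, 136), (36, 70, 136), (38, 60, 120), (38, 70, 136), (40, 82, 136), (44, 92, 120), (48, 82, 136), (50, 66, 136), (52, 92, 120), (60, 120, 248), (64, 120, 248), (64, 134, 136), (66, 136, 248), (68, 92, 120), (70, 136, 248), (80, 82, 136), (80, 134, 136), (82, 136, 248), (92, 120, 248), (120, 248, 248), (134, 136, 248), (136, 248, 248), (248, 248, 248)]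

/-- values of the roots at a point of the alcove -/
noncomputable def kE (a : List ℕ) (s : ℕ) : ℕ :=
  @Nat.rec (fun _ => ℕ) 0 (fun j t => Nat.add t (Nat.mul (fld E8.vecT 4 16 (Nat.add (Nat.mul 8 s) j)) (a.getD j 0))) 8

/-- the test at a point of the alcove -/
noncomputable def kOK (a : List ℕ) : Bool :=
  frc (encE 8 ((List.range 240).map fun s => (kE a s, 0)) 1 0) fun e1 =>
  frc (encE 8 ((List.range 240).map fun s => (kE a s, 0)) 2 0) fun e2 =>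
  frc (encE 8 ((List.range 240).map fun s => (kE a s, 0)) 4 0) fun e4 =>
    bimp (Nat.beq (fl e1 3) (fl e1 1)) (decide ((fl e1 0, fl e2 0, fl e4 0) ∈ T8))

theorem kac_ok : (allLt 5 fun a => allLt 3 fun b => allLt 3 fun c => allLt 2 fun d => allLt 2 fun e => allLt 3 fun f =>
    allLt 3 fun g => allLt 5 fun h => bimp (Nat.ble (2 * a + 3 * b + 4 * c + 6 * d + 5 * e + 4 * f + 3 * g + 2 * h) 8)
      (kOK [a, b, c, d, e, f, g, h])) = true := by decide +kernel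

theorem kE_spec (a : ℕ → ℕ) (s : ℕ) : (kE [a 0, a 1, a 2, a 3, a 4, a 5, a 6, a 7] s : ℤ) ≡
    ∑ j ∈ range 8, E8.vec s j * a j [ZMOD (8 : ℕ)] := by
  have : ∀ (F : ℕ → ℕ) (n : ℕ), @Nat.rec (fun _ => ℕ) 0 (fun j t => Nat.add t (F j)) n = ∑ j ∈ range n, F j :=
    fun F n => by
      induction n with
      | zero => rfl
      | succ n ih => rw [sum_range_succ, ← ih]; rfl
  rw [kE, this]
  simp only [E8.vec, fldI, Int.subNatNat_eq_coe, sum_range_succ, Int.ModEq, sum_range_zero, Nat.mul_eq,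
    List.getD_cons_zero, List.getD_cons_succ, sub_mul]
  push_cast
  omega

/-- exponents for the prime 41 -/
def ab41 : List (ℕ × ℕ) := [(nat_lit 34, nat_lit 7), (nat_lit 5, nat_lit 22), (nat_lit 37, nat_lit 3), (nat_lit 29, nat_lit 9), (nat_lit 9, nat_lit 13), (nat_lit 25, nat_lit 16), (nat_lit 24, nat_lit 10), (nat_lit 16, nat_lit 31), (nat_lit 15, nat_lit 25), (nat_lit 31, nat_lit 28), (nat_lit 11, nat_lit 32), (nat_lit 3, nat_lit 38), (nat_lit 35, nat_lit 19), (nat_lit 6, nat_lit 34), (nat_lit 1, nat_lit 40), (nat_lit 33, nat_lit 14), (nat_lit 8, nat_lit 17), (nat_lit 29, nat_lit 21), (nat_lit 21, nat_lit 27), (nat_lit 12, nat_lit 8), (nat_lit 24, nat_lit 23), (nat_lit 7, nat_lit 11), (nat_lit 28, nat_lit 15), (nat_lit 20, nat_lit 21), (nat_lit 11, nat_lit 2), (nat_lit 23, nat_lit 17), (nat_lit 3, nat_lit 18), (nat_lit 36, nat_lit 24), (nat_lit 27, nat_lit 5), (nat_lit 39, nat_lit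 20), (nat_lit 16, nat_lit 28), (nat_lit 7, nat_lit 9), (nat_lit 19, nat_lit 24), (nat_lit 40, nat_lit 15), (nat_lit 11, nat_lit 30), (nat_lit 2, nat_lit 11), (nat_lit 35, nat_lit 33), (nat_lit 27, nat_lit 39), (nat_lit 18, nat_lit 20), (nat_lit 30, nat_lit 35), (nat_lit 7, nat_lit 2), (nat_lit 39, nat_lit 24), (nat_lit 10, nat_lit 39), (nat_lit 31, nat_lit 30), (nat_lit 2, nat_lit 4), (nat_lit 34, nat_lit 26), (nat_lit 23, nat_lit 5), (nat_lit 14, nat_lit 27), (nat_lit 26, nat_lit 1), (nat_lit 6, nat_lit 33), (nat_lit 18, nat_lit 7), (nat_lit 9, nat_lit 29), (nat_lit 27, nat_lit 37), (nat_lit 39, nat_lit 11), (nat_lit 30, nat_lit 33), (nat_lit 22, nat_lit 39), (nat_lit 22, nat_lit 40), (nat_lit 13, nat_lit 21), (nat_lit 25, nat_lit 36), (nat_lit 5, nat_lit 27), (nat_lit 17, nat_lit 1), (nat_lit 8, nat_lit 23), (nat_lit 26, nat_lit 31), (nat_lit 38, nat_lit 5), (nat_lit 29, nat_lit 27),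 (nat_lit 21, nat_lit 33), (nat_lit 1, nat_lit 34), (nat_lit 13, nat_lit 8), (nat_lit 4, nat_lit 30), (nat_lit 37, nat_lit 36), (nat_lit 17, nat_lit 40), (nat_lit 33, nat_lit 8), (nat_lit 4, nat_lit 23), (nat_lit 36, nat_lit 4), (nat_lit 28, nat_lit 10), (nat_lit 8, nat_lit 14), (nat_lit 24, nat_lit 17), (nat_lit 23, nat_lit 11), (nat_lit 40, nat_lit 29), (nat_lit 31, nat_lit 10), (nat_lit 2, nat_lit 25), (nat_lit 23, nat_lit 16), (nat_lit 35, nat_lit 31), (nat_lit 26, nat_lit 12), (nat_lit 3, nat_lit 20), (nat_lit 15, nat_lit 35), (nat_lit 6, nat_lit 16), (nat_lit 39, nat_lit 22), (nat_lit 19, nat_lit 23), (nat_lit 31, nat_lit 38), (nat_lit 22, nat_lit 19), (nat_lit 14, nat_lit 25), (nat_lit 35, nat_lit 29), (nat_lit 18, nat_lit 17), (nat_lit 30, nat_lit 32), (nat_lit 21, nat_lit 13), (nat_lit 13, nat_lit 19), (nat_lit 34, nat_lit 23), (nat_lit 9, nat_lit 26), (nat_lit 10, nat_lit 38),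 (nat_lit 22, nat_lit 12), (nat_lit 13, nat_lit 34), (nat_lit 5, nat_lit 40), (nat_lit 26, nat_lit 3), (nat_lit 1, nat_lit 6), (nat_lit 9, nat_lit 32), (nat_lit 21, nat_lit 6), (nat_lit 12, nat_lit 28), (nat_lit 4, nat_lit 34), (nat_lit 25, nat_lit 38), (nat_lit 25, nat_lit 35), (nat_lit 37, nat_lit 9), (nat_lit 28, nat_lit 31), (nat_lit 20, nat_lit 37), (nat_lit 5, nat_lit 39), (nat_lit 17, nat_lit 13), (nat_lit 8, nat_lit 35), (nat_lit 38, nat_lit 4), (nat_lit 9, nat_lit 19), (nat_lit 29, nat_lit 26), (nat_lit 12, nat_lit 15), (nat_lit 32, nat_lit 22), (nat_lit 3, nat_lit 37), (nat_lit 33, nat_lit 6), (nat_lit 24, nat_lit 28), (nat_lit 36, nat_lit 2), (nat_lit 21, nat_lit 4), (nat_lit 13, nat_lit 10), (nat_lit 4, nat_lit 32), (nat_lit 16, nat_lit 6), (nat_lit 16, nat_lit 3), (nat_lit 37, nat_lit 7), (nat_lit 29, nat_lit 13), (nat_lit 20, nat_lit 35), (nat_lit 32, nat_lit 9), (nat_lit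 40, nat_lit 35), (nat_lit 15, nat_lit 38), (nat_lit 36, nat_lit 1), (nat_lit 28, nat_lit 7), (nat_lit 19, nat_lit 29), (nat_lit 31, nat_lit 3), (nat_lit 32, nat_lit 15), (nat_lit 7, nat_lit 18), (nat_lit 28, nat_lit 22), (nat_lit 20, nat_lit 28), (nat_lit 11, nat_lit 9), (nat_lit 23, nat_lit 24), (nat_lit 6, nat_lit 12), (nat_lit 27, nat_lit 16), (nat_lit 19, nat_lit 22), (nat_lit 10, nat_lit 3), (nat_lit 22, nat_lit 18), (nat_lit 2, nat_lit 19), (nat_lit 35, nat_lit 25), (nat_lit 26, nat_lit 6), (nat_lit 38, nat_lit 21), (nat_lit 15, nat_lit 29), (nat_lit 6, nat_lit 10), (nat_lit 18, nat_lit 25), (nat_lit 39, nat_lit 16), (nat_lit 10, nat_lit 31), (nat_lit 1, nat_lit 12), (nat_lit 18, nat_lit 30), (nat_lit 17, nat_lit 24), (nat_lit 33, nat_lit 27), (nat_lit 13, nat_lit 31), (nat_lit 5, nat_lit 37), (nat_lit 37, nat_lit 18), (nat_lit 8, nat_lit 33), (nat_lit 24, nat_lit 1), (nat_lit 4,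 nat_lit 5), (nat_lit 37, nat_lit 11), (nat_lit 28, nat_lit 33), (nat_lit 40, nat_lit 7), (nat_lit 20, nat_lit 8), (nat_lit 12, nat_lit 14), (nat_lit 3, nat_lit 36), (nat_lit 15, nat_lit 10), (nat_lit 33, nat_lit 18), (nat_lit 24, nat_lit 40), (nat_lit 36, nat_lit 14), (nat_lit 16, nat_lit 5), (nat_lit 28, nat_lit 20), (nat_lit 19, nat_lit 1), (nat_lit 19, nat_lit 2), (nat_lit 11, nat_lit 8), (nat_lit 2, nat_lit 30), (nat_lit 14, nat_lit 4), (nat_lit 32, nat_lit 12), (nat_lit 23, nat_lit 34), (nat_lit 35, nat_lit 8), (nat_lit 15, nat_lit 40), (nat_lit 27, nat_lit 14), (nat_lit 18, nat_lit 36), (nat_lit 7, nat_lit 15), (nat_lit 39, nat_lit 37), (nat_lit 10, nat_lit 11), (nat_lit 31, nat_lit 2), (nat_lit 2, nat_lit 17), (nat_lit 34, nat_lit 39), (nat_lit 11, nat_lit 6), (nat_lit 23, nat_lit 21), (nat_lit 14, nat_lit 2), (nat_lit 6, nat_lit 8), (nat_lit 39, nat_lit 30), (nat_lit 30, nat_lit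 11), (nat_lit 1, nat_lit 26), (nat_lit 22, nat_lit 17), (nat_lit 34, nat_lit 32), (nat_lit 25, nat_lit 13), (nat_lit 2, nat_lit 21), (nat_lit 14, nat_lit 36), (nat_lit 5, nat_lit 17), (nat_lit 38, nat_lit 23), (nat_lit 18, nat_lit 24), (nat_lit 30, nat_lit 39), (nat_lit 21, nat_lit 20), (nat_lit 13, nat_lit 26), (nat_lit 34, nat_lit 30), (nat_lit 17, nat_lit 18), (nat_lit 29, nat_lit 33), (nat_lit 20, nat_lit 14), (nat_lit 12, nat_lit 20), (nat_lit 33, nat_lit 24), (nat_lit 8, nat_lit 27), (nat_lit 40, nat_lit 1), (nat_lit 35, nat_lit 7), (nat_lit 6, nat_lit 22), (nat_lit 38, nat_lit 3), (nat_lit 30, nat_lit 9), (nat_lit 10, nat_lit 13), (nat_lit 26, nat_lit 16), (nat_lit 25, nat_lit 10), (nat_lit 17, nat_lit 31), (nat_lit 16, nat_lit 25), (nat_lit 32, nat_lit 28), (nat_lit 12, nat_lit 32), (nat_lit 4, nat_lit 38), (nat_lit 36, nat_lit 19), (nat_lit 7, nat_lit 34)]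

/-- exponents for the prime 31 -/
def ab31 : List (ℕ × ℕ) := [(nat_lit 10, nat_lit 0), (nat_lit 24, nat_lit 0), (nat_lit 8, nat_lit 0), (nat_lit 13, nat_lit 0), (nat_lit 25, nat_lit 0), (nat_lit 29, nat_lit 0), (nat_lit 23, nat_lit 0), (nat_lit 7, nat_lit 0), (nat_lit 1, nat_lit 0), (nat_lit 5, nat_lit 0), (nat_lit 17, nat_lit 0), (nat_lit 22, nat_lit 0), (nat_lit 6, nat_lit 0), (nat_lit 20, nat_lit 0), (nat_lit 21, nat_lit 0), (nat_lit 30, nat_lit 0), (nat_lit 3, nat_lit 0), (nat_lit 15, nat_lit 0), (nat_lit 20, nat_lit 0), (nat_lit 4, nat_lit 0), (nat_lit 18, nat_lit 0), (nat_lit 28, nat_lit 0), (nat_lit 9, nat_lit 0), (nat_lit 14, nat_lit 0), (nat_lit 29, nat_lit 0), (nat_lit 12, nat_lit 0), (nat_lit 13, nat_lit 0), (nat_lit 18, nat_lit 0), (nat_lit 2, nat_lit 0), (nat_lit 16, nat_lit 0), (nat_lit 30, nat_lit 0), (nat_lit 14, nat_lit 0), (nat_lit 28, nat_lit 0), (nat_lit 19, nat_lit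 0), (nat_lit 2, nat_lit 0), (nat_lit 17, nat_lit 0), (nat_lit 22, nat_lit 0), (nat_lit 27, nat_lit 0), (nat_lit 11, nat_lit 0), (nat_lit 25, nat_lit 0), (nat_lit 8, nat_lit 0), (nat_lit 23, nat_lit 0), (nat_lit 6, nat_lit 0), (nat_lit 28, nat_lit 0), (nat_lit 11, nat_lit 0), (nat_lit 26, nat_lit 0), (nat_lit 12, nat_lit 0), (nat_lit 27, nat_lit 0), (nat_lit 10, nat_lit 0), (nat_lit 1, nat_lit 0), (nat_lit 15, nat_lit 0), (nat_lit 30, nat_lit 0), (nat_lit 13, nat_lit 0), (nat_lit 27, nat_lit 0), (nat_lit 11, nat_lit 0), (nat_lit 16, nat_lit 0), (nat_lit 6, nat_lit 0), (nat_lit 21, nat_lit 0), (nat_lit 4, nat_lit 0), (nat_lit 26, nat_lit 0), (nat_lit 9, nat_lit 0), (nat_lit 24, nat_lit 0), (nat_lit 7, nat_lit 0), (nat_lit 21, nat_lit 0), (nat_lit 5, nat_lit 0), (nat_lit 10, nat_lit 0), (nat_lit 11, nat_lit 0), (nat_lit 25, nat_lit 0), (nat_lit 9, nat_lit 0), (nat_lit 14, nat_lit 0), (nat_lit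 26, nat_lit 0), (nat_lit 20, nat_lit 0), (nat_lit 3, nat_lit 0), (nat_lit 18, nat_lit 0), (nat_lit 23, nat_lit 0), (nat_lit 4, nat_lit 0), (nat_lit 8, nat_lit 0), (nat_lit 2, nat_lit 0), (nat_lit 4, nat_lit 0), (nat_lit 19, nat_lit 0), (nat_lit 2, nat_lit 0), (nat_lit 24, nat_lit 0), (nat_lit 7, nat_lit 0), (nat_lit 22, nat_lit 0), (nat_lit 5, nat_lit 0), (nat_lit 19, nat_lit 0), (nat_lit 3, nat_lit 0), (nat_lit 8, nat_lit 0), (nat_lit 9, nat_lit 0), (nat_lit 23, nat_lit 0), (nat_lit 7, nat_lit 0), (nat_lit 12, nat_lit 0), (nat_lit 24, nat_lit 0), (nat_lit 3, nat_lit 0), (nat_lit 17, nat_lit 0), (nat_lit 1, nat_lit 0), (nat_lit 6, nat_lit 0), (nat_lit 18, nat_lit 0), (nat_lit 22, nat_lit 0), (nat_lit 18, nat_lit 0), (nat_lit 1, nat_lit 0), (nat_lit 16, nat_lit 0), (nat_lit 21, nat_lit 0), (nat_lit 2, nat_lit 0), (nat_lit 6, nat_lit 0), (nat_lit 12, nat_lit 0), (nat_lit 26, nat_lit 0),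 (nat_lit 10, nat_lit 0), (nat_lit 15, nat_lit 0), (nat_lit 27, nat_lit 0), (nat_lit 16, nat_lit 0), (nat_lit 30, nat_lit 0), (nat_lit 14, nat_lit 0), (nat_lit 19, nat_lit 0), (nat_lit 28, nat_lit 0), (nat_lit 11, nat_lit 0), (nat_lit 26, nat_lit 0), (nat_lit 2, nat_lit 0), (nat_lit 16, nat_lit 0), (nat_lit 17, nat_lit 0), (nat_lit 14, nat_lit 0), (nat_lit 15, nat_lit 0), (nat_lit 29, nat_lit 0), (nat_lit 5, nat_lit 0), (nat_lit 20, nat_lit 0), (nat_lit 3, nat_lit 0), (nat_lit 12, nat_lit 0), (nat_lit 17, nat_lit 0), (nat_lit 1, nat_lit 0), (nat_lit 15, nat_lit 0), (nat_lit 4, nat_lit 0), (nat_lit 16, nat_lit 0), (nat_lit 21, nat_lit 0), (nat_lit 5, nat_lit 0), (nat_lit 19, nat_lit 0), (nat_lit 25, nat_lit 0), (nat_lit 29, nat_lit 0), (nat_lit 10, nat_lit 0), (nat_lit 15, nat_lit 0), (nat_lit 30, nat_lit 0), (nat_lit 13, nat_lit 0), (nat_lit 9, nat_lit 0), (nat_lit 13, nat_lit 0), (nat_lit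 25, nat_lit 0), (nat_lit 30, nat_lit 0), (nat_lit 14, nat_lit 0), (nat_lit 28, nat_lit 0), (nat_lit 7, nat_lit 0), (nat_lit 19, nat_lit 0), (nat_lit 24, nat_lit 0), (nat_lit 8, nat_lit 0), (nat_lit 22, nat_lit 0), (nat_lit 23, nat_lit 0), (nat_lit 28, nat_lit 0), (nat_lit 12, nat_lit 0), (nat_lit 26, nat_lit 0), (nat_lit 9, nat_lit 0), (nat_lit 24, nat_lit 0), (nat_lit 7, nat_lit 0), (nat_lit 29, nat_lit 0), (nat_lit 12, nat_lit 0), (nat_lit 27, nat_lit 0), (nat_lit 29, nat_lit 0), (nat_lit 23, nat_lit 0), (nat_lit 27, nat_lit 0), (nat_lit 8, nat_lit 0), (nat_lit 13, nat_lit 0), (nat_lit 28, nat_lit 0), (nat_lit 11, nat_lit 0), (nat_lit 5, nat_lit 0), (nat_lit 17, nat_lit 0), (nat_lit 22, nat_lit 0), (nat_lit 6, nat_lit 0), (nat_lit 20, nat_lit 0), (nat_lit 21, nat_lit 0), (nat_lit 26, nat_lit 0), (nat_lit 10, nat_lit 0), (nat_lit 24, nat_lit 0), (nat_lit 7, nat_lit 0), (nat_lit 22, nat_lit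 0), (nat_lit 5, nat_lit 0), (nat_lit 27, nat_lit 0), (nat_lit 10, nat_lit 0), (nat_lit 25, nat_lit 0), (nat_lit 15, nat_lit 0), (nat_lit 20, nat_lit 0), (nat_lit 4, nat_lit 0), (nat_lit 18, nat_lit 0), (nat_lit 1, nat_lit 0), (nat_lit 16, nat_lit 0), (nat_lit 30, nat_lit 0), (nat_lit 21, nat_lit 0), (nat_lit 4, nat_lit 0), (nat_lit 19, nat_lit 0), (nat_lit 5, nat_lit 0), (nat_lit 20, nat_lit 0), (nat_lit 3, nat_lit 0), (nat_lit 25, nat_lit 0), (nat_lit 8, nat_lit 0), (nat_lit 23, nat_lit 0), (nat_lit 6, nat_lit 0), (nat_lit 20, nat_lit 0), (nat_lit 4, nat_lit 0), (nat_lit 9, nat_lit 0), (nat_lit 14, nat_lit 0), (nat_lit 29, nat_lit 0), (nat_lit 12, nat_lit 0), (nat_lit 3, nat_lit 0), (nat_lit 17, nat_lit 0), (nat_lit 1, nat_lit 0), (nat_lit 15, nat_lit 0), (nat_lit 29, nat_lit 0), (nat_lit 13, nat_lit 0), (nat_lit 18, nat_lit 0), (nat_lit 19, nat_lit 0), (nat_lit 2, nat_lit 0), (nat_lit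 17, nat_lit 0), (nat_lit 22, nat_lit 0), (nat_lit 3, nat_lit 0), (nat_lit 13, nat_lit 0), (nat_lit 27, nat_lit 0), (nat_lit 11, nat_lit 0), (nat_lit 16, nat_lit 0), (nat_lit 28, nat_lit 0), (nat_lit 1, nat_lit 0), (nat_lit 10, nat_lit 0), (nat_lit 11, nat_lit 0), (nat_lit 25, nat_lit 0), (nat_lit 9, nat_lit 0), (nat_lit 14, nat_lit 0), (nat_lit 26, nat_lit 0), (nat_lit 30, nat_lit 0), (nat_lit 24, nat_lit 0), (nat_lit 8, nat_lit 0), (nat_lit 2, nat_lit 0), (nat_lit 6, nat_lit 0), (nat_lit 18, nat_lit 0), (nat_lit 23, nat_lit 0), (nat_lit 7, nat_lit 0), (nat_lit 21, nat_lit 0)]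

theorem tor41 : torOK' chevE8 E8.tab (41 ^ 1) [2, 3, 5, 4, 6, 7, 0, 1, 3, 4, 2, 3, 5, 4, 6, 7, 0, 1, 3, 4, 2, 3, 5, 4, 6, 7, 0, 1, 3, 4]
    [[-1, -1, -1, -1, -1, -1, -1, 0], [1, 1, 2, 2, 1, 1, 1, 1], [1, 2, 2, 3, 3, 3, 2, 1], [-1, -2, -2, -3, -2, -2, -1, -1], [0, 0, -1, -1, -1, -1, -1, 0], [1, 2, 3, 4, 3, 2, 1, 0], [0, -1, -1, -1, -1, 0, 0, 0], [-1, 0, -1, -1, -1, -1, 0, 0]]
    [1, 0, 25, 9, 18, 6, 2, 7] [0, 1, 11, 28, 0, 9, 12, 34] ab41 := by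
  decide +kernel

theorem tor31 : torOK' chevE8 E8.tab (31 ^ 1) [0, 1, 2, 3, 4, 5, 6, 7]
    [[0, 0, 1, 0, 0, 0, 0, 0], [1, 0, 1, 1, 0, 0, 0, 0], [0, 1, 0, 1, 0, 0, 0, 0], [0, 0, 0, 0, 1, 0, 0, 0], [0, 0, 0, 0, 0, 1, 0, 0], [0, 0, 0, 0, 0, 0, 1, 0], [0, 0, 0, 0, 0, 0, 0, 1], [-1, -1, -1, -1, -1, -1, -1, -1]]
    [1, 11, 4, 13, 7, 20, 28, 21] [] ab31 := by
  decide +kernel

theorem ok41 : (allLt 41 fun a => allLt 41 fun b => frc (encE 41 ab41 a b) fun e =>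
    bimp (allLt 41 fun y => Nat.beq (fl e y) (fl e (4 * y % 41))) (band (Nat.beq a 0) (Nat.beq b 0))) = true := by
  decide +kernel

theorem ok31 : (allLt 31 fun a => Nat.beq a 0 || Nat.beq (fl (encE 31 ab31 a 0) 0) 8) = true := by
  decide +kernel

theorem ok11 : (allLt 11 fun a => allLt 11 fun b => band (Nat.beq a 0) (Nat.beq b 0) ||
    Nat.beq (fl (encE 121 abA (11 * a) (11 * b)) 0) 28) = true := by
  decide +kernel

theorem exists_prim {m : ℕ} (hm : ¬ 3 ∣ m) : ∃ ζ : AlgebraicClosure (ZMod 3), IsPrimitiveRoot ζ m := by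
  have : NeZero (m : AlgebraicClosure (ZMod 3)) := ⟨fun h => hm ((CharP.cast_eq_zero_iff _ 3 _).1 h)⟩
  exact HasEnoughRootsOfUnity.exists_primitiveRoot _ m

theorem exists_E8 :
    ∃ ρ : Representation (AlgebraicClosure (ZMod 3)) (chevE8.group (ZMod 3)) (chevE8.Idx → AlgebraicClosure (ZMod 3)),
    Function.Injective ρ ∧ (∀ l g c, dm (Fix ρ l) (ρ g) (c ^ 3) = dm (Fix ρ l) (ρ g) c) ∧
    (∀ x, x ^ 8 = 1 → (dm ⊤ (ρ x) 1, dm ⊤ (ρ (x ^ 2)) 1, dm ⊤ (ρ (x ^ 4)) 1) ∈ T8) ∧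
    (∀ x ≠ 1, x ^ 11 = 1 → dm ⊤ (ρ x) 1 = 28) ∧ (∀ x ≠ 1, x ^ 31 = 1 → dm ⊤ (ρ x) 1 = 8) ∧
    ∀ x ≠ 1, x ^ 41 = 1 → ∀ g : chevE8.group (ZMod 3), x ^ 4 * g ≠ g * x := by
  obtain ⟨ρ, h1, h2, h3, h4⟩ := exists_rep' (D := chevE8) (by simp) rfl H64.hasInv_E8 E8.checked
  have h5 := dm_frob _ ρ h2
  have hl : ∀ m (AB : List (ℕ × ℕ)) a b, AB.length = 240 → (el m AB a b).length < 1024 := fun m AB a b h => by
    simp [el, h]
  refine ⟨ρ, h1, h5, fun x hx => ?_, fun x h hx => ?_, fun x h hx => ?_, fun x h hx g hg => ?_⟩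
  · obtain ⟨ζ, hζ⟩ := exists_prim (m := 8) (by norm_num)
    obtain ⟨a, h6, h7⟩ := h3 8 x (by norm_num) hx ζ hζ
    replace h7 := h7 _ fun s _ => kE_spec a s
    have h8 := h6 239 (by decide)
    have e : ∀ j < 8, E8.tab.vec 239 j = ([2, 3, 4, 6, 5, 4, 3, 2] : List ℤ).getD j 0 := by decide +kernel
    rw [sum_congr rfl fun j hj => by rw [e j (mem_range.1 hj)]] at h8
    simp only [sum_range_succ, sum_range_zero, List.getD_cons_zero, List.getD_cons_succ] at h8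
    have h9 := bimp_spec (allLt_spec (allLt_spec (allLt_spec (allLt_spec (allLt_spec (allLt_spec (allLt_spec (allLt_spec
      kac_ok (a 0) (by omega)) (a 1) (by omega)) (a 2) (by omega)) (a 3) (by omega)) (a 4) (by omega)) (a 5) (by omega))
      (a 6) (by omega)) (a 7) (by omega)) (Nat.ble_eq ▸ by omega)
    simp only [kOK, frc_eq, encE_eq, fl_enc _ (hl _ _ _ _ ((List.length_map _).trans List.length_range))] at h9
    have h10 := h7 1 0 (by norm_num)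
    have h11 := h7 2 0 (by norm_num)
    have h12 := h7 4 0 (by norm_num)
    rw [pow_zero] at h10 h11 h12
    rw [pow_one] at h10
    rw [h10, h11, h12]
    refine of_decide_eq_true (bimp_spec h9 (Nat.beq_eq ▸ ?_))
    exact (h7 1 3 (by norm_num)).symm.trans ((h5 [] _ ζ).trans (pow_one ζ ▸ h7 1 1 (by norm_num)))
  · obtain ⟨ζ, hζ⟩ := exists_prim (m := 11 ^ 2) (by norm_num)
    obtain ⟨a, ha, b, hb, h6, -, h7⟩ := h4 11 2 _ _ _ _ _ (by norm_num) (by norm_num)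
      ⟨torA.1, torA.2.1.1, torA.2.2.1, fun i hi => ⟨(torA.2.2.2 i hi).1, (torA.2.2.2 i hi).2.1,
        fun j hj => ((torA.2.2.2 i hi).2.2 j hj).1⟩⟩ x h (by rw [pow_two, pow_mul, hx, one_pow]) ζ hζ
      (.inl ⟨card_E8_three (by norm_num) (by norm_num) (by norm_num), rfl, rfl, rfl⟩)
    have h8 : ∀ c ∈ abA, 121 ∣ (a * c.1 + b * c.2) % 121 * 11 := fun c hc => by
      have h9 := h7 _ (Nat.mod_lt (a * c.1 + b * c.2) (by norm_num))
      rw [dm, top_inf_eq] at h9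
      obtain ⟨⟨v, hv⟩, h10⟩ := Module.finrank_pos_iff_exists_ne_zero.1 (lt_of_lt_of_eq (List.count_pos_iff.2
        (by exact List.mem_append_right _ (List.mem_map.2 ⟨c, hc, rfl⟩))) h9.symm)
      have h11 := (Module.End.HasEigenvector.pow_apply ⟨hv, fun e => h10 (Subtype.ext e)⟩ 11).symm
      rw [← map_pow, hx, map_one, Module.End.one_apply, ← pow_mul, ← sub_eq_zero, ← one_smul (AlgebraicClosure (ZMod 3)) v,
        smul_smul, mul_one, ← sub_smul, smul_eq_zero, sub_eq_zero] at h11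
      exact hζ.dvd_of_pow_eq_one _ (h11.resolve_right fun e => h10 (Subtype.ext e))
    have h9 := h8 (90, 0) (by decide +kernel)
    have h10 := h8 (114, 90) (by decide +kernel)
    obtain ⟨a, rfl⟩ : 11 ∣ a := by omega
    obtain ⟨b, rfl⟩ : 11 ∣ b := by omega
    have h11 := allLt_spec (allLt_spec ok11 a (by omega)) b (by omega)
    simp only [Bool.or_eq_true, band_eq_true, Nat.beq_eq, encE_eq, fl_enc _ (hl _ abA _ _ (by decide +kernel))] at h11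
    exact (pow_zero ζ ▸ h7 0 (by norm_num)).trans (h11.resolve_left fun e => h6 (by omega))
  · obtain ⟨ζ, hζ⟩ := exists_prim (m := 31 ^ 1) (by norm_num)
    obtain ⟨a, ha, b, hb, h6, h8, h7⟩ := h4 31 1 _ _ _ _ _ (by norm_num) (by norm_num) tor31 x h hx ζ hζ
      (.inr ⟨card_E8_three (by norm_num) (by norm_num) (by norm_num), rfl, rfl⟩)
    obtain rfl := h8 rfl
    have h11 := allLt_spec ok31 a ha
    simp only [Bool.or_eq_true, Nat.beq_eq, encE_eq, fl_enc _ (hl _ ab31 _ _ (by decide +kernel))] at h11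
    exact (pow_zero ζ ▸ h7 0 (by norm_num)).trans (h11.resolve_left fun e => h6 (by omega))
  · obtain ⟨ζ, hζ⟩ := exists_prim (m := 41 ^ 1) (by norm_num)
    obtain ⟨a, ha, b, hb, h6, -, h7⟩ := h4 41 1 _ _ _ _ _ (by norm_num) (by norm_num) tor41 x h hx ζ hζ
      (.inl ⟨card_E8_three (by norm_num) (by norm_num) (by norm_num), rfl, rfl, rfl⟩)
    have h11 := allLt_spec (allLt_spec ok41 a ha) b hb
    simp only [frc_eq, encE_eq, fl_enc _ (hl _ ab41 _ _ (by decide +kernel))] at h11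
    refine h6 ((band_eq_true.1 (bimp_spec h11 (allLt_iff.2 fun y hy => Nat.beq_eq ▸ ?_))).imp Nat.eq_of_beq_eq_true
      Nat.eq_of_beq_eq_true)
    replace hζ : IsPrimitiveRoot ζ 41 := hζ
    replace h7 : ∀ y < 41, _ = (el 41 ab41 a b).count y := h7
    rw [← h7 y hy, ← h7 _ (Nat.mod_lt _ (by norm_num)), ← pow_eq_pow_mod _ hζ.pow_eq_one, mul_comm, pow_mul,
      ← dm_conj ρ hg (_ ^ 4), map_pow, dm_pow (l := 31) _ (by rw [← pow_mul, ← map_pow, show 4 * 31 = 41 * 3 + 1 from rfl, pow_succ, pow_mul, hx]; simp)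
      (by rw [← pow_mul, ← pow_mul, mul_comm y, pow_mul, show 4 * 31 = 41 * 3 + 1 from rfl, pow_succ, pow_mul,
        hζ.pow_eq_one]; simp)]

end Cfsg.Agent.H37.S2
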