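import Cfsg.Agent.H37.Chk
import Cfsg.Prelude.Def_ChevD4

/-! Coded tables for type D4 (generated). -/

set_option autoImplicit false

namespace Cfsg.Agent.H37.D4

/-- coded rows of the chain table -/
def rows : List ℕ := [0x18b800001450000000000018880061c002860000014280000060a0000050200145c0000000144c000000000018830f0000000050ba14000003050000000030100000000516a2a00000000a234400000000000000000612c2000000000c11818000000028b000a280000051100143c0000000000000309000c1c00000608001810000014540051300000288000a1c000000000000018400060c00000303000c04000000014528980000000287d0e0000000000000000183b060000000030260200000000a2c00000000a240000030d61800000000a1141c00000000001820000000018000062a0000051200000186800000c2c005090014180000000000181800001400000006280028900000000186000000c2a84800a0c0000000000000181000a0000000000a27448000000000000030b614002845070000000000000000180b0000000000000000c458830f61c000000000000000000000000282503a05404000000000000000062200186b0c000c240000000141400000a07408000000014000000000000000000a20c3400000616c2000000a0a00000504001404000006000000000000000000000a1ec3000000614c1c0050500000282000a0200000300000000000000000000000061c00185b0a000c1a8280000000281d02000002800000000000000000000000000000c268450760c002823036054040000000000000000000000000000000000000000,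 0x18b515a28c4c00511620c3e870000000000000000000000000000c5c0000062ac5000000000c4a88800a1b430005090000000000000000000000a2e00000316000c4c000006240028850d00000285b0800000000000000000005170000018b0006260000031200000287d0c00000285307000000000000000018b8000000018ab140000018900000000287000a1742800506000000000000000018b315628c4c000000000000000000000000509a1141e8300000000000000a2f4580000000000000000620c3c0050da180000000000000182b04000000003170014540000000000000311000c3a8680000142c00000000c140050301]

/-- coded fundamental reflections -/
def wT : List ℕ := [0x1711100f0e05161514130d0c0b0a04030201120908070600, 0x161715141213110d0c09100f08070e0b0a06040503020001, 0x1714131615120f0e11100a0c0b0d07060908050201040300, 0x17151613141210110e0f0d0b0c0a08090607050304010200]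

/-- coded signs of the fundamental reflections -/
def eT : List ℕ := [0x7c3e0, 0x887e11, 0x6324c6, 0x52994a]

/-- coded Cartan integers -/
def carT : List ℕ := [0x96db9b6e492db536dc, 0xae4ae5b9bb5372b92b, 0x96b72d6f48ad6e5adc, 0x95d72bae652bae575c]

/-- coded coroots -/
def corT : ℕ := 0x888899a98888999988888999888898998888889988888889888899988888899888889898888888988888898888889888888878888888878888888878888878788888877888887778888888878888887788887877888887778888777788887767

/-- coded roots -/
def vecT : ℕ := 0x888899a98888999988888999888898998888889988888889888899988888899888889898888888988888898888889888888878888888878888888878888878788888877888887778888888878888887788887877888887778888777788887767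

/-- coded lengths -/
def lenT : ℕ := 0x555555555555

/-- a coded row -/
def row (r : ℕ) : ℕ :=
  fld (Nat.shiftRight (rows.getD (Nat.div r 16) 0) 8) 264 (Nat.pow 2 264) (Nat.mod r 16)

/-- code of a chain entry -/
def code (r s : ℕ) : ℕ := fld (row r) 11 2048 s

/-- fundamental reflections -/
def w (i s : ℕ) : ℕ := fld (wT.getD i 0) 8 256 s

/-- their signs -/
noncomputable def ε (i s : ℕ) : ℤ := sgnB (eT.getD i 0) s

/-- Cartan integers -/
def car (i s : ℕ) : ℤ := fldI (carT.getD i 0) 3 8 4 s

/-- coroot coefficients -/
def co (r j : ℕ) : ℤ := fldI corT 4 16 8 (Nat.add (Nat.mul 8 r) j)

/-- root coefficients -/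
def vec (r j : ℕ) : ℤ := fldI vecT 4 16 8 (Nat.add (Nat.mul 8 r) j)

/-- lengths -/
def len (r : ℕ) : ℤ := fldI lenT 2 4 0 r

/-- weights of the order functional -/
def wt (j : ℕ) : ℤ := Int.ofNat (Nat.pow 16 (Nat.sub 3 j))

/-- a multiple of the inverse Cartan matrix -/
def inv (i j : ℕ) : ℤ := fldI 0x81081000000042081000000082102000000041082 6 64 0 (Nat.add (Nat.mul 8 i) j)

/-- the tables -/
noncomputable def tab : Tab := ⟨4, 24, code, w, ε, car, co, vec, len, wt, inv, 2⟩

end Cfsg.Agent.H37.D4
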