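import Cfsg.Agent.H37.Chk
import Cfsg.Prelude.Def_ChevG2

/-! Coded tables for type G2 (generated). -/

set_option autoImplicit false

namespace Cfsg.Agent.H37.G2

/-- coded rows of the chain table -/
def rows : List ℕ := [0x614000000000000018480000142000000a0c0000000000000000000000000000000000000000000000000000000c2c00000000000003090000000000000141c000000000000050500000000000000000000000000000010b000000850000000000000000000085e08001c290380000000185d08a0942983d030000000000000000000000e1600000000001c2f0480000000185b0960e000007060000000000020c8100000000141a823020000000000000000000000e14000852090000000050aa12c20000000000000000000000382800e0b80d82b03604000000000000000000000142c00000000000000000000028400000000000000000000000000000018200000000000000000000003010000028500000000000000000000005070000000000000000000000000000003030000000000000000000000600000000000000000050661142400706410000001060000000000000000180d02a060000000000040701000000404000000000000000060b41e8480000000000105c0e0000000000000082d006054100000000000380202000000000000004000000000000000000602c1184500a06c1c0000000000380e040004010180000000000000000000007010000038000000000000000000000000000000018300000000000000608000000000000028100000000000000a000000000000000000000000000000000000000000000000000000000c14000006060000050200000000000001404000000000000000000000000000000000000000000000000000]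

/-- coded fundamental reflections -/
def wT : List ℕ := [0xb060809040a010702030500, 0xa0b09070805060304020001]

/-- coded signs of the fundamental reflections -/
def eT : List ℕ := [0x696, 0x969]

/-- coded Cartan integers -/
def carT : List ℕ := [0x9ebc7aacc, 0xae579572b]

/-- coded coroots -/
def corT : ℕ := 0x888888a988888899888888ba888888b98888888988888898888888788888888788888857888888568888887788888867

/-- coded roots -/
def vecT : ℕ := 0x888888ab8888889b8888889a888888998888888988888898888888788888888788888877888888768888887588888865

/-- coded lengths -/
def lenT : ℕ := 0xf57d5f

/-- a coded row -/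
def row (r : ℕ) : ℕ :=
  fld (Nat.shiftRight (rows.getD (Nat.div r 16) 0) 8) 396 (Nat.pow 2 396) (Nat.mod r 16)

/-- code of a chain entry -/
def code (r s : ℕ) : ℕ := fld (row r) 33 8589934592 s

/-- fundamental reflections -/
def w (i s : ℕ) : ℕ := fld (wT.getD i 0) 8 256 s

/-- their signs -/
noncomputable def ε (i s : ℕ) : ℤ := sgnB (eT.getD i 0) s

/-- Cartan integers -/
def car (i s : ℕ) : ℤ := fldI (carT.getD i 0) 3 8 4 s

/-- coroot coefficients -/
def co (r j : ℕ) : ℤ := fldI corT 4 16 8 (Nat.add (Nat.mul 8 r) j)

/-- root coefficients -/
def vec (r j : ℕ) : ℤ := fldI vecT 4 16 8 (Nat.add (Nat.mul 8 r) j)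

/-- lengths -/
def len (r : ℕ) : ℤ := fldI lenT 2 4 0 r

/-- weights of the order functional -/
def wt (j : ℕ) : ℤ := Int.ofNat (Nat.pow 16 (Nat.sub 1 j))

/-- a multiple of the inverse Cartan matrix -/
def inv (i j : ℕ) : ℤ := fldI 0x810000000000c2 6 64 0 (Nat.add (Nat.mul 8 i) j)

/-- the tables -/
noncomputable def tab : Tab := ⟨2, 12, code, w, ε, car, co, vec, len, wt, inv, 1⟩

end Cfsg.Agent.H37.G2
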