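/- search certificate for the Tits group (generated) -/
import Cfsg.Agent.H37.TiK
import Cfsg.Agent.H57.OutTitsD
import Cfsg.Agent.H57.RuDef

set_option autoImplicit false
set_option maxRecDepth 100000

namespace Cfsg.Agent.H37.Ti

open H14 H55 H57Ru H57.OutTits

def l0 : LvC := ⟨⟨nat_lit 16, nat_lit 0xee852f56088e45eab39159010aca9ca6c0fa3041a9c01c4122262bd847784800608b0a8cea02630b38139af2fb99b6ae816120be4c6972b49d00899a80c6e3550d35381f6f101b1520900fe24a18dc07e219b4d744932ad8bc6a28b1aece8028848d177034d4be39e98f684bd073432f8748863bb2aa80514881a4a69810dfb9b2d46ff1e480c975010076a2cb12c30856204006387023bf0ba8e470d43241850dd1312ebe01ee333f3230578ee0d906597ecaf8129e06e670b08bf4b20ad66d5e56c22ca21f9b01401e33d001a572240300142b9e50e3e0a1b2875917bfc22a68096145241420b5724fa8005e738b9131b02826914c21f10032a2ba5417f7ca12a19900f208ba0c5468e259c618c8cf041d00703bb589984da262af62041aa2f07f139254b41bfc43611f1a32b411f1d14c238e86c4359645e2c5a50de006c581be022173c246b1ce28c4284629c816bef84d0648a0372f85acc3084030990d11d200582a7030fcc479d4daaf6dffcd29200982916788aaf60219d1b4ea10e30e45c7231c8274ae10c10b50227aa6404518d6aa6486cc956ba71af169240d60f1cb0e7a47beec997c4b1eb06b1e73471e224d90607ca004400ae203b56a8197ab3ab0b66006621b8711f12cab212fc37341b84de2b720a06cb88b13856a0e207b774aa0fb161bb9639cfd44c52bca05f8a396ca726413e64010000,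 nat_lit 1755⟩, [nat_lit 32, nat_lit 48, nat_lit 40], [nat_lit 0x180018000cfc2cfc1cfc06db26db16db051d251d151d0d2c20512051105109cb29cb1bba2bba1bba0f5a2f5a1f5a023a123a0ea42ea41ea4047b247b147b03bd23bd13bd0269226912690d902d901d900c6a2c6a1c6a0b4a2b4a1b4a0071107105462546154600a420a410a40ee72ee71ee701d421d411d400cc20cc10cc07ba27ba17ba0171217111710094209410940a912a911a9100b420b410b40be02be01be00d012d011d010cce2cce1cce088d188d0eb92eb91eb909d619d60ab72ab71ab7039f239f139f0f332f331f330fbe2fbe1fbe09df29df19df02b322b312b3016321631163053e253e153e0a192a191a190fd72fd71fd70735273517350366236613660cc82cc81cc80ae32ae31ae308be28be1469246914690f942f941f940e402e401e400010201010100, nat_lit 0x104c204c05552a7d2a7d1a7d0074207410740dfd2dfd1dfd055b255b155b0f4f2f4f1f4f0d162d161d1602ba2a672a671a670faa2faa1faa010f210f110f0660266016600730273017300db62db61db609be29be19be0d422d421d420dd12dd11dd10ced2ced1ced0c932c931c9302922292129207a927a902da22da12da0c6c2c6c1c6c0c062bd02bd01bd00c8d2c8d1c8d09e519e50776277617760a262a261a260f272f271f270688268816880d4c2d4c1d4c0db72db71db7072327231723095e295e195e07b827b817b808cf28cf18cf0f6d2f6d0a8d2925292519250432243214320a2f2a2f1a2f042c242c142c0fa12fa11fa108f628f61785278517850b882b881b88063e29f929f919f902f422f412f40ecd2ecd086c286c186c0031203110310b5a2b5a1b5a08002,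 nat_lit 0x1490149007ec17ec072e272e172e0af82af81af80a962a961a9606f926f916f9045421cd21cd11752175117507d517d50847284718470e542e541e5409eb29eb19eb098e298e198e0ccc2ccc1ccc0820282018200849284918490fc62fc61fc600d910d90a352a3516432e822e821e820382287804632463146302e722e70d462d461d4605db25db15db05b825b815b80d431d430fb32fb31fb301fb21fb11fb0d072d071d0709d029d01c1c2c1c1c1c0664266416640a641a6402b622b612b60670267016700e002e001e000f932f931f9300ef24a224a214a2003d203d103d0d9c1d9c0a212a2111dc11dc06d926d916d908ae28ae18ae054f254f154f0854285418540f192f191f342f341f3406b826b816b8006b206b106b0d0f2d0f1d0f00a520a510a50113211311130, nat_lit 0x1b1d16c026c01480248014800fd92fd91fd9066216620c032c031c03043d143d017f217f117f089c289c189c01ad2a9c2a9c1a9c0f952f951f950727272708c228c20e3f2e3f1d682d681d6809300b9c2b9c1b9c08592bc02bc01bc000bb20bb10bb074027401740053d253d153d00222022114c214c114c0cc52cc51cc5047114710a902a901a900de02de0149b249b149b083218320bdb2bdb15f625f61f722cc21cc2089228920c522c521c520654265416540b5f2b5f1b5f07bb27bb17bb013e213e113e05de25de19822982183b183b0f3b1f3b02b422b412b400b510b508292488248814880c7f2a4a2a4a1a4a08dd28dd18dd02e422e40c462c461c46031a231a162426241923292319230e662e661e6605a025a01d832bca2bca1bca06e326e31a402a401a4004902,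 nat_lit 0x10592c222c221c220c4b2c4b1c4b011711170dbd2dbd1dbd0faf2faf0aaa21cf11cf0b64236b236b136b09ad230213020c8a1c8a091129111914291419140e8c2e8c1e8c07ea27ea0434143401f811f80f902cf31be52be51be50703296e2491249114910cdf1cdf03b823b813b8093c293c1c562c561c56004d25b922bf22bf12bf03a3104820480cf72cf719a519a50f262af62af60b852b850aac2aac1aac090b290b190b0301230113010fa42f02039e139e063f263f1e742e741e7406cc26cc16cc0bd82bd8176b276b04d224d20b152b151b150e172e171e170a022a021a020a722a721a7203fc0a382a381a380d862d861d860a732a731a73047724771477012c212c112c07a527a517a506b626b616b60df22df21df20e702e701e70075f275f175f024622461b1d2, nat_lit 0x141a07821782008b208b108b020a220a120a0c7b1c7b066e266e166e0fc52fc51fc50e632e631e630c3901522152115205242b1e21eb21eb0c872c871c87087028700711271117110aa72aa71aa7018b118b07e627e617e6049224921492065226521652018a218a118a0e7a1e7a068726871cd32cd31cd30a222a221a2203ad23ad005a2a182a181a180104110409d229d219d208762876032e132e058f258f158f009920991099033a0ec32ec31ec30a052d121d120c311c310aab2aab1aab079127910f6b1f6b0c171c170b752b751fad2fad1fad0fc921300e9d0a1d1a1d0032203203932393035a22581258062e262e162e0b8a06ff2d812d811d810aea2aea1aea05282528152806332633163304d424d414d40cb21cb2037023701e512e511e510c012c011c010f8c2,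 nat_lit 0x1bb304b124b101002100110002f122f112f103a913a9079e279e179e0e1e2e1e120f220f0a95279627960d1b26d026d016d00614261415ce15ce014811480375237513750a802a8004b514b50e3e1ca62ca61ca60d03126f226f126f0a6a0f882f881e782419241907ff27ff0ca829b019b00e231dc01dc00a582a5800952095109502af2142214211420bc91bc90d6f1d6f05d325d3068016800298229812980d822d821d8200b0046a246a146a0b582b5802c712c7012d1e182e181e180bf80deb2deb1deb074e274e01e021e011e00e072e071e07018104eb26e126e116e106ae2a71222b222b122b018c218c118c0c8f2c8f1db02db006922f3c2f3c1f3c0822105b105b09802980198006a026a016a004021402057f257f157f008e108e0a0b1a0b01941e8d2cf9241a2, nat_lit 0x1b381b38013c213c113c00b81b291b290616196129610d5c1d5c0d3008b018b0088c2d7d0121234a01aa21aa11aa092219220e681174117406b126b11a431a4306a426a41bab1bab00b91a472e251e2509a819a80b9e1b9e0865186508f418f40d6a2f9d2f9d156c256c156c0f75223222321fae228c128c00652cab1cab032313230f22224d16b326b31ac81ac8006a206a120d2f992f991f990db52db51db501d721d711d70ac42ac41e6f2e6f06ba25f215f2007e207e107e019d219d119d0f0e258115810bc52bc5077517750286128605d115d10ead2ead1ead0a11186006e826e817ed27ed18ff18ff0b1420ca0dc900a12bd30e7d1e7d0f392f39028822881288061a1a4b26d127eb1a3f1a3f0b0b1d36108627ab17ab0e371c7d255e255e03792aa60d202bb32bb31,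 nat_lit 0x13e10457265b2b251b250e162e161cfb14d024d00f6622fc22fc1a422a421a420c201c2009d80968196803cb1280228007e417e40c9a2e732e73059515950e2f2e2f0ba11ba10906290619060c972c971c970f522f521a302a301a30080d280d07ee27ee170a045e2ad22ad21a521a52058b149e08a918a90fda1c542f841dd01dd0076a276a176a0ade24b91841284118410eb72eb71eb7054a254a024406d226d21ca00f982f980fcc2fcc1fcc077c11d10d3a1d3a0d4b1438243817d127d11a542f042f0400d2208a208a108a01d00c412c4101c10eba1eba07b517b50bc31bc30eff2eff0717271714820d5d25fe255d1941294103ce2bea1cf52cf51cf5077f177f0b232b230f5121232123112309de25f425f41f322f321f320cb82d7700530dc82dc81dc805262b382, nat_lit 0x106f106f0f5d2f531f530e6527700ca51ca5096a13d713d70bfe0b012b0112e622e60aa52aa500a820a81a772dcc2cee26fe27b917b901552ab82ab809a729a719da02752e6b00fc15c5238023801380032d050b04df24df14df00c520c513132ba02ba01ba0088e0a4f1a4f0fdb2fdb1fdb091312561a512fa623562ebf2ebf0da72da7086b24071d192a992a991a9907df044314642d252899189909ce255125511ac92cdb1cdb0e2105cf2158170118641f631b092b091ef52f872f8708241bf70035191903e323e313e30f0021f92c64044400e12567256715670e9f2e9f1e9f0d111d11059b204318eb18eb0d2d226422c00d701d7005fc22d923431f1c0dba001e290d290d190d08012801115a215a171a1c942c941c940ad02b312b31107607091709061125e503e12,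 nat_lit 0x1cf619e119e10a00038c25f1167320f124bf264f139d02792bbb1b1f2dbc15860f7302f72ded17a827a81265075c275c03721ebb2bc12dd62b6b2b111ca90ac115562b6519bf29bf074127411247114728512675083416b016b002d22da42da41da401a9269e2c3c123015cd15cd005e105e0c6d29242924011011100bd21bd2009a0de92f77159c013111310cb01476006703f80024042b2be6015c2c72078b260b1e901e90040d27e91f07168616860733275604652465153318df28df16ee270d01cb26c5098d10f418da2cb323f108ec28ec18ec0df31d841d840e5d173717370af12af116710d5a1d5a07e317e30415241509890c451e3102ad22ad12ad05601e7b24001400067d29af1c3b2c3b0d00271317130e2a0cae2cae1cae0d5b1d5b021a02b5036927c422ae1, nat_lit 0x1d0906fd0ae42e87103a041b24a32d3c15041e9710821d3e18d90abf0be316c4026e23082965005828b62431093d0a94078020ba20ba164509ed26bd1b0224211b0f1d67282e007a2333055009382d5502a612a6008707392739173902571255048f247d1dfb2dde13f9236202f91f502e6c1e6c0b83215d055829e219e2055215520467293f293f150e150e083d098519850e5b0a4d17632763175e23852c55261d23c6292b10d821c80d18071f23171684168404fa24fa1ed325b42ceb287718a128a1051402c512c509e810d42cf62]⟩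
def a1 : LvC := ⟨⟨nat_lit 26, nat_lit 0xa4042f44008645609190090108c888208038000129000c40000002984738480000810888a200410a18111802fa99a206806100024c48623001008910804661150811180e0a0010052090050248005c02c209a0d0401202988c00289088860028008d017024d43c18a1876048c02000078740820b320880404881a0208000d439920466d1c4000064010070820a02c000160040021050030e0b884440501001000dd131021c01c2132c32205382404802181ec8580016006660b082a43008546d1a50820ca20d9a00401401d0010170040200102a1c50e1e021b08759173402280801604120040090424608000c32090130b00026104821c00020a018101612c012a119006208120c50282051c61800ce001c00702b11099049a202af22041a20b075138244201bc402600a1232a41040514c038e060401804420840101a000408036000142424001c020c420060140163e6849060880230b81a8c0084010180d014200480a6020504478800285456f442920090081270002c2000950b0a810430e0585201082642e10c103400272a240450040824486cc806b2218714020006001c90c2a4694ac094c40002069126107120204004034000440026203b1608091ab1030966004620b8301c120a92026c23141384d609600a04ca88b13802a0c2043570a80a90200884184a40084080200080294c2702002424000000,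 nat_lit 1024⟩, [nat_lit 1941, nat_lit 54260, nat_lit 41764, nat_lit 0x1b721b], [nat_lit 0x18223822282208ae38ae18ae064e364e264e164e00383038103809df39df29df15863586258615860d163d162c893c892b1e3b1e2b1e1b1e0179317921790231323122310e773e772e77188e388e288e16a336a326a316a308f6323a323a223a1b753b752b751b750ca83ca82ca81ca80d073d0726443644251c351c1ad03ad02ad01ad00f943f941f9401173117069e369e269e1c563c562c56132e3dd03dd02dd01dd006c436c426c416c4004830482c7b3c7b233d333d233d133d06d93525352529743974297410c530c520c516f536f526f501f131f121f115db35db25db15db04f034f024f014f007a837a827a817a80555355520cc30cc20cc10cc0a01064f364f264f164f009a309a209a109a01a531a521a50022302220221022036533652365101a301a201a101a0, nat_lit 0x1b6d3b6d2efa3efa2efa19a839a801813181218117b527143714271417140c09141a19a739a729a719a703153730373026793679267916790a053a052a051a05080938092809180901743174217411740e8c20d030d020d015ad28df31843dc73dc72dc719d739d729d719d7055e355e255e14a934a924a914a90cf73cf72cf715f435f425f415f40af82800380028001800018c318c218c118c00d230d2229222921fc23fc2271137112711171109362936096c296c0a2d3a2d2a2d12963296229612960d403d402d401d40051b3d003d002d0012cf32cf22cf12cf0393339323931ac936fc36fc16fc013e313e213e113e08fc38fc213f313f113f09f839f829f8120d320d220d120d03173317231713170f6731f831f821f811f80ebb3ebb21a931a9242d342d242d142d0,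 nat_lit 0x1791043434342434143402d322d315bc35bc15bc09fe39fe1e9f3e9f277c377c277c135a335a235a10e130e10afa2afa19213921220532051c173c171c170f003f002f00182338232823182306363636263616360c943c942c941e143e142e1418713871156a38a038a028a018a00e753065306520651065047b247b09ac39ac29ac016321631ca03ca02ca01ca009ef3b6a3b6a1e213e210dde3dde2dde04de34de24de14de0d1f3d1f1d1f0d933d931d9306e813843384138408322832183206a736a712b332b3278f378f278f06872687168703c623c6156c356c256c156c01c331c321c31fa42fa41fa401fd31fd11fd032d332d2ce13ce11ce102c732c72d253d25292a192a0720372023c133c123c11d2d3d2d2d2d1d2d0a1d3a1d1a1d04e839e839e820a330a320a31, nat_lit 0x1e3223c438e138e1085028501850055635562556193d393d293d193d0544354403aa33aa23022302159a259a008e208e108e0bbc189a389a289a189a09103431243116e73983265836581ca727af37af17af0d902d90193f293f09ae39ae23112511251111c9338c338c238c19e139e119e109c5050a3ae43f982369370d370d270d0e522e5211111e6f3e6f279a379a0beb3beb29480ab723b833b8296839682968196801d031d02f9b3f9b1cfb36f936f91fa21fa20a1e3e733e732e731624362426241de03de00c823c822c82174230b926e536e516e503e223e217f827f800ad30ad20ad03a9336b3f262f261b253b252b251713371327131a7b3a7b00892fc43fc420762076111a3a032a031a03096a396a296a185338532bce20da30da23ef33ef23ef1ac83ac827912,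 nat_lit 0x1db73db726b13770277011d4312d312d212d124d224d1d673466246617c82a103d4233fb33fb23fb014211420f373f3726db36db23d637a526fe312321231a42329a329a1043125e225e1d49259c359c259c1a5031fb31fb05ce35ce1aa02aa015573ef02ef01e373c7a0b9e2b9e1af022c632c618bc38bc28bc0375337507893789278919cb39cb01213782178207d815d035d00d7d3d7d2d7d06a53b553b552b551b550bc006113dc83356392335763576293839380cb93a963b132b131b13015834bf167d3a7c38ee29b939b9055938f438f838f828f81851385128511851047d347d247d147d03cc3f503f50203d203d1a4d3a4d23a632772c222c2212a722a71bea3d843d842d9c3a4b3a4b2a4b086d386d219421940169316921691336333613360b023b021b0208923, nat_lit 0x163d37e32ded2319131908672fa13fa11fa109ab19ab0e7b3e7b2fae3a113fc53fc52fc51fc509003269326913ce1e69377a17b91abd21f931f90a0b2a0b1e003a303a3025333e5b237133711491349124910bba266e366e176f376f2e512e5112c112c10e2f31dc19d0005722643eaa28f53e973fce3fce09e23c5b2c5b04dc26c52fc93fc92fc90bbb3bbb2a722195313a213a14b534b52c3c3eea1eea062e37e231db31db11db074127410de4214936d13fc636e12c352c351c7f3b6b29323932114c01590dbf2dbf082914fa2b4a3b4a2b4a172300ed3d662d6614923492163f363f113931392581210f37c4236d36fd36fd25e215e20fd616732f872f871f870b0a3c392382351d3fa62fa61fa6051f11bd37e538cc319b3ac4345e345e1c523c5225f335f325f305aa3,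 nat_lit 0x1e8830e72133365a22ab01fc0e3634b2132317cc2ec710f128c90bd82ca93b561b5608e52e8739e6226d07403025280b1b0601e33a6727d12db51db50496342e31c81c5d3cc0275e3c8d3c8d041d23271d5a12a63a9d32bd18951d860c713e650aac206f3f6b1ddc31302130126a226a06852c0b26a83750290b37c72551355122d432d42b943727372725b53c0c3bc51a2e2a2e1a2e0392308b184138412a193a191166272c2bfb20fb060b1cd32cd31e5e0d773d771c1a227a2fc7351314ff039833982cc43cc41cc4098412b622b61bc62bc6079f279f107b2f7c156035b2385c339d233314043d3a2b7d1bc21bc206231ec33f032]⟩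
def a2 : LvC := ⟨⟨nat_lit 29, nat_lit 0x80000000000000000000000000000000000000000000000000000000000000000000008000000000000000000000000000000000000000000000000000000000000000000000000000000000000000000000000000000000000000000000000000000000000000000000000000000000000000000000000000000000000000000000000000000000000000000000000000000000002000000000000000000000000100000000000000000000000000000000000000000000000000000000000000000000000000000000000000000000000000000000000000000000000000000000000000000000000000000000000000000000000000000200000000000000000000000000000000000000000000000000000000000000000000200000000000000000000000000000000000000000000000000000000008000000000000000000000000000000000000000000000000000000000000000000200000000000000000000000000000000000000000000000000000000000000000000000000000000000000000000000000000000000000000000000000000000000000000000000000000000000000000000000000000000000000000000000000000000000000000000000004000000000000000000000000000000000000000000000000000000000000020000000,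 nat_lit 10⟩, [nat_lit 0x2992e88, nat_lit 0x38f0d64], [nat_lit 0x111611160f4f1f4f078917890aa5101d101d0]⟩
def b1 : LvC := ⟨⟨nat_lit 30, nat_lit 0x4a8100020808008a220150000202148640c0304080c010012024214000400000600a020448022201200282f00000008001002098002110849c00008a008082400404200065000b1000000a600218800520101403040128403062002126488000840016001000822100080803105343280008043080a200110000008618100b80209009202080890100000420c110030800200004282020b10020a030842240800000002ca2002c20130010040ca09104402002a01088060010000950020282004406400000120101000a120000840220010004010200020080020000008b4002600800040410202510092000520082100100280081040031001200a24401e50a00000000900028000440c2080000c80104010000108400000400600040000082000a00100094003841011508001001818000200000c03416014240a40c40068100880220318006900e08000840288800809000004020042404040300002081001090001020101020800154982a28908900000082100088a814001081044200a0004040030c001080000008102000040000089600200000150005008029040500f0020250012a409030091e9002001240042049902048a00000088000040a0106002a8020000200100410300c02010900420080008221200020100000054002003820402042141331221859044123c805f0210208020411a40000000,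 nat_lit 640⟩, [nat_lit 1941, nat_lit 54260, nat_lit 41764], [nat_lit 0x1a412a411cb82cb81cb80c782c5f21881b812b8110d720d717dd2688108820880f422f421f420e492e491e490694269418d928d918d904791479029922991d6b2d6b1d6b0ba71ba7098f298f10a0193c293c09d629d619d60e232e231f9d2f9d11d121d111d109f5206729461946079627961e3f2e3f1e3f0b112b111b110090209011ad21ad0e282e280e812e811071107108b628b618542854185405952b232b231b230834283415d30268226812680ea91ea90ef22ef217fd27fd17fd0abf2abf1abf0de22de21de2045c245c1c1c2c1c1c1c03bc2e032571257115710dc92dc91dc900f620f61db92db91db900b5289c2265226512650fa32fa312db22db12db0b7a2b7a1b7a02b124f124f114f10247224712470aa72aa71aa70131213111310f992f99101e201e101e0, nat_lit 0x10d827672abe2abe1bb32bb30ead23d22c4f0b742b741b7409ca23ed14c0130c130c0c7220ca20ca10ca0f5d2f5d1d182d181d1807df27df1d5c1f322f321f320bf022f922f912f9075c275c1c2d2c2d0e852e851e8509a429a41a732a73156725671cf62cf6167f267f1ab52ab51ab50d48281022f402401d3d2d3d1d3d0d6f2d6f1d6f0087208711ef06fa26fa12a02d8520512f882cfc2262226200f420f41d111d110504250415962596017e202810280d192d191a072a071a0701102e2c2e2c1e2c011921191fbd11c121c1065b265b165b007a207a107a020b220b109925e52f6d2cd61e992e991e990a982a981785278517850bf7272e2abb0da72da71da702c52438243814380fd72fd716b026b016b00a5a2a5a1a5a0c411ecd2ecd0d812d811d8108da28da18da0,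 nat_lit 0x1f48062926291f750f3b249b23461f681f680480248019882988169a2283055029852985198506cd2e4328be28be18be0a042a041a040dfd17f62ecf2af12af100b0122f222f122f007420741ebe2a76282010a420a40a182a18046b246b11892b861b86056f256f18782878187802c222c212c20597259714eb28472ca518f328f318f301de234f28b0255324772b202b201b200eb72bf80f5a2f5a1f5a081c181c0c9c2c9c128622860c7d2c7d1c7d0dce2dce1cdb2cdb0c3b19eb16322632068c168c02cd12cd07bb27bb17bb0084208410840e8b2e8b1e8b0c6d1c6d067026701a942a94180d069f26a126a11c702c70142b242b142b0a7e1e632e63088928891889063316330521252117eb27eb17eb08a928a91be70dba2dba1dba022922291505250516281f952f951, nat_lit 0x15b325b315b3099c299c1bd903b723b71421228026dd04682d121a2f2a2f02a31d87004c24d817381b512b511b51079220591bc70fb72da02da007332aed11a021a012ad01cb1865019021901be32be301e42bc42bc4102e102e006b206b1cf92cf91cf905fe261226120ea52be42be40cc81a882a880175106c1d701d700c6a1c6a041f18ef20a110a10bfe2bfe13f6289828492de52de51a26007e207e1c031c030aa1286025e62a432a431a4303791244288f288f070a2d2c25f715f7065c0b092b091b0908dd2f522f5217ec17ec02560e1e1e1e07e427e41da51da505b923fc23fc14831f1c2f1c1f1c0d3c22432243124300d123b623b617ea2f8c1f8c0ed92ed912881c201c200b5f2a252a25180328031d5e1d5e0bab20e516b32d362ec52ec501f621f61f482f481,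 nat_lit 0x16cf18ea22f72c311c31040819652f3309ad29ad1c461a95161e091b183b205c23e31a6424a119b0096e196e0da417b8257a186b186b043d257f2023278a07161b9c2b9c1f0e03a313a304181bd32]⟩
def b2 : LvC := ⟨⟨nat_lit 26, nat_lit 0x10000000000000000000000000000000000000000000000000000000000000010000000000000000000000000000000000000000000000400000000000000000000000000000000000000000000000000000000000000000000000000000000000200000000000002000000000000000000000000000000000000000000000000000000000000000000000000000000000000000000000000000000000000000000000000000000000000000000000000000000000000200000000000000000000000000000000000000000000000000000010000000000000000000000000000000000000000010000000000000000000000000000000000000000000000000000000000000000000000000000000000000000000002000000000000000000000000000000000000000200000000000000000000000000000000000000000080000000000000000000000000000000000000000000000000000000000000000000000000000000000000000000000000000000000000000000000000000000000000000000000000000000000000000000000000000000000000000000000000000000000001000000000000000000000020000000000000000000000000000000400000000000000000000000000000000000000000000000000000000000008000000000000000000000000000004000000,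 nat_lit 16⟩, [nat_lit 48310, nat_lit 0x2b1400a, nat_lit 0x7d045e60, nat_lit 0x5ca16c80], [nat_lit 0x1c8d318a3dde359b359b2264385c385c2f943f942f94101a301a201a101a0]⟩
def c1 : LvC := ⟨⟨nat_lit 50, nat_lit 0x1000000000000000000000000000020000000000000202080000000000000000000000000000000000010014280000002400000000000000000000000001200011001000000000008000000000000000040080000000080000000000000000000000000000480000000000000000000000000000000000040000000000004000000000401000000200000000004000000000000000000000000000000000000000000000000000000000000000000000000200008000000000800000000000002000000000000020000020000000000000800000000000000000008000000001000000000020008000004100800000000000000000000002000000000000008000000080000000000000000000000000000020800800000000000000004000000010000000000000000000000000000000800000000080010000000004010000000000002000000000000000000000040000001000000000000000000000000000000000800000004000000000000000000040000020020000000000000000020000000000000000000008000000100028000000000080020000000800000000000000000000020000000000000800000000000000000000000000000000000000000000000000000000000001000000000000000000000000000000000000000010000800000000400000000000800000004000000000000,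 nat_lit 80⟩, [nat_lit 1941, nat_lit 54260, nat_lit 41764], [nat_lit 0x1baa1d832dc008c4208225de1a2314a3233f2d0f2f0d2e5f10a715462546063b263b163b0b852b851b850fc02fc016b826b818722872187206da1313131305a125a11863234113410f4d2f4d1613261316130bd223052305115c215c1f072f071f0709c129c106042604160409fb29fb19fb0e3e2e3e18eb28eb18eb0dd425d40e412e41188b288b188b0a352a350e742e741e7407ab27ab1032203210320]⟩
def d1 : LvC := ⟨⟨nat_lit 622, nat_lit 0x5000000000000000000000000000000000140000000000000000000000000000000000000000000000000000000000000000000000000000000000000000000000000000000000000000000000000000000000000000000000000000000000000000000000000000000000000000000000000000000000000000000000000000000000000000000000000000000000030000000000000000000000000000000000000000000000000000000000000000000000000000000000000000000000000000000000000000c0000000000000000000000000000000000000000000000000000000000000000000000000000000000000000000000000000000000000000000000000000000000000000000c00000000000000000000000000000000000000000000000000000000000000000000000000000000000000000000000000000000000000000000000000000000000000000000000000000000000,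 nat_lit 10⟩, [nat_lit 1941, nat_lit 54260, nat_lit 41764], [nat_lit 0x1ade2ade06601660049e249e126e226e126e0]⟩
def mA : ℕ := nat_lit 0
def uA : ℕ := nat_lit 1337
def qA : List LQ := [⟨a1.L, [], nat_lit 1337, [nat_lit 0x2992e88, nat_lit 0x38f0d64], [nat_lit 0x11d009de02091209068511d411d40f341f34083d183d02a718001800033613360fa11fa1029f129f072c1474147401c8011a125e125e017e117e00c110c1075617560f481d011d010bc31bc3051115110c891c8903a91e9f1e9f048b148b09bb19bb0723172301661467146707351735098e198e046a146a0e7d1beb1beb0c7a0fa21ef51ef506841684045c145c02f712f705b31f191f1903260b3d17e817e80d591d5905d315d3084918490a9518d918d903841384021a121a055e155e036b11d911d90cd61cd6057115710d111d1103f61d851d85067316730f841f8402d212d20300199a199a08750479169a169a072417240d031d030cee1cee037211bd11bd06121612061416140256125602b1105a105a00210a00174c174c063b163b0d0f1d0f0adc1adc049f149f0, nat_lit 0x163f163f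03d513d50ae41ae400ce10ce0c5b1e901e900a751a750bfb1bfb071117110a0b16f516f50be61be609e81d1b0a4d1a4d0e6f1e6f08ae18ae0c4b1bc21bc20e6506711d5d1d5d00b710b70de01de0011311130d7a1eef1eef0ecf1ecf02391239005910590cc81f5d1f5d070101ba1bdf1bdf0431143102bf16e80a3f1a3f0dc71d670780178000c510c504b514b500d01f9b1f9b0c611c6100b010b00e831e830deb1b0b1b0b0f8a1f8a0b651b6502c212c2051e165c165c03b713b705fe15fe0796179609ed1bc71bc702e112e10ecc1ecc0be11be100891f671f670c9a1c9a0971186c0fc51fc505331533048f148f0c0b19ae19ae03e813e80aaa12c107cc17cc060b160b076317630f6117ba17ba0a981a980e9c1e9c0fd51fd5046813a813a8092b011111d01, nat_lit 0x1a2d1a2d0ec71ec70b6d1194119405b515b50fb31fb306bd16bd0b1f19be19be05281528072b172b071f171f088b17ab17ab008b108b0ee71ee70ca71ca703ce13ce0678167805aa1e6b1e6b01f909041e871e870c521c520bba1bba0ad31ad3010b1b021b0209ea19ea025c125c0343134306d810fc10fc0a4a03dd1a421a420c461c4607ec17ec0abf1abf0b811d0d1d0d05de15de0b5a1c97063216320b511b510c6d1c6d04f1196519650370137006241624030d130d0ca615bc15bc0b861b860b001b0009eb19eb0c20162916290434143401b911b9089e189e0477147701cf11cf05a31f421f4206b316b300a410a401d111d10c1c1bd31bd30cc51cc5019011900f6d1f6d0cfc1de21de208980b39102e102e0dce1dce02a012a0024a124a0bab1eb71eb703850cc41,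 nat_lit 0x15e315e30e8d1e8d0f661f491f490393139308f818f8098219820bd51acc1acc03e113e107921792034b134b01551b371b370d49056c154a154a0229122901a011a002b412b404d01a511a5109111911050f150f0941194109a81c9b1c9b066e166e06ee16ee077b177b026d139e139e0c3d1c3d05521552019c119c064e1f261f2601ef11ef02d912d90a041a040a881ac11ac10a5a1a5a030313030463146309a419b019b006261626015a1d2c0051034817dd17dd0872187205a115a10ba01ba00b851546154608b918b902b012b006fd16fd01a91e701e70033d0efa13c413c40547154705f415f40782012e163e163e0b941b94057615760269126902b316ba16ba0c8c1c8c03f913f90205120500381f6b1f6b056715670e8b1e8b02ee12ee0a251f1c1f1c004210420, nat_lit 0x1e4c1e4c0ba1155d155d07f818700ab71ab7085018500a031a03039f1b1d1b1d0cae0776177609221be01be002f112f1003a103a07171086108608f618f60bea1bea0d7d1d7d050b1369136908711871039213920c391c390c22173717370d901d900b241b2401c011c005ba1559155906c016c006fa16fa0d701d700da0148a148a0555155504e814e80d5b1d5b03cc15d015d008ef18ef006c106c091b191b0fda11641164004810480dea1dea079e179e0319173417340afb1afb0de51de5057f157f05c51ba41ba40fd30da512f912f90abe1abe00991099048c148c0eba1aea1aea071406e516e508f1119d03821de41de4094819480e2f1e2f0d401d400a7d1f001f000dbf1dbf08df16ce0dff1dff077f177f0820182001351ed91ed908770a2e16fc16fc0c311c310,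 nat_lit 0x16b808631f071f0704190d3e14a314a30d3a0a21164516450cf603b61be51be50b0a1b0a0b0f1b0f0a6b1a6b0e1e1e1e028812880fbd1f521f5206a204a91065106505860b171b170dd0141d09d21ab81ab80fa41fa409051905008a108a0c401c400e541e540be71be702db12db0b741cf91cf90de91de90af01af000e710e702d418870a110b141b1408231a0101d5118411840a401a40047d147d0e371e370675158b158b034a134a0bd81a220f6f009310930b32191909d81e521e520bca03a119361936032e0c8a192a192a0fcc1fcc076b176b0da41da4006b1e401e4000a510a50f0e1f0e0275127507a71244124406a80e9819291929049614960dd7129a0ce10b6b118c118c0e660e411f0d1f0d09f80]⟩,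
  ⟨a2.L, [nat_lit 29, nat_lit 278, nat_lit 1149, nat_lit 1419, nat_lit 1653, nat_lit 1929, nat_lit 2624, nat_lit 2725, nat_lit 3639, nat_lit 3919], nat_lit 52720, [], []⟩]
def tA0 : CT := .cons (nat_lit 3372) (nat_lit 1) (.leaf 1 (nat_lit 0x40245c4a) (nat_lit 58)) (.cons (nat_lit 3403) (nat_lit 0x2550bf9) (.leaf 1 (nat_lit 0x632f3f77) (nat_lit 1030)) (.cons (nat_lit 1574) (nat_lit 0x2851969) (.leaf 1 (nat_lit 0x6101911c) (nat_lit 32)) (.cons (nat_lit 3044) (nat_lit 0x38f0d64) (.leaf 1 (nat_lit 0x2222cc3) (nat_lit 58)) (.cons (nat_lit 3631) (nat_lit 0x3e480bb) (.leaf 1 (nat_lit 0x36e23d3) (nat_lit 43)) (.cons (nat_lit 231) (nat_lit 0x2e5196f) (.leaf 1 (nat_lit 0x1d011c) (nat_lit 32)) (.cons (nat_lit 1388) (nat_lit 0x2992e88) (.leaf 1 (nat_lit 0x448e091e) (nat_lit 1)) (.cons (nat_lit 484) (nat_lit 0x52199008) (.leaf 1 (nat_lit 0x2210b39) (nat_lit 52)) (.cons (nat_lit 2183)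 (nat_lit 0x4b9b39c8) (.leaf 1 (nat_lit 0x14ae42) (nat_lit 1046)) (.cons (nat_lit 3840) (nat_lit 0x4b9d1808) (.leaf 1 (nat_lit 0x31b2682) (nat_lit 53)) .nil)))))))))
def tA1 : CT := .cons (nat_lit 3002) (nat_lit 1) (.leaf 1 (nat_lit 0x22124dc) (nat_lit 1042)) (.cons (nat_lit 111) (nat_lit 0x2550bf9) (.leaf 1 (nat_lit 0x7e347c99) (nat_lit 47)) (.cons (nat_lit 2818) (nat_lit 0x2851969) (.leaf 1 (nat_lit 51113) (nat_lit 60)) (.cons (nat_lit 3775) (nat_lit 0x38f0d64) (.leaf 1 (nat_lit 0x32b277d) (nat_lit 35)) (.cons (nat_lit 1024) (nat_lit 0x3e480bb) (.leaf 1 (nat_lit 0x2baab5d) (nat_lit 59)) (.cons (nat_lit 61) (nat_lit 0x2e5196f) (.leaf 1 (nat_lit 0x1fc91e) (nat_lit 58)) (.cons (nat_lit 2749) (nat_lit 0x2992e88) (.leaf 1 (nat_lit 0x29486db) (nat_lit 54)) (.cons (nat_lit 1589) (nat_lit 0x52199008) (.leaf 1 (nat_lit 0x417f5868) (nat_lit 1052)) (.cons (nat_lit 302) (nat_lit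 0x4b9b39c8) (.leaf 1 (nat_lit 0x2eb7ebb) (nat_lit 38)) (.cons (nat_lit 72) (nat_lit 0x4b9d1808) (.leaf 1 (nat_lit 0x4d44ba09) (nat_lit 32)) .nil)))))))))
def tA2 : CT := .cons (nat_lit 3197) (nat_lit 1) (.leaf 1 (nat_lit 0x717bbd42) (nat_lit 38)) (.cons (nat_lit 3931) (nat_lit 0x2550bf9) (.leaf 1 (nat_lit 0x7c1aedc9) (nat_lit 60)) (.cons (nat_lit 3353) (nat_lit 0x2851969) (.leaf 1 (nat_lit 0x5e2572e1) (nat_lit 40)) (.cons (nat_lit 2027) (nat_lit 0x38f0d64) (.leaf 1 (nat_lit 0x688c8969) (nat_lit 1304)) (.cons (nat_lit 1255) (nat_lit 0x3e480bb) (.leaf 1 (nat_lit 0x53343d10) (nat_lit 33)) (.cons (nat_lit 2514) (nat_lit 0x2e5196f) (.leaf 1 (nat_lit 0x2155850) (nat_lit 41)) (.cons (nat_lit 209) (nat_lit 0x2992e88) (.leaf 1 (nat_lit 0x2b9d163) (nat_lit 58)) (.cons (nat_lit 2751) (nat_lit 0x52199008) (.leaf 1 (nat_lit 0x41bffc4b) (nat_lit 1038)) (.cons (nat_lit 2420) (nat_lit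 0x4b9b39c8) (.leaf 1 (nat_lit 0x529a2888) (nat_lit 1048)) (.cons (nat_lit 2028) (nat_lit 0x4b9d1808) (.leaf 1 (nat_lit 0x69b92d31) (nat_lit 52)) .nil)))))))))
def tA3 : CT := .cons (nat_lit 3081) (nat_lit 1) (.leaf 1 (nat_lit 0x2aea350) (nat_lit 50)) (.cons (nat_lit 3913) (nat_lit 0x2550bf9) (.leaf 1 (nat_lit 0x2a9f911) (nat_lit 52)) (.cons (nat_lit 2549) (nat_lit 0x2851969) (.leaf 1 (nat_lit 0x5c97ee77) (nat_lit 32)) (.cons (nat_lit 3666) (nat_lit 0x38f0d64) (.leaf 1 (nat_lit 0x603f4be6) (nat_lit 40)) (.cons (nat_lit 1053) (nat_lit 0x3e480bb) (.leaf 1 (nat_lit 0x45e70e79) (nat_lit 34)) (.cons (nat_lit 4032) (nat_lit 0x2e5196f) (.leaf 1 (nat_lit 0x44810084) (nat_lit 38)) (.cons (nat_lit 1123) (nat_lit 0x2992e88) (.leaf 1 (nat_lit 0x2255ac4) (nat_lit 60)) (.cons (nat_lit 484) (nat_lit 0x52199008) (.leaf 1 (nat_lit 0x3e92e0e) (nat_lit 1545)) (.cons (nat_lit 3264) (nat_lit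 0x4b9b39c8) (.leaf 1 (nat_lit 0x648ffc03) (nat_lit 43)) (.cons (nat_lit 1431) (nat_lit 0x4b9d1808) (.leaf 1 (nat_lit 0x60e482a5) (nat_lit 50)) .nil)))))))))
def tA4 : CT := .cons (nat_lit 671) (nat_lit 1) (.leaf 1 (nat_lit 0x3b44789) (nat_lit 63)) (.cons (nat_lit 562) (nat_lit 0x2550bf9) (.leaf 1 (nat_lit 0x2a1a6bf) (nat_lit 1052)) (.cons (nat_lit 847) (nat_lit 0x2851969) (.leaf 1 (nat_lit 0x23b237f) (nat_lit 56)) (.cons (nat_lit 3518) (nat_lit 0x38f0d64) (.leaf 1 (nat_lit 0x5295c2bf) (nat_lit 1)) (.cons (nat_lit 1973) (nat_lit 0x3e480bb) (.leaf 1 (nat_lit 0x1bec1b) (nat_lit 59)) (.cons (nat_lit 393) (nat_lit 0x2e5196f) (.leaf 1 (nat_lit 0x69b92e77) (nat_lit 1554)) (.cons (nat_lit 3728) (nat_lit 0x2992e88) (.leaf 1 (nat_lit 0x500b4851) (nat_lit 34)) (.cons (nat_lit 961) (nat_lit 0x52199008) (.leaf 1 (nat_lit 0x3d4ee00) (nat_lit 48)) (.cons (nat_lit 260) (nat_lit 0x4b9b39c8)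 (.leaf 1 (nat_lit 0x3696d78) (nat_lit 1)) (.cons (nat_lit 1383) (nat_lit 0x4b9d1808) (.leaf 1 (nat_lit 0x284786b) (nat_lit 1032)) .nil)))))))))
def tA5 : CT := .cons (nat_lit 122) (nat_lit 1) (.leaf 1 (nat_lit 0x54855523) (nat_lit 48)) (.cons (nat_lit 2284) (nat_lit 0x2550bf9) (.leaf 1 (nat_lit 0x2a0751a) (nat_lit 60)) (.cons (nat_lit 1265) (nat_lit 0x2851969) (.leaf 1 (nat_lit 0x22ffc63) (nat_lit 32)) (.cons (nat_lit 3942) (nat_lit 0x38f0d64) (.leaf 1 (nat_lit 0x2a98b7e) (nat_lit 40)) (.cons (nat_lit 3341) (nat_lit 0x3e480bb) (.leaf 1 (nat_lit 0x228a3c3) (nat_lit 34)) (.cons (nat_lit 1371) (nat_lit 0x2e5196f) (.leaf 1 (nat_lit 0x68f16ec4) (nat_lit 1)) (.cons (nat_lit 993) (nat_lit 0x2992e88) (.leaf 1 (nat_lit 0x2832210) (nat_lit 1032)) (.cons (nat_lit 309) (nat_lit 0x52199008) (.leaf 1 (nat_lit 0x500f8e46) (nat_lit 43)) (.cons (nat_lit 3842) (nat_lit 0x4b9b39c8) (.leaf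 1 (nat_lit 0x1b551c) (nat_lit 1042)) (.cons (nat_lit 1938) (nat_lit 0x4b9d1808) (.leaf 1 (nat_lit 0x606f4be6) (nat_lit 59)) .nil)))))))))
def tA6 : CT := .cons (nat_lit 3614) (nat_lit 1) (.leaf 1 (nat_lit 0x33dc5e2) (nat_lit 1)) (.cons (nat_lit 3868) (nat_lit 0x2550bf9) (.leaf 1 (nat_lit 0x295a718) (nat_lit 52)) (.cons (nat_lit 2128) (nat_lit 0x2851969) (.leaf 1 (nat_lit 0x43812920) (nat_lit 35)) (.cons (nat_lit 3050) (nat_lit 0x38f0d64) (.leaf 1 (nat_lit 0x39cad2b) (nat_lit 52)) (.cons (nat_lit 2160) (nat_lit 0x3e480bb) (.leaf 1 (nat_lit 0x3eb444a) (nat_lit 62)) (.cons (nat_lit 231) (nat_lit 0x2e5196f) (.leaf 1 (nat_lit 0x3ab2675) (nat_lit 58)) (.cons (nat_lit 950) (nat_lit 0x2992e88) (.leaf 1 (nat_lit 0x32ba93c) (nat_lit 1030)) (.cons (nat_lit 251) (nat_lit 0x52199008) (.leaf 1 (nat_lit 0x61c8aa7b) (nat_lit 33)) (.cons (nat_lit 1598) (nat_lit 0x4b9b39c8) (.leaf 1 (nat_lit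 0x712f5175) (nat_lit 33)) (.cons (nat_lit 4044) (nat_lit 0x4b9d1808) (.leaf 1 (nat_lit 0x31b264b) (nat_lit 52)) .nil)))))))))
def tA7 : CT := .cons (nat_lit 3922) (nat_lit 1) (.leaf 1 (nat_lit 0x2a92ad9) (nat_lit 1040)) (.cons (nat_lit 416) (nat_lit 0x2550bf9) (.leaf 1 (nat_lit 0x309d53d) (nat_lit 56)) (.cons (nat_lit 3047) (nat_lit 0x2851969) (.leaf 1 (nat_lit 0x3ad3fca) (nat_lit 32)) (.cons (nat_lit 2296) (nat_lit 0x38f0d64) (.leaf 1 (nat_lit 0x36c8bca) (nat_lit 54)) (.cons (nat_lit 837) (nat_lit 0x3e480bb) (.leaf 1 (nat_lit 0x315eec2) (nat_lit 40)) (.cons (nat_lit 3631) (nat_lit 0x2e5196f) (.leaf 1 (nat_lit 0x17c457) (nat_lit 1564)) (.cons (nat_lit 2412) (nat_lit 0x2992e88) (.leaf 1 (nat_lit 0x2997d20) (nat_lit 38)) (.cons (nat_lit 3337) (nat_lit 0x52199008) (.leaf 1 (nat_lit 0x45c46bd6) (nat_lit 1052)) (.cons (nat_lit 3779) (nat_lit 0x4b9b39c8) (.leaf 1 (nat_lit 0x556ca42e)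 (nat_lit 34)) (.cons (nat_lit 2826) (nat_lit 0x4b9d1808) (.leaf 1 (nat_lit 0x51a42b17) (nat_lit 43)) .nil)))))))))
def tA8 : CT := .cons (nat_lit 1540) (nat_lit 1) (.leaf 1 (nat_lit 0x63e0a0a3) (nat_lit 1052)) (.cons (nat_lit 1824) (nat_lit 0x2550bf9) (.leaf 1 (nat_lit 0x74e1dfc5) (nat_lit 60)) (.cons (nat_lit 2932) (nat_lit 0x2851969) (.leaf 1 (nat_lit 0x45e069fc) (nat_lit 1559)) (.cons (nat_lit 559) (nat_lit 0x38f0d64) (.leaf 1 (nat_lit 0x28f0542) (nat_lit 48)) (.cons (nat_lit 2160) (nat_lit 0x3e480bb) (.leaf 1 (nat_lit 0x1dcdc3) (nat_lit 50)) (.cons (nat_lit 341) (nat_lit 0x2e5196f) (.leaf 1 (nat_lit 0x5561bcd3) (nat_lit 1)) (.cons (nat_lit 1661) (nat_lit 0x2992e88) (.leaf 1 (nat_lit 0x51eaeffa) (nat_lit 57)) (.cons (nat_lit 605) (nat_lit 0x52199008) (.leaf 1 (nat_lit 0x75a00bda) (nat_lit 58)) (.cons (nat_lit 2287) (nat_lit 0x4b9b39c8) (.leaf 1 (nat_lit 0x33d1442)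 (nat_lit 34)) (.cons (nat_lit 3197) (nat_lit 0x4b9d1808) (.leaf 1 (nat_lit 0x4dd58cb1) (nat_lit 58)) .nil)))))))))
def tA9 : CT := .cons (nat_lit 3496) (nat_lit 1) (.leaf 1 (nat_lit 0x60ae7829) (nat_lit 1033)) (.cons (nat_lit 3668) (nat_lit 0x2550bf9) (.leaf 1 (nat_lit 0x47f481d7) (nat_lit 47)) (.cons (nat_lit 3706) (nat_lit 0x2851969) (.leaf 1 (nat_lit 0x1d03f6) (nat_lit 38)) (.cons (nat_lit 3029) (nat_lit 0x38f0d64) (.leaf 1 (nat_lit 0x31423f0) (nat_lit 1039)) (.cons (nat_lit 2685) (nat_lit 0x3e480bb) (.leaf 1 (nat_lit 0x224a6a8) (nat_lit 48)) (.cons (nat_lit 3931) (nat_lit 0x2e5196f) (.leaf 1 (nat_lit 0x3cdd960) (nat_lit 35)) (.cons (nat_lit 3063) (nat_lit 0x2992e88) (.leaf 1 (nat_lit 0x2214102) (nat_lit 53)) (.cons (nat_lit 729) (nat_lit 0x52199008) (.leaf 1 (nat_lit 0x2154c3b) (nat_lit 35)) (.cons (nat_lit 3645) (nat_lit 0x4b9b39c8) (.leaf 1 (nat_lit 0x31ca46f) (nat_lit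 32)) (.cons (nat_lit 993) (nat_lit 0x4b9d1808) (.leaf 1 (nat_lit 0x4485b921) (nat_lit 32)) .nil)))))))))
def tA10 : CT := .cons (nat_lit 448) (nat_lit 1) (.leaf 1 (nat_lit 0x5f1b135c) (nat_lit 1)) (.cons (nat_lit 847) (nat_lit 0x2550bf9) (.leaf 1 (nat_lit 0x2aa6d2f) (nat_lit 54)) (.cons (nat_lit 2337) (nat_lit 0x2851969) (.leaf 1 (nat_lit 0x3bb588f) (nat_lit 32)) (.cons (nat_lit 1614) (nat_lit 0x38f0d64) (.leaf 1 (nat_lit 0x224fff3) (nat_lit 1)) (.cons (nat_lit 2660) (nat_lit 0x3e480bb) (.leaf 1 (nat_lit 0x116958) (nat_lit 41)) (.cons (nat_lit 2553) (nat_lit 0x2e5196f) (.leaf 1 (nat_lit 0x6104c2a2) (nat_lit 41)) (.cons (nat_lit 2419) (nat_lit 0x2992e88) (.leaf 1 (nat_lit 0x33d0632) (nat_lit 33)) (.cons (nat_lit 3845) (nat_lit 0x52199008) (.leaf 1 (nat_lit 0x3e128ab) (nat_lit 50)) (.cons (nat_lit 2690) (nat_lit 0x4b9b39c8) (.leaf 1 (nat_lit 0x3b4c5f2) (nat_lit 1030)) (.cons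 (nat_lit 393) (nat_lit 0x4b9d1808) (.leaf 1 (nat_lit 0x117e0e) (nat_lit 54)) .nil)))))))))
def tA11 : CT := .cons (nat_lit 837) (nat_lit 1) (.leaf 1 (nat_lit 0x223392f) (nat_lit 56)) (.cons (nat_lit 111) (nat_lit 0x2550bf9) (.leaf 1 (nat_lit 0x79b83eea) (nat_lit 32)) (.cons (nat_lit 553) (nat_lit 0x2851969) (.leaf 1 (nat_lit 0x408d2402) (nat_lit 1042)) (.cons (nat_lit 694) (nat_lit 0x38f0d64) (.leaf 1 (nat_lit 0x3146cc3) (nat_lit 1)) (.cons (nat_lit 2084) (nat_lit 0x3e480bb) (.leaf 1 (nat_lit 0x743fbac9) (nat_lit 34)) (.cons (nat_lit 2826) (nat_lit 0x2e5196f) (.leaf 1 (nat_lit 0x147abe) (nat_lit 53)) (.cons (nat_lit 3857) (nat_lit 0x2992e88) (.leaf 1 (nat_lit 0x1b8772) (nat_lit 34)) (.cons (nat_lit 2641) (nat_lit 0x52199008) (.leaf 1 (nat_lit 0x7d459468) (nat_lit 54)) (.cons (nat_lit 2315) (nat_lit 0x4b9b39c8) (.leaf 1 (nat_lit 0x3c8a53f) (nat_lit 60)) (.cons (nat_lit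 3232) (nat_lit 0x4b9d1808) (.leaf 1 (nat_lit 0x31d2600) (nat_lit 48)) .nil)))))))))
def tA12 : CT := .cons (nat_lit 2800) (nat_lit 1) (.leaf 1 (nat_lit 0x1d4f3d) (nat_lit 1)) (.cons (nat_lit 2346) (nat_lit 0x2550bf9) (.leaf 1 (nat_lit 0x68f54108) (nat_lit 33)) (.cons (nat_lit 1489) (nat_lit 0x2851969) (.leaf 1 (nat_lit 0x608338b6) (nat_lit 54)) (.cons (nat_lit 3472) (nat_lit 0x38f0d64) (.leaf 1 (nat_lit 0x2090bcf) (nat_lit 1027)) (.cons (nat_lit 3561) (nat_lit 0x3e480bb) (.leaf 1 (nat_lit 0x2346b96) (nat_lit 1)) (.cons (nat_lit 1466) (nat_lit 0x2e5196f) (.leaf 1 (nat_lit 0x3255c9e) (nat_lit 54)) (.cons (nat_lit 3227) (nat_lit 0x2992e88) (.leaf 1 (nat_lit 0x31cf530) (nat_lit 56)) (.cons (nat_lit 794) (nat_lit 0x52199008) (.leaf 1 (nat_lit 0x3a45d45) (nat_lit 40)) (.cons (nat_lit 314) (nat_lit 0x4b9b39c8) (.leaf 1 (nat_lit 0x5c48f763) (nat_lit 38)) (.cons (nat_lit 3265)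 (nat_lit 0x4b9d1808) (.leaf 1 (nat_lit 0x3aa2bbf) (nat_lit 56)) .nil)))))))))
def tA13 : CT := .cons (nat_lit 3040) (nat_lit 1) (.leaf 1 (nat_lit 0x79ebeec3) (nat_lit 50)) (.cons (nat_lit 873) (nat_lit 0x2550bf9) (.leaf 1 (nat_lit 0x23d5510) (nat_lit 41)) (.cons (nat_lit 3157) (nat_lit 0x2851969) (.leaf 1 (nat_lit 0x2a73b0e) (nat_lit 60)) (.cons (nat_lit 356) (nat_lit 0x38f0d64) (.leaf 1 (nat_lit 0x6161f631) (nat_lit 1)) (.cons (nat_lit 971) (nat_lit 0x3e480bb) (.leaf 1 (nat_lit 0x22f0c99) (nat_lit 56)) (.cons (nat_lit 1362) (nat_lit 0x2e5196f) (.leaf 1 (nat_lit 0x1fd85a) (nat_lit 1024)) (.cons (nat_lit 3919) (nat_lit 0x2992e88) (.leaf 1 (nat_lit 0x1d77f2) (nat_lit 48)) (.cons (nat_lit 2729) (nat_lit 0x52199008) (.leaf 1 (nat_lit 0x2f96d2b) (nat_lit 56)) (.cons (nat_lit 405) (nat_lit 0x4b9b39c8) (.leaf 1 (nat_lit 0x71f75c38) (nat_lit 55)) (.cons (nat_lit 1824) (nat_lit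 0x4b9d1808) (.leaf 1 (nat_lit 0x21dc2a8) (nat_lit 55)) .nil)))))))))
def tA14 : CT := .cons (nat_lit 729) (nat_lit 1) (.leaf 1 (nat_lit 0x2ac27b0) (nat_lit 62)) (.cons (nat_lit 978) (nat_lit 0x2550bf9) (.leaf 1 (nat_lit 0x2aec07d) (nat_lit 32)) (.cons (nat_lit 134) (nat_lit 0x2851969) (.leaf 1 (nat_lit 0x29f6ae1) (nat_lit 48)) (.cons (nat_lit 3212) (nat_lit 0x38f0d64) (.leaf 1 (nat_lit 0x6d286a49) (nat_lit 50)) (.cons (nat_lit 3136) (nat_lit 0x3e480bb) (.leaf 1 (nat_lit 0x2beaed3) (nat_lit 52)) (.cons (nat_lit 2089) (nat_lit 0x2e5196f) (.leaf 1 (nat_lit 0x61cfec70) (nat_lit 32)) (.cons (nat_lit 3386) (nat_lit 0x2992e88) (.leaf 1 (nat_lit 0x2a75a9b) (nat_lit 35)) (.cons (nat_lit 66) (nat_lit 0x52199008) (.leaf 1 (nat_lit 0x402d8840) (nat_lit 1552)) (.cons (nat_lit 3022) (nat_lit 0x4b9b39c8) (.leaf 1 (nat_lit 0x3716811) (nat_lit 58)) (.cons (nat_lit 3868) (nat_lit 0x4b9d1808)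 (.leaf 1 (nat_lit 0x788c2376) (nat_lit 1)) .nil)))))))))
def tA15 : CT := .cons (nat_lit 3853) (nat_lit 1) (.leaf 1 (nat_lit 0x2f8aa1b) (nat_lit 40)) (.cons (nat_lit 1468) (nat_lit 0x2550bf9) (.leaf 1 (nat_lit 0x204c068) (nat_lit 54)) (.cons (nat_lit 1960) (nat_lit 0x2851969) (.leaf 1 (nat_lit 0x26b7e42) (nat_lit 58)) (.cons (nat_lit 461) (nat_lit 0x38f0d64) (.leaf 1 (nat_lit 0x28fd969) (nat_lit 48)) (.cons (nat_lit 1167) (nat_lit 0x3e480bb) (.leaf 1 (nat_lit 0x3022119) (nat_lit 52)) (.cons (nat_lit 3566) (nat_lit 0x2e5196f) (.leaf 1 (nat_lit 0x45ae447b) (nat_lit 50)) (.cons (nat_lit 2972) (nat_lit 0x2992e88) (.leaf 1 (nat_lit 0x408dcac3) (nat_lit 50)) (.cons (nat_lit 822) (nat_lit 0x52199008) (.leaf 1 (nat_lit 0x3e45e2a) (nat_lit 57)) (.cons (nat_lit 989) (nat_lit 0x4b9b39c8) (.leaf 1 (nat_lit 0x2ff4dfc) (nat_lit 56)) (.cons (nat_lit 3318) (nat_lit 0x4b9d1808) (.leaf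 1 (nat_lit 0x623befbf) (nat_lit 1032)) .nil)))))))))
def tA16 : CT := .cons (nat_lit 3591) (nat_lit 1) (.leaf 1 (nat_lit 0x51ef585a) (nat_lit 58)) (.cons (nat_lit 3634) (nat_lit 0x2550bf9) (.leaf 1 (nat_lit 0x5190fe71) (nat_lit 40)) (.cons (nat_lit 2345) (nat_lit 0x2851969) (.leaf 1 (nat_lit 0x63b9bd7f) (nat_lit 40)) (.cons (nat_lit 3419) (nat_lit 0x38f0d64) (.leaf 1 (nat_lit 0x3258fff) (nat_lit 62)) (.cons (nat_lit 1929) (nat_lit 0x3e480bb) (.leaf 1 (nat_lit 0x3545f28) (nat_lit 1024)) (.cons (nat_lit 3213) (nat_lit 0x2e5196f) (.leaf 1 (nat_lit 0x51cdbc3e) (nat_lit 1)) (.cons (nat_lit 37) (nat_lit 0x2992e88) (.leaf 1 (nat_lit 0x529fe9ce) (nat_lit 41)) (.cons (nat_lit 3223) (nat_lit 0x52199008) (.leaf 1 (nat_lit 0x6c3c2dc6) (nat_lit 40)) (.cons (nat_lit 3376) (nat_lit 0x4b9b39c8) (.leaf 1 (nat_lit 0x65f84ff0) (nat_lit 35)) (.cons (nat_lit 3770) (nat_lit 0x4b9d1808) (.leaf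 1 (nat_lit 0x3ab9352) (nat_lit 38)) .nil)))))))))
def tA17 : CT := .cons (nat_lit 1468) (nat_lit 1) (.leaf 1 (nat_lit 0x31488d4) (nat_lit 41)) (.cons (nat_lit 2897) (nat_lit 0x2550bf9) (.leaf 1 (nat_lit 0x644dda3f) (nat_lit 58)) (.cons (nat_lit 3095) (nat_lit 0x2851969) (.leaf 1 (nat_lit 0x2046824) (nat_lit 38)) (.cons (nat_lit 3337) (nat_lit 0x38f0d64) (.leaf 1 (nat_lit 0x71bb013f) (nat_lit 50)) (.cons (nat_lit 2472) (nat_lit 0x3e480bb) (.leaf 1 (nat_lit 0x22fcb59) (nat_lit 49)) (.cons (nat_lit 3181) (nat_lit 0x2e5196f) (.leaf 1 (nat_lit 0x70855e3c) (nat_lit 40)) (.cons (nat_lit 1856) (nat_lit 0x2992e88) (.leaf 1 (nat_lit 0x3f9e892) (nat_lit 52)) (.cons (nat_lit 2534) (nat_lit 0x52199008) (.leaf 1 (nat_lit 0x3cfcefb) (nat_lit 1032)) (.cons (nat_lit 2321) (nat_lit 0x4b9b39c8) (.leaf 1 (nat_lit 0x6d28935d) (nat_lit 60)) (.cons (nat_lit 3728) (nat_lit 0x4b9d1808) (.leaf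 1 (nat_lit 0x3b827ce) (nat_lit 1)) .nil)))))))))
def tA18 : CT := .cons (nat_lit 1091) (nat_lit 1) (.leaf 1 (nat_lit 0x3ed0093) (nat_lit 1026)) (.cons (nat_lit 282) (nat_lit 0x2550bf9) (.leaf 1 (nat_lit 0x23f5b3b) (nat_lit 55)) (.cons (nat_lit 1019) (nat_lit 0x2851969) (.leaf 1 (nat_lit 0x29eff63) (nat_lit 57)) (.cons (nat_lit 2579) (nat_lit 0x38f0d64) (.leaf 1 (nat_lit 0x23d5f48) (nat_lit 40)) (.cons (nat_lit 3834) (nat_lit 0x3e480bb) (.leaf 1 (nat_lit 0x61383ac8) (nat_lit 50)) (.cons (nat_lit 3995) (nat_lit 0x2e5196f) (.leaf 1 (nat_lit 0x750f9442) (nat_lit 35)) (.cons (nat_lit 937) (nat_lit 0x2992e88) (.leaf 1 (nat_lit 0x54fd2469) (nat_lit 38)) (.cons (nat_lit 3557) (nat_lit 0x52199008) (.leaf 1 (nat_lit 0x230fd22) (nat_lit 32)) (.cons (nat_lit 3014) (nat_lit 0x4b9b39c8) (.leaf 1 (nat_lit 0x29e6f72) (nat_lit 35)) (.cons (nat_lit 2471) (nat_lit 0x4b9d1808) (.leaf 1 (nat_lit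 0x1a2cae) (nat_lit 40)) .nil)))))))))
def tA19 : CT := .cons (nat_lit 2027) (nat_lit 1) (.leaf 1 (nat_lit 0x50058242) (nat_lit 47)) (.cons (nat_lit 3922) (nat_lit 0x2550bf9) (.leaf 1 (nat_lit 0x4111f824) (nat_lit 58)) (.cons (nat_lit 2764) (nat_lit 0x2851969) (.leaf 1 (nat_lit 0x64b9be33) (nat_lit 48)) (.cons (nat_lit 3232) (nat_lit 0x38f0d64) (.leaf 1 (nat_lit 0x37f1624) (nat_lit 1041)) (.cons (nat_lit 2555) (nat_lit 0x3e480bb) (.leaf 1 (nat_lit 0x6c1b2425) (nat_lit 52)) (.cons (nat_lit 2641) (nat_lit 0x2e5196f) (.leaf 1 (nat_lit 0x55497d38) (nat_lit 32)) (.cons (nat_lit 1255) (nat_lit 0x2992e88) (.leaf 1 (nat_lit 0x3ad72c8) (nat_lit 1028)) (.cons (nat_lit 2284) (nat_lit 0x52199008) (.leaf 1 (nat_lit 0x3bc2444) (nat_lit 40)) (.cons (nat_lit 1973) (nat_lit 0x4b9b39c8) (.leaf 1 (nat_lit 0x4daa2eba) (nat_lit 49)) (.cons (nat_lit 1265) (nat_lit 0x4b9d1808) (.leaf 1 (nat_lit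 0x765bbf5c) (nat_lit 59)) .nil)))))))))
def tA20 : CT := .cons (nat_lit 3181) (nat_lit 1) (.leaf 1 (nat_lit 0x26d2148) (nat_lit 52)) (.cons (nat_lit 1174) (nat_lit 0x2550bf9) (.leaf 1 (nat_lit 0x60e72175) (nat_lit 43)) (.cons (nat_lit 1549) (nat_lit 0x2851969) (.leaf 1 (nat_lit 0x1cca24) (nat_lit 48)) (.cons (nat_lit 2038) (nat_lit 0x38f0d64) (.leaf 1 (nat_lit 0x2874a33) (nat_lit 1)) (.cons (nat_lit 139) (nat_lit 0x3e480bb) (.leaf 1 (nat_lit 0x711fd7f6) (nat_lit 33)) (.cons (nat_lit 106) (nat_lit 0x2e5196f) (.leaf 1 (nat_lit 0x6440a7c0) (nat_lit 40)) (.cons (nat_lit 1797) (nat_lit 0x2992e88) (.leaf 1 (nat_lit 0x45949952) (nat_lit 1024)) (.cons (nat_lit 3725) (nat_lit 0x52199008) (.leaf 1 (nat_lit 0x391a3bf) (nat_lit 38)) (.cons (nat_lit 2650) (nat_lit 0x4b9b39c8) (.leaf 1 (nat_lit 0x75e18771) (nat_lit 52)) (.cons (nat_lit 2529) (nat_lit 0x4b9d1808) (.leaf 1 (nat_lit 0x2ff4f31)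 (nat_lit 1048)) .nil)))))))))
def tA21 : CT := .cons (nat_lit 3783) (nat_lit 1) (.leaf 1 (nat_lit 0x45712908) (nat_lit 40)) (.cons (nat_lit 416) (nat_lit 0x2550bf9) (.leaf 1 (nat_lit 0x44f5c2ea) (nat_lit 52)) (.cons (nat_lit 3518) (nat_lit 0x2851969) (.leaf 1 (nat_lit 0x3e1f228) (nat_lit 1048)) (.cons (nat_lit 847) (nat_lit 0x38f0d64) (.leaf 1 (nat_lit 0x299bd19) (nat_lit 40)) (.cons (nat_lit 3621) (nat_lit 0x3e480bb) (.leaf 1 (nat_lit 0x410d055d) (nat_lit 54)) (.cons (nat_lit 2419) (nat_lit 0x2e5196f) (.leaf 1 (nat_lit 0x5457e9fb) (nat_lit 1)) (.cons (nat_lit 3047) (nat_lit 0x2992e88) (.leaf 1 (nat_lit 0x3bb4d0a) (nat_lit 1032)) (.cons (nat_lit 553) (nat_lit 0x52199008) (.leaf 1 (nat_lit 0x2a9ec7c) (nat_lit 1040)) (.cons (nat_lit 441) (nat_lit 0x4b9b39c8) (.leaf 1 (nat_lit 0x470c2451) (nat_lit 1)) (.cons (nat_lit 3668) (nat_lit 0x4b9d1808) (.leaf 1 (nat_lit 0x2095f48)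 (nat_lit 38)) .nil)))))))))
def tA22 : CT := .cons (nat_lit 2817) (nat_lit 1) (.leaf 1 (nat_lit 0x22d749a) (nat_lit 49)) (.cons (nat_lit 2972) (nat_lit 0x2550bf9) (.leaf 1 (nat_lit 0x32179d7) (nat_lit 43)) (.cons (nat_lit 1468) (nat_lit 0x2851969) (.leaf 1 (nat_lit 0x44998576) (nat_lit 1055)) (.cons (nat_lit 750) (nat_lit 0x38f0d64) (.leaf 1 (nat_lit 0x2ad22ab) (nat_lit 56)) (.cons (nat_lit 3321) (nat_lit 0x3e480bb) (.leaf 1 (nat_lit 0x47ecc77b) (nat_lit 52)) (.cons (nat_lit 2321) (nat_lit 0x2e5196f) (.leaf 1 (nat_lit 0x2ac24d7) (nat_lit 52)) (.cons (nat_lit 675) (nat_lit 0x2992e88) (.leaf 1 (nat_lit 0x7d5bfd39) (nat_lit 63)) (.cons (nat_lit 3854) (nat_lit 0x52199008) (.leaf 1 (nat_lit 0x5cefda49) (nat_lit 1033)) (.cons (nat_lit 3942) (nat_lit 0x4b9b39c8) (.leaf 1 (nat_lit 0x2212ea9) (nat_lit 1050)) (.cons (nat_lit 463) (nat_lit 0x4b9d1808) (.leaf 1 (nat_lit 0x45cc3bdc)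 (nat_lit 1)) .nil)))))))))
def tA23 : CT := .cons (nat_lit 1572) (nat_lit 1) (.leaf 1 (nat_lit 0x30f3e3a) (nat_lit 32)) (.cons (nat_lit 2753) (nat_lit 0x2550bf9) (.leaf 1 (nat_lit 0x328a8ab) (nat_lit 52)) (.cons (nat_lit 814) (nat_lit 0x2851969) (.leaf 1 (nat_lit 0x3b927d8) (nat_lit 56)) (.cons (nat_lit 2751) (nat_lit 0x38f0d64) (.leaf 1 (nat_lit 0x2b83dfb) (nat_lit 38)) (.cons (nat_lit 1028) (nat_lit 0x3e480bb) (.leaf 1 (nat_lit 0x40232a4b) (nat_lit 56)) (.cons (nat_lit 1049) (nat_lit 0x2e5196f) (.leaf 1 (nat_lit 0x26be914) (nat_lit 59)) (.cons (nat_lit 3725) (nat_lit 0x2992e88) (.leaf 1 (nat_lit 0x788efd29) (nat_lit 1)) (.cons (nat_lit 3008) (nat_lit 0x52199008) (.leaf 1 (nat_lit 0x3cffed9) (nat_lit 58)) (.cons (nat_lit 3919) (nat_lit 0x4b9b39c8) (.leaf 1 (nat_lit 0x10ebda) (nat_lit 60)) (.cons (nat_lit 2252) (nat_lit 0x4b9d1808) (.leaf 1 (nat_lit 0x7ceafc75) (nat_lit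 32)) .nil)))))))))
def tA24 : CT := .cons (nat_lit 2667) (nat_lit 1) (.leaf 1 (nat_lit 0x2eff343) (nat_lit 32)) (.cons (nat_lit 1164) (nat_lit 0x2550bf9) (.leaf 1 (nat_lit 0x20f0b62) (nat_lit 56)) (.cons (nat_lit 244) (nat_lit 0x2851969) (.leaf 1 (nat_lit 0x2958517) (nat_lit 1033)) (.cons (nat_lit 1733) (nat_lit 0x38f0d64) (.leaf 1 (nat_lit 0x231e93b) (nat_lit 56)) (.cons (nat_lit 67) (nat_lit 0x3e480bb) (.leaf 1 (nat_lit 0x2a44628) (nat_lit 53)) (.cons (nat_lit 61) (nat_lit 0x2e5196f) (.leaf 1 (nat_lit 0x40ac6a41) (nat_lit 38)) (.cons (nat_lit 2533) (nat_lit 0x2992e88) (.leaf 1 (nat_lit 0x28f4366) (nat_lit 1536)) (.cons (nat_lit 2128) (nat_lit 0x52199008) (.leaf 1 (nat_lit 0x21becbb) (nat_lit 34)) (.cons (nat_lit 1598) (nat_lit 0x4b9b39c8) (.leaf 1 (nat_lit 0x204d051) (nat_lit 58)) (.cons (nat_lit 3106) (nat_lit 0x4b9d1808) (.leaf 1 (nat_lit 0x102390) (nat_lit 33)) .nil)))))))))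
def tA25 : CT := .cons (nat_lit 668) (nat_lit 1) (.leaf 1 (nat_lit 0x63f4cfda) (nat_lit 34)) (.cons (nat_lit 706) (nat_lit 0x2550bf9) (.leaf 1 (nat_lit 0x30ea631) (nat_lit 48)) (.cons (nat_lit 2233) (nat_lit 0x2851969) (.leaf 1 (nat_lit 0x628c0972) (nat_lit 54)) (.cons (nat_lit 3688) (nat_lit 0x38f0d64) (.leaf 1 (nat_lit 0x22de766) (nat_lit 35)) (.cons (nat_lit 382) (nat_lit 0x3e480bb) (.leaf 1 (nat_lit 0x28d15fc) (nat_lit 38)) (.cons (nat_lit 1742) (nat_lit 0x2e5196f) (.leaf 1 (nat_lit 0x1a24d8) (nat_lit 38)) (.cons (nat_lit 2494) (nat_lit 0x2992e88) (.leaf 1 (nat_lit 0x4ddfa342) (nat_lit 38)) (.cons (nat_lit 2083) (nat_lit 0x52199008) (.leaf 1 (nat_lit 0x444325e3) (nat_lit 48)) (.cons (nat_lit 1793) (nat_lit 0x4b9b39c8) (.leaf 1 (nat_lit 0x56017c61) (nat_lit 52)) (.cons (nat_lit 2013) (nat_lit 0x4b9d1808) (.leaf 1 (nat_lit 0x2207a92) (nat_lit 32)) .nil)))))))))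
def tA26 : CT := .cons (nat_lit 260) (nat_lit 1) (.leaf 1 (nat_lit 0x2250759) (nat_lit 1040)) (.cons (nat_lit 3166) (nat_lit 0x2550bf9) (.leaf 1 (nat_lit 0x45086816) (nat_lit 52)) (.cons (nat_lit 4058) (nat_lit 0x2851969) (.leaf 1 (nat_lit 0x37ca3d4) (nat_lit 43)) (.cons (nat_lit 1443) (nat_lit 0x38f0d64) (.leaf 1 (nat_lit 0x3f19877) (nat_lit 1054)) (.cons (nat_lit 2369) (nat_lit 0x3e480bb) (.leaf 1 (nat_lit 0x6c9f6810) (nat_lit 1)) (.cons (nat_lit 1765) (nat_lit 0x2e5196f) (.leaf 1 (nat_lit 0x2017ed5) (nat_lit 49)) (.cons (nat_lit 847) (nat_lit 0x2992e88) (.leaf 1 (nat_lit 0x3cdbb78) (nat_lit 49)) (.cons (nat_lit 441) (nat_lit 0x52199008) (.leaf 1 (nat_lit 0x750dd8ca) (nat_lit 63)) (.cons (nat_lit 394) (nat_lit 0x4b9b39c8) (.leaf 1 (nat_lit 0x159bc1) (nat_lit 48)) (.cons (nat_lit 2660) (nat_lit 0x4b9d1808) (.leaf 1 (nat_lit 0x2884be3) (nat_lit 32)) .nil)))))))))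
def tA27 : CT := .cons (nat_lit 1311) (nat_lit 1) (.leaf 1 (nat_lit 0x3b86156) (nat_lit 43)) (.cons (nat_lit 3723) (nat_lit 0x2550bf9) (.leaf 1 (nat_lit 0x1bde92) (nat_lit 62)) (.cons (nat_lit 91) (nat_lit 0x2851969) (.leaf 1 (nat_lit 0x69b97cd3) (nat_lit 1)) (.cons (nat_lit 559) (nat_lit 0x38f0d64) (.leaf 1 (nat_lit 0x63e0fe2a) (nat_lit 32)) (.cons (nat_lit 1950) (nat_lit 0x3e480bb) (.leaf 1 (nat_lit 0x5525bd4e) (nat_lit 52)) (.cons (nat_lit 771) (nat_lit 0x2e5196f) (.leaf 1 (nat_lit 0x54077852) (nat_lit 57)) (.cons (nat_lit 2472) (nat_lit 0x2992e88) (.leaf 1 (nat_lit 0x22bec4f) (nat_lit 58)) (.cons (nat_lit 1836) (nat_lit 0x52199008) (.leaf 1 (nat_lit 0x294cb48) (nat_lit 1052)) (.cons (nat_lit 2287) (nat_lit 0x4b9b39c8) (.leaf 1 (nat_lit 0x7c3483f0) (nat_lit 40)) (.cons (nat_lit 2897) (nat_lit 0x4b9d1808) (.leaf 1 (nat_lit 0x78af0ae1) (nat_lit 1)) .nil)))))))))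
def tA28 : CT := .cons (nat_lit 2204) (nat_lit 1) (.leaf 1 (nat_lit 0x288db9a) (nat_lit 38)) (.cons (nat_lit 873) (nat_lit 0x2550bf9) (.leaf 1 (nat_lit 0x2b926c0) (nat_lit 63)) (.cons (nat_lit 3919) (nat_lit 0x2851969) (.leaf 1 (nat_lit 0x15f051) (nat_lit 48)) (.cons (nat_lit 3843) (nat_lit 0x38f0d64) (.leaf 1 (nat_lit 0x6c9e7842) (nat_lit 35)) (.cons (nat_lit 2771) (nat_lit 0x3e480bb) (.leaf 1 (nat_lit 0x4dddcf0a) (nat_lit 1046)) (.cons (nat_lit 107) (nat_lit 0x2e5196f) (.leaf 1 (nat_lit 0x394e1df) (nat_lit 50)) (.cons (nat_lit 2183) (nat_lit 0x2992e88) (.leaf 1 (nat_lit 0x224eec4) (nat_lit 34)) (.cons (nat_lit 2928) (nat_lit 0x52199008) (.leaf 1 (nat_lit 0x54e1dd40) (nat_lit 54)) (.cons (nat_lit 1663) (nat_lit 0x4b9b39c8) (.leaf 1 (nat_lit 0x6faea2e2) (nat_lit 62)) (.cons (nat_lit 1215) (nat_lit 0x4b9d1808) (.leaf 1 (nat_lit 0x20baf03) (nat_lit 41)) .nil)))))))))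
def tA29 : CT := .cons (nat_lit 793) (nat_lit 1) (.leaf 1 (nat_lit 0x402b987c) (nat_lit 38)) (.cons (nat_lit 1746) (nat_lit 0x2550bf9) (.leaf 1 (nat_lit 0x26b67f0) (nat_lit 1556)) (.cons (nat_lit 2696) (nat_lit 0x2851969) (.leaf 1 (nat_lit 0x2ae8afb) (nat_lit 52)) (.cons (nat_lit 3783) (nat_lit 0x38f0d64) (.leaf 1 (nat_lit 0x47dda458) (nat_lit 40)) (.cons (nat_lit 2634) (nat_lit 0x3e480bb) (.leaf 1 (nat_lit 0x214ed30) (nat_lit 40)) (.cons (nat_lit 2147) (nat_lit 0x2e5196f) (.leaf 1 (nat_lit 0x651d0163) (nat_lit 52)) (.cons (nat_lit 1256) (nat_lit 0x2992e88) (.leaf 1 (nat_lit 0x3cfc268) (nat_lit 47)) (.cons (nat_lit 1824) (nat_lit 0x52199008) (.leaf 1 (nat_lit 0x50243f73) (nat_lit 52)) (.cons (nat_lit 981) (nat_lit 0x4b9b39c8) (.leaf 1 (nat_lit 0x375026f) (nat_lit 48)) (.cons (nat_lit 971) (nat_lit 0x4b9d1808) (.leaf 1 (nat_lit 0x411ffc44) (nat_lit 40)) .nil)))))))))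
def tA30 : CT := .cons (nat_lit 2128) (nat_lit 1) (.leaf 1 (nat_lit 0x2a4acda) (nat_lit 1557)) (.cons (nat_lit 161) (nat_lit 0x2550bf9) (.leaf 1 (nat_lit 0x3a46778) (nat_lit 58)) (.cons (nat_lit 2520) (nat_lit 0x2851969) (.leaf 1 (nat_lit 0x3610b64) (nat_lit 58)) (.cons (nat_lit 580) (nat_lit 0x38f0d64) (.leaf 1 (nat_lit 0x224ed39) (nat_lit 55)) (.cons (nat_lit 3365) (nat_lit 0x3e480bb) (.leaf 1 (nat_lit 0x110b39) (nat_lit 32)) (.cons (nat_lit 3250) (nat_lit 0x2e5196f) (.leaf 1 (nat_lit 0x294fd1c) (nat_lit 56)) (.cons (nat_lit 2794) (nat_lit 0x2992e88) (.leaf 1 (nat_lit 0x3af4ef9) (nat_lit 1024)) (.cons (nat_lit 2667) (nat_lit 0x52199008) (.leaf 1 (nat_lit 0x3a946d6) (nat_lit 63)) (.cons (nat_lit 231) (nat_lit 0x4b9b39c8) (.leaf 1 (nat_lit 0x2242c06) (nat_lit 34)) (.cons (nat_lit 915) (nat_lit 0x4b9d1808) (.leaf 1 (nat_lit 0x3c90bd6) (nat_lit 52)) .nil)))))))))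
def tA31 : CT := .cons (nat_lit 1599) (nat_lit 1) (.leaf 1 (nat_lit 0x314bf9b) (nat_lit 52)) (.cons (nat_lit 2945) (nat_lit 0x2550bf9) (.leaf 1 (nat_lit 0x61cb5ad3) (nat_lit 47)) (.cons (nat_lit 4001) (nat_lit 0x2851969) (.leaf 1 (nat_lit 0x354b9db) (nat_lit 1024)) (.cons (nat_lit 3315) (nat_lit 0x38f0d64) (.leaf 1 (nat_lit 0x3f77e79) (nat_lit 59)) (.cons (nat_lit 1158) (nat_lit 0x3e480bb) (.leaf 1 (nat_lit 0x2b32281) (nat_lit 40)) (.cons (nat_lit 3459) (nat_lit 0x2e5196f) (.leaf 1 (nat_lit 0x3bfce1f) (nat_lit 33)) (.cons (nat_lit 3951) (nat_lit 0x2992e88) (.leaf 1 (nat_lit 0x74518fe6) (nat_lit 1)) (.cons (nat_lit 1589) (nat_lit 0x52199008) (.leaf 1 (nat_lit 0x22ceec2) (nat_lit 50)) (.cons (nat_lit 2040) (nat_lit 0x4b9b39c8) (.leaf 1 (nat_lit 0x41092cc1) (nat_lit 56)) (.cons (nat_lit 2405) (nat_lit 0x4b9d1808) (.leaf 1 (nat_lit 0x3f4d75a) (nat_lit 1556)) .nil)))))))))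
def tA32 : CT := .cons (nat_lit 753) (nat_lit 1) (.leaf 1 (nat_lit 0x2f454de) (nat_lit 34)) (.cons (nat_lit 3403) (nat_lit 0x2550bf9) (.leaf 1 (nat_lit 0x189170) (nat_lit 43)) (.cons (nat_lit 1354) (nat_lit 0x2851969) (.leaf 1 (nat_lit 0x3a52052) (nat_lit 1)) (.cons (nat_lit 3106) (nat_lit 0x38f0d64) (.leaf 1 (nat_lit 0x4c144642) (nat_lit 32)) (.cons (nat_lit 67) (nat_lit 0x3e480bb) (.leaf 1 (nat_lit 0x65e17910) (nat_lit 1041)) (.cons (nat_lit 1174) (nat_lit 0x2e5196f) (.leaf 1 (nat_lit 0x41fb4108) (nat_lit 58)) (.cons (nat_lit 3133) (nat_lit 0x2992e88) (.leaf 1 (nat_lit 0x3cf0d2a) (nat_lit 38)) (.cons (nat_lit 938) (nat_lit 0x52199008) (.leaf 1 (nat_lit 0x5185f491) (nat_lit 48)) (.cons (nat_lit 2263) (nat_lit 0x4b9b39c8) (.leaf 1 (nat_lit 0x45abbf4e) (nat_lit 57)) (.cons (nat_lit 1368) (nat_lit 0x4b9d1808) (.leaf 1 (nat_lit 0x364da58) (nat_lit 59)) .nil)))))))))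
def tA33 : CT := .cons (nat_lit 2533) (nat_lit 1) (.leaf 1 (nat_lit 0x7088fc2b) (nat_lit 62)) (.cons (nat_lit 1143) (nat_lit 0x2550bf9) (.leaf 1 (nat_lit 0x500f651a) (nat_lit 1035)) (.cons (nat_lit 3081) (nat_lit 0x2851969) (.leaf 1 (nat_lit 0x3acca29) (nat_lit 32)) (.cons (nat_lit 2605) (nat_lit 0x38f0d64) (.leaf 1 (nat_lit 0x110894) (nat_lit 48)) (.cons (nat_lit 106) (nat_lit 0x3e480bb) (.leaf 1 (nat_lit 0x5c913fcf) (nat_lit 32)) (.cons (nat_lit 3063) (nat_lit 0x2e5196f) (.leaf 1 (nat_lit 0x2f16f09) (nat_lit 40)) (.cons (nat_lit 1164) (nat_lit 0x2992e88) (.leaf 1 (nat_lit 0x616dfec9) (nat_lit 40)) (.cons (nat_lit 2685) (nat_lit 0x52199008) (.leaf 1 (nat_lit 0x61e97cd7) (nat_lit 56)) (.cons (nat_lit 1123) (nat_lit 0x4b9b39c8) (.leaf 1 (nat_lit 0x29523c8) (nat_lit 56)) (.cons (nat_lit 3570) (nat_lit 0x4b9d1808) (.leaf 1 (nat_lit 0x53f4efa9) (nat_lit 38)) .nil)))))))))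
def tA34 : CT := .cons (nat_lit 3595) (nat_lit 1) (.leaf 1 (nat_lit 0x2ae905c) (nat_lit 40)) (.cons (nat_lit 2565) (nat_lit 0x2550bf9) (.leaf 1 (nat_lit 0x72f12342) (nat_lit 1)) (.cons (nat_lit 2818) (nat_lit 0x2851969) (.leaf 1 (nat_lit 0x55e7eedc) (nat_lit 32)) (.cons (nat_lit 972) (nat_lit 0x38f0d64) (.leaf 1 (nat_lit 0x7c8c29c2) (nat_lit 1)) (.cons (nat_lit 1024) (nat_lit 0x3e480bb) (.leaf 1 (nat_lit 0x264c0bb) (nat_lit 53)) (.cons (nat_lit 597) (nat_lit 0x2e5196f) (.leaf 1 (nat_lit 0x6c3d4842) (nat_lit 32)) (.cons (nat_lit 1365) (nat_lit 0x2992e88) (.leaf 1 (nat_lit 0x3148e0a) (nat_lit 1024)) (.cons (nat_lit 2405) (nat_lit 0x52199008) (.leaf 1 (nat_lit 0x40a57d2f) (nat_lit 58)) (.cons (nat_lit 1527) (nat_lit 0x4b9b39c8) (.leaf 1 (nat_lit 0x65f4d9ea) (nat_lit 52)) (.cons (nat_lit 1083) (nat_lit 0x4b9d1808) (.leaf 1 (nat_lit 0x2a44320) (nat_lit 41)) .nil)))))))))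
def tA35 : CT := .cons (nat_lit 244) (nat_lit 1) (.leaf 1 (nat_lit 0x642d3f70) (nat_lit 40)) (.cons (nat_lit 517) (nat_lit 0x2550bf9) (.leaf 1 (nat_lit 0x748a525e) (nat_lit 48)) (.cons (nat_lit 3420) (nat_lit 0x2851969) (.leaf 1 (nat_lit 0x1afb99) (nat_lit 32)) (.cons (nat_lit 2291) (nat_lit 0x38f0d64) (.leaf 1 (nat_lit 0x7c39c1c6) (nat_lit 49)) (.cons (nat_lit 346) (nat_lit 0x3e480bb) (.leaf 1 (nat_lit 0x45f33f69) (nat_lit 1045)) (.cons (nat_lit 3801) (nat_lit 0x2e5196f) (.leaf 1 (nat_lit 0x2288bda) (nat_lit 33)) (.cons (nat_lit 3392) (nat_lit 0x2992e88) (.leaf 1 (nat_lit 0x269e154) (nat_lit 1024)) (.cons (nat_lit 3853) (nat_lit 0x52199008) (.leaf 1 (nat_lit 0x397bf6e) (nat_lit 57)) (.cons (nat_lit 843) (nat_lit 0x4b9b39c8) (.leaf 1 (nat_lit 0x1f0b33) (nat_lit 60)) (.cons (nat_lit 2972) (nat_lit 0x4b9d1808) (.leaf 1 (nat_lit 0x41b5f23d) (nat_lit 60)) .nil)))))))))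
def tA36 : CT := .cons (nat_lit 2654) (nat_lit 1) (.leaf 1 (nat_lit 0x79e9c7d2) (nat_lit 60)) (.cons (nat_lit 993) (nat_lit 0x2550bf9) (.leaf 1 (nat_lit 0x221421b) (nat_lit 34)) (.cons (nat_lit 1200) (nat_lit 0x2851969) (.leaf 1 (nat_lit 0x2b321c3) (nat_lit 32)) (.cons (nat_lit 2291) (nat_lit 0x38f0d64) (.leaf 1 (nat_lit 0x298a457) (nat_lit 57)) (.cons (nat_lit 1938) (nat_lit 0x3e480bb) (.leaf 1 (nat_lit 0x2f14bc8) (nat_lit 58)) (.cons (nat_lit 341) (nat_lit 0x2e5196f) (.leaf 1 (nat_lit 0x1dff2a) (nat_lit 48)) (.cons (nat_lit 1898) (nat_lit 0x2992e88) (.leaf 1 (nat_lit 0x4104885b) (nat_lit 59)) (.cons (nat_lit 3529) (nat_lit 0x52199008) (.leaf 1 (nat_lit 0x2acff2b) (nat_lit 47)) (.cons (nat_lit 843) (nat_lit 0x4b9b39c8) (.leaf 1 (nat_lit 0x32c4c63) (nat_lit 32)) (.cons (nat_lit 2871) (nat_lit 0x4b9d1808) (.leaf 1 (nat_lit 0x44857a2b) (nat_lit 48)) .nil)))))))))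
def tA37 : CT := .cons (nat_lit 3496) (nat_lit 1) (.leaf 1 (nat_lit 0x369477b) (nat_lit 53)) (.cons (nat_lit 3106) (nat_lit 0x2550bf9) (.leaf 1 (nat_lit 0x2baef76) (nat_lit 41)) (.cons (nat_lit 2906) (nat_lit 0x2851969) (.leaf 1 (nat_lit 0x51e50e0a) (nat_lit 50)) (.cons (nat_lit 1256) (nat_lit 0x38f0d64) (.leaf 1 (nat_lit 0x4c828ff3) (nat_lit 54)) (.cons (nat_lit 2533) (nat_lit 0x3e480bb) (.leaf 1 (nat_lit 0x4158903b) (nat_lit 1026)) (.cons (nat_lit 1746) (nat_lit 0x2e5196f) (.leaf 1 (nat_lit 0x22408ca) (nat_lit 1)) (.cons (nat_lit 3570) (nat_lit 0x2992e88) (.leaf 1 (nat_lit 0x298ae08) (nat_lit 33)) (.cons (nat_lit 3040) (nat_lit 0x52199008) (.leaf 1 (nat_lit 0x608f0ef9) (nat_lit 48)) (.cons (nat_lit 2626) (nat_lit 0x4b9b39c8) (.leaf 1 (nat_lit 0x770f4979) (nat_lit 1038)) (.cons (nat_lit 3403) (nat_lit 0x4b9d1808) (.leaf 1 (nat_lit 0x3bfcdc9) (nat_lit 1029)) .nil)))))))))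
def tA38 : CT := .cons (nat_lit 3783) (nat_lit 1) (.leaf 1 (nat_lit 0x40936b42) (nat_lit 41)) (.cons (nat_lit 3029) (nat_lit 0x2550bf9) (.leaf 1 (nat_lit 0x529f0136) (nat_lit 58)) (.cons (nat_lit 2605) (nat_lit 0x2851969) (.leaf 1 (nat_lit 0x748d3fce) (nat_lit 40)) (.cons (nat_lit 3947) (nat_lit 0x38f0d64) (.leaf 1 (nat_lit 0x51842a9e) (nat_lit 1052)) (.cons (nat_lit 2932) (nat_lit 0x3e480bb) (.leaf 1 (nat_lit 0x3610afa) (nat_lit 40)) (.cons (nat_lit 929) (nat_lit 0x2e5196f) (.leaf 1 (nat_lit 0x7888a9c4) (nat_lit 32)) (.cons (nat_lit 915) (nat_lit 0x2992e88) (.leaf 1 (nat_lit 0x295da9f) (nat_lit 60)) (.cons (nat_lit 1028) (nat_lit 0x52199008) (.leaf 1 (nat_lit 0x3cc7c76) (nat_lit 54)) (.cons (nat_lit 1746) (nat_lit 0x4b9b39c8) (.leaf 1 (nat_lit 0x31cd961) (nat_lit 56)) (.cons (nat_lit 3668) (nat_lit 0x4b9d1808) (.leaf 1 (nat_lit 0x3e9bf62) (nat_lit 1048)) .nil)))))))))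
def tA39 : CT := .cons (nat_lit 2160) (nat_lit 1) (.leaf 1 (nat_lit 0x409c27c3) (nat_lit 40)) (.cons (nat_lit 1797) (nat_lit 0x2550bf9) (.leaf 1 (nat_lit 0x63eb25f1) (nat_lit 32)) (.cons (nat_lit 692) (nat_lit 0x2851969) (.leaf 1 (nat_lit 0x442e233d) (nat_lit 56)) (.cons (nat_lit 3044) (nat_lit 0x38f0d64) (.leaf 1 (nat_lit 0x2b87cbb) (nat_lit 55)) (.cons (nat_lit 662) (nat_lit 0x3e480bb) (.leaf 1 (nat_lit 0x15cd43) (nat_lit 59)) (.cons (nat_lit 3197) (nat_lit 0x2e5196f) (.leaf 1 (nat_lit 0x3e008d2) (nat_lit 56)) (.cons (nat_lit 1847) (nat_lit 0x2992e88) (.leaf 1 (nat_lit 0x227ea18) (nat_lit 1042)) (.cons (nat_lit 2478) (nat_lit 0x52199008) (.leaf 1 (nat_lit 0x41bb7e14) (nat_lit 38)) (.cons (nat_lit 1425) (nat_lit 0x4b9b39c8) (.leaf 1 (nat_lit 0x6df5eb40) (nat_lit 57)) (.cons (nat_lit 950) (nat_lit 0x4b9d1808) (.leaf 1 (nat_lit 0x3a1b93d) (nat_lit 60)) .nil)))))))))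
def tA40 : CT := .cons (nat_lit 580) (nat_lit 1) (.leaf 1 (nat_lit 0x788422a6) (nat_lit 47)) (.cons (nat_lit 3728) (nat_lit 0x2550bf9) (.leaf 1 (nat_lit 0x1f7042) (nat_lit 56)) (.cons (nat_lit 562) (nat_lit 0x2851969) (.leaf 1 (nat_lit 0x5361463d) (nat_lit 1792)) (.cons (nat_lit 2558) (nat_lit 0x38f0d64) (.leaf 1 (nat_lit 0x1e192e) (nat_lit 56)) (.cons (nat_lit 3847) (nat_lit 0x3e480bb) (.leaf 1 (nat_lit 0x63246a17) (nat_lit 43)) (.cons (nat_lit 952) (nat_lit 0x2e5196f) (.leaf 1 (nat_lit 0x4ca2a631) (nat_lit 40)) (.cons (nat_lit 3432) (nat_lit 0x2992e88) (.leaf 1 (nat_lit 0x61d5cf58) (nat_lit 32)) (.cons (nat_lit 2520) (nat_lit 0x52199008) (.leaf 1 (nat_lit 0x668f42e0) (nat_lit 48)) (.cons (nat_lit 724) (nat_lit 0x4b9b39c8) (.leaf 1 (nat_lit 0x53f47931) (nat_lit 60)) (.cons (nat_lit 3681) (nat_lit 0x4b9d1808) (.leaf 1 (nat_lit 0x75ad2468) (nat_lit 1024)) .nil)))))))))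
def tA41 : CT := .cons (nat_lit 3297) (nat_lit 1) (.leaf 1 (nat_lit 0x14e563) (nat_lit 34)) (.cons (nat_lit 3728) (nat_lit 0x2550bf9) (.leaf 1 (nat_lit 0x569e6cda) (nat_lit 38)) (.cons (nat_lit 2352) (nat_lit 0x2851969) (.leaf 1 (nat_lit 0x79f14678) (nat_lit 1)) (.cons (nat_lit 961) (nat_lit 0x38f0d64) (.leaf 1 (nat_lit 0x6cf46511) (nat_lit 35)) (.cons (nat_lit 1187) (nat_lit 0x3e480bb) (.leaf 1 (nat_lit 0x112470) (nat_lit 48)) (.cons (nat_lit 2831) (nat_lit 0x2e5196f) (.leaf 1 (nat_lit 0x3844a33) (nat_lit 57)) (.cons (nat_lit 1419) (nat_lit 0x2992e88) (.leaf 1 (nat_lit 0x45a9a2fe) (nat_lit 43)) (.cons (nat_lit 126) (nat_lit 0x52199008) (.leaf 1 (nat_lit 0x6c24db70) (nat_lit 1561)) (.cons (nat_lit 1922) (nat_lit 0x4b9b39c8) (.leaf 1 (nat_lit 0x22dfaeb) (nat_lit 34)) (.cons (nat_lit 1468) (nat_lit 0x4b9d1808) (.leaf 1 (nat_lit 0x2254957) (nat_lit 52)) .nil)))))))))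
def tA42 : CT := .cons (nat_lit 1967) (nat_lit 1) (.leaf 1 (nat_lit 0x548dd902) (nat_lit 1)) (.cons (nat_lit 840) (nat_lit 0x2550bf9) (.leaf 1 (nat_lit 0x13271d) (nat_lit 60)) (.cons (nat_lit 2149) (nat_lit 0x2851969) (.leaf 1 (nat_lit 0x1cf101) (nat_lit 32)) (.cons (nat_lit 1698) (nat_lit 0x38f0d64) (.leaf 1 (nat_lit 0x3b48082) (nat_lit 1)) (.cons (nat_lit 1461) (nat_lit 0x3e480bb) (.leaf 1 (nat_lit 0x204724a) (nat_lit 48)) (.cons (nat_lit 598) (nat_lit 0x2e5196f) (.leaf 1 (nat_lit 0x50a726c4) (nat_lit 62)) (.cons (nat_lit 2917) (nat_lit 0x2992e88) (.leaf 1 (nat_lit 0x370254a) (nat_lit 32)) (.cons (nat_lit 1547) (nat_lit 0x52199008) (.leaf 1 (nat_lit 0x47488bee) (nat_lit 60)) (.cons (nat_lit 1205) (nat_lit 0x4b9b39c8) (.leaf 1 (nat_lit 0x314753b) (nat_lit 63)) (.cons (nat_lit 1163) (nat_lit 0x4b9d1808) (.leaf 1 (nat_lit 0x2206875) (nat_lit 1)) .nil)))))))))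
def tA43 : CT := .cons (nat_lit 3104) (nat_lit 1) (.leaf 1 (nat_lit 0x69fec7c2) (nat_lit 1029)) (.cons (nat_lit 3536) (nat_lit 0x2550bf9) (.leaf 1 (nat_lit 0x3b4f9dd) (nat_lit 54)) (.cons (nat_lit 1134) (nat_lit 0x2851969) (.leaf 1 (nat_lit 0x501f8fee) (nat_lit 1)) (.cons (nat_lit 197) (nat_lit 0x38f0d64) (.leaf 1 (nat_lit 0x3eb8842) (nat_lit 32)) (.cons (nat_lit 1920) (nat_lit 0x3e480bb) (.leaf 1 (nat_lit 0x74986663) (nat_lit 43)) (.cons (nat_lit 1838) (nat_lit 0x2e5196f) (.leaf 1 (nat_lit 0x3548bd9) (nat_lit 1051)) (.cons (nat_lit 722) (nat_lit 0x2992e88) (.leaf 1 (nat_lit 0x79945d5d) (nat_lit 60)) (.cons (nat_lit 740) (nat_lit 0x52199008) (.leaf 1 (nat_lit 0x3ddedf9) (nat_lit 1542)) (.cons (nat_lit 1178) (nat_lit 0x4b9b39c8) (.leaf 1 (nat_lit 0x2b48b8e) (nat_lit 56)) (.cons (nat_lit 477) (nat_lit 0x4b9d1808) (.leaf 1 (nat_lit 0x6825db90) (nat_lit 58)) .nil)))))))))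
def tA44 : CT := .cons (nat_lit 1143) (nat_lit 1) (.leaf 1 (nat_lit 0x264d6e4) (nat_lit 58)) (.cons (nat_lit 2725) (nat_lit 0x2550bf9) (.leaf 1 (nat_lit 0x14acc8) (nat_lit 47)) (.cons (nat_lit 3210) (nat_lit 0x2851969) (.leaf 1 (nat_lit 0x50b739c9) (nat_lit 52)) (.cons (nat_lit 3420) (nat_lit 0x38f0d64) (.leaf 1 (nat_lit 0x508c7c51) (nat_lit 48)) (.cons (nat_lit 1605) (nat_lit 0x3e480bb) (.leaf 1 (nat_lit 0x4515705a) (nat_lit 32)) (.cons (nat_lit 313) (nat_lit 0x2e5196f) (.leaf 1 (nat_lit 0x40a40271) (nat_lit 1039)) (.cons (nat_lit 1164) (nat_lit 0x2992e88) (.leaf 1 (nat_lit 0x76e90b70) (nat_lit 1054)) (.cons (nat_lit 3529) (nat_lit 0x52199008) (.leaf 1 (nat_lit 0x65fd411d) (nat_lit 1048)) (.cons (nat_lit 346) (nat_lit 0x4b9b39c8) (.leaf 1 (nat_lit 0x40e4e1de) (nat_lit 1)) (.cons (nat_lit 135) (nat_lit 0x4b9d1808) (.leaf 1 (nat_lit 0x32f4d53) (nat_lit 1)) .nil)))))))))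
def tA45 : CT := .cons (nat_lit 1299) (nat_lit 1) (.leaf 1 (nat_lit 0x2a1dbfa) (nat_lit 48)) (.cons (nat_lit 2685) (nat_lit 0x2550bf9) (.leaf 1 (nat_lit 0x22ffe3e) (nat_lit 1)) (.cons (nat_lit 2151) (nat_lit 0x2851969) (.leaf 1 (nat_lit 0x320aba4) (nat_lit 1308)) (.cons (nat_lit 1540) (nat_lit 0x38f0d64) (.leaf 1 (nat_lit 0x7039bfd9) (nat_lit 52)) (.cons (nat_lit 2606) (nat_lit 0x3e480bb) (.leaf 1 (nat_lit 0x3e4c6e2) (nat_lit 47)) (.cons (nat_lit 2561) (nat_lit 0x2e5196f) (.leaf 1 (nat_lit 0x6094c2e8) (nat_lit 49)) (.cons (nat_lit 2376) (nat_lit 0x2992e88) (.leaf 1 (nat_lit 0x314401b) (nat_lit 53)) (.cons (nat_lit 3686) (nat_lit 0x52199008) (.leaf 1 (nat_lit 0x4425205b) (nat_lit 32)) (.cons (nat_lit 2089) (nat_lit 0x4b9b39c8) (.leaf 1 (nat_lit 0x21f2360) (nat_lit 49)) (.cons (nat_lit 3706) (nat_lit 0x4b9d1808) (.leaf 1 (nat_lit 0x408d4d1a) (nat_lit 54)) .nil)))))))))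
def tA46 : CT := .cons (nat_lit 3372) (nat_lit 1) (.leaf 1 (nat_lit 0x364e7ee) (nat_lit 1032)) (.cons (nat_lit 1489) (nat_lit 0x2550bf9) (.leaf 1 (nat_lit 0x45119609) (nat_lit 1552)) (.cons (nat_lit 1959) (nat_lit 0x2851969) (.leaf 1 (nat_lit 0x3c46bdd) (nat_lit 48)) (.cons (nat_lit 134) (nat_lit 0x38f0d64) (.leaf 1 (nat_lit 0x21f3ee1) (nat_lit 60)) (.cons (nat_lit 2369) (nat_lit 0x3e480bb) (.leaf 1 (nat_lit 0x3342115) (nat_lit 32)) (.cons (nat_lit 1436) (nat_lit 0x2e5196f) (.leaf 1 (nat_lit 0x41343d03) (nat_lit 56)) (.cons (nat_lit 2346) (nat_lit 0x2992e88) (.leaf 1 (nat_lit 0x71448831) (nat_lit 32)) (.cons (nat_lit 881) (nat_lit 0x52199008) (.leaf 1 (nat_lit 0x444d8dc9) (nat_lit 57)) (.cons (nat_lit 3136) (nat_lit 0x4b9b39c8) (.leaf 1 (nat_lit 0x3d482c0) (nat_lit 1)) (.cons (nat_lit 1443) (nat_lit 0x4b9d1808) (.leaf 1 (nat_lit 0x17bfda) (nat_lit 48)) .nil)))))))))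
def tA47 : CT := .cons (nat_lit 582) (nat_lit 1) (.leaf 1 (nat_lit 0x228fa32) (nat_lit 63)) (.cons (nat_lit 1653) (nat_lit 0x2550bf9) (.leaf 1 (nat_lit 0x6e142c69) (nat_lit 1027)) (.cons (nat_lit 3136) (nat_lit 0x2851969) (.leaf 1 (nat_lit 0x2abbfc9) (nat_lit 54)) (.cons (nat_lit 3029) (nat_lit 0x38f0d64) (.leaf 1 (nat_lit 0x74fd5519) (nat_lit 58)) (.cons (nat_lit 3386) (nat_lit 0x3e480bb) (.leaf 1 (nat_lit 0x7d412008) (nat_lit 40)) (.cons (nat_lit 3815) (nat_lit 0x2e5196f) (.leaf 1 (nat_lit 0x32b8505) (nat_lit 57)) (.cons (nat_lit 1812) (nat_lit 0x2992e88) (.leaf 1 (nat_lit 0x3a0a357) (nat_lit 40)) (.cons (nat_lit 2151) (nat_lit 0x52199008) (.leaf 1 (nat_lit 0x2ad07d8) (nat_lit 57)) (.cons (nat_lit 3645) (nat_lit 0x4b9b39c8) (.leaf 1 (nat_lit 0x533466d3) (nat_lit 41)) (.cons (nat_lit 122) (nat_lit 0x4b9d1808) (.leaf 1 (nat_lit 0x457ea7a4) (nat_lit 35)) .nil)))))))))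
def tA48 : CT := .cons (nat_lit 2156) (nat_lit 1) (.leaf 1 (nat_lit 0x71b92370) (nat_lit 50)) (.cons (nat_lit 291) (nat_lit 0x2550bf9) (.leaf 1 (nat_lit 0x188828) (nat_lit 35)) (.cons (nat_lit 2250) (nat_lit 0x2851969) (.leaf 1 (nat_lit 0x1a2322) (nat_lit 1)) (.cons (nat_lit 2674) (nat_lit 0x38f0d64) (.leaf 1 (nat_lit 0x682d234f) (nat_lit 59)) (.cons (nat_lit 3933) (nat_lit 0x3e480bb) (.leaf 1 (nat_lit 0x2a07ecf) (nat_lit 1555)) (.cons (nat_lit 2309) (nat_lit 0x2e5196f) (.leaf 1 (nat_lit 0x20f89eb) (nat_lit 1042)) (.cons (nat_lit 491) (nat_lit 0x2992e88) (.leaf 1 (nat_lit 0x3b4ff97) (nat_lit 32)) (.cons (nat_lit 3699) (nat_lit 0x52199008) (.leaf 1 (nat_lit 0x39fa448) (nat_lit 48)) (.cons (nat_lit 3767) (nat_lit 0x4b9b39c8) (.leaf 1 (nat_lit 0x47047a74) (nat_lit 60)) (.cons (nat_lit 3104) (nat_lit 0x4b9d1808) (.leaf 1 (nat_lit 0x7531a63b) (nat_lit 54)) .nil)))))))))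
def tA49 : CT := .cons (nat_lit 2024) (nat_lit 1) (.leaf 1 (nat_lit 0x62492d00) (nat_lit 52)) (.cons (nat_lit 3331) (nat_lit 0x2550bf9) (.leaf 1 (nat_lit 0x72917e74) (nat_lit 1032)) (.cons (nat_lit 445) (nat_lit 0x2851969) (.leaf 1 (nat_lit 0x51850379) (nat_lit 40)) (.cons (nat_lit 40) (nat_lit 0x38f0d64) (.leaf 1 (nat_lit 0x3226e1e) (nat_lit 52)) (.cons (nat_lit 281) (nat_lit 0x3e480bb) (.leaf 1 (nat_lit 0x41f5a119) (nat_lit 1038)) (.cons (nat_lit 3748) (nat_lit 0x2e5196f) (.leaf 1 (nat_lit 0x314e2d1) (nat_lit 43)) (.cons (nat_lit 1128) (nat_lit 0x2992e88) (.leaf 1 (nat_lit 0x3602242) (nat_lit 50)) (.cons (nat_lit 806) (nat_lit 0x52199008) (.leaf 1 (nat_lit 0x6132c3da) (nat_lit 1)) (.cons (nat_lit 4053) (nat_lit 0x4b9b39c8) (.leaf 1 (nat_lit 0x6c287c6a) (nat_lit 32)) (.cons (nat_lit 3084) (nat_lit 0x4b9d1808) (.leaf 1 (nat_lit 0x2b1baf7) (nat_lit 52)) .nil)))))))))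
def tA50 : CT := .cons (nat_lit 332) (nat_lit 1) (.leaf 1 (nat_lit 0x50fe2561) (nat_lit 32)) (.cons (nat_lit 1255) (nat_lit 0x2550bf9) (.leaf 1 (nat_lit 0x411f091e) (nat_lit 32)) (.cons (nat_lit 3922) (nat_lit 0x2851969) (.leaf 1 (nat_lit 0x231cdd5) (nat_lit 41)) (.cons (nat_lit 3517) (nat_lit 0x38f0d64) (.leaf 1 (nat_lit 0x21deed4) (nat_lit 1)) (.cons (nat_lit 3878) (nat_lit 0x3e480bb) (.leaf 1 (nat_lit 0x2bea2fb) (nat_lit 59)) (.cons (nat_lit 1938) (nat_lit 0x2e5196f) (.leaf 1 (nat_lit 0x4cad5936) (nat_lit 1040)) (.cons (nat_lit 947) (nat_lit 0x2992e88) (.leaf 1 (nat_lit 0x3c8fed1) (nat_lit 41)) (.cons (nat_lit 2794) (nat_lit 0x52199008) (.leaf 1 (nat_lit 0x60072b52) (nat_lit 59)) (.cons (nat_lit 730) (nat_lit 0x4b9b39c8) (.leaf 1 (nat_lit 0x51d7268b) (nat_lit 57)) (.cons (nat_lit 1436) (nat_lit 0x4b9d1808) (.leaf 1 (nat_lit 0x295d9db) (nat_lit 1)) .nil)))))))))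
def tA51 : CT := .cons (nat_lit 964) (nat_lit 1) (.leaf 1 (nat_lit 0x45c80ca9) (nat_lit 1027)) (.cons (nat_lit 2083) (nat_lit 0x2550bf9) (.leaf 1 (nat_lit 0x552fa622) (nat_lit 32)) (.cons (nat_lit 1795) (nat_lit 0x2851969) (.leaf 1 (nat_lit 0x430995fa) (nat_lit 52)) (.cons (nat_lit 1668) (nat_lit 0x38f0d64) (.leaf 1 (nat_lit 0x44fe23da) (nat_lit 41)) (.cons (nat_lit 2222) (nat_lit 0x3e480bb) (.leaf 1 (nat_lit 0x325feca) (nat_lit 32)) (.cons (nat_lit 3067) (nat_lit 0x2e5196f) (.leaf 1 (nat_lit 0x5e8853d0) (nat_lit 48)) (.cons (nat_lit 2811) (nat_lit 0x2992e88) (.leaf 1 (nat_lit 0x459b0ef7) (nat_lit 1)) (.cons (nat_lit 2436) (nat_lit 0x52199008) (.leaf 1 (nat_lit 0x75db993c) (nat_lit 58)) (.cons (nat_lit 722) (nat_lit 0x4b9b39c8) (.leaf 1 (nat_lit 0x20dff7d) (nat_lit 34)) (.cons (nat_lit 3709) (nat_lit 0x4b9d1808) (.leaf 1 (nat_lit 0x4774084f) (nat_lit 49)) .nil)))))))))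
def tA52 : CT := .cons (nat_lit 3678) (nat_lit 1) (.leaf 1 (nat_lit 0x63c42384) (nat_lit 53)) (.cons (nat_lit 1037) (nat_lit 0x2550bf9) (.leaf 1 (nat_lit 0x394bafe) (nat_lit 58)) (.cons (nat_lit 3937) (nat_lit 0x2851969) (.leaf 1 (nat_lit 0x2f5d7d2) (nat_lit 52)) (.cons (nat_lit 3100) (nat_lit 0x38f0d64) (.leaf 1 (nat_lit 0x6bfb5bf3) (nat_lit 1)) (.cons (nat_lit 90) (nat_lit 0x3e480bb) (.leaf 1 (nat_lit 0x824413fcb) (nat_lit 52)) (.cons (nat_lit 1361) (nat_lit 0x2e5196f) (.leaf 1 (nat_lit 0x148931) (nat_lit 34)) (.cons (nat_lit 3542) (nat_lit 0x2992e88) (.leaf 1 (nat_lit 0x7124445a) (nat_lit 1052)) (.cons (nat_lit 3646) (nat_lit 0x52199008) (.leaf 1 (nat_lit 0x2918d4e) (nat_lit 48)) (.cons (nat_lit 2560) (nat_lit 0x4b9b39c8) (.leaf 1 (nat_lit 0x225945f) (nat_lit 52)) (.cons (nat_lit 1435) (nat_lit 0x4b9d1808) (.leaf 1 (nat_lit 0x3acdb53) (nat_lit 62)) .nil)))))))))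
def tA53 : CT := .cons (nat_lit 3563) (nat_lit 1) (.leaf 1 (nat_lit 0x22fd772) (nat_lit 50)) (.cons (nat_lit 1310) (nat_lit 0x2550bf9) (.leaf 1 (nat_lit 0x4690fb42) (nat_lit 1)) (.cons (nat_lit 2388) (nat_lit 0x2851969) (.leaf 1 (nat_lit 0x2a85f0a) (nat_lit 52)) (.cons (nat_lit 2949) (nat_lit 0x38f0d64) (.leaf 1 (nat_lit 0x45a2e478) (nat_lit 32)) (.cons (nat_lit 76) (nat_lit 0x3e480bb) (.leaf 1 (nat_lit 0x41b7e9ef) (nat_lit 56)) (.cons (nat_lit 599) (nat_lit 0x2e5196f) (.leaf 1 (nat_lit 0x623e5c5e) (nat_lit 32)) (.cons (nat_lit 686) (nat_lit 0x2992e88) (.leaf 1 (nat_lit 0x79234ef9) (nat_lit 40)) (.cons (nat_lit 217) (nat_lit 0x52199008) (.leaf 1 (nat_lit 0x71e42359) (nat_lit 34)) (.cons (nat_lit 1162) (nat_lit 0x4b9b39c8) (.leaf 1 (nat_lit 0x36de6ca) (nat_lit 38)) (.cons (nat_lit 3696) (nat_lit 0x4b9d1808) (.leaf 1 (nat_lit 0x6c98bc5b) (nat_lit 33)) .nil)))))))))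
def tA54 : CT := .cons (nat_lit 2553) (nat_lit 1) (.leaf 1 (nat_lit 0x112955) (nat_lit 60)) (.cons (nat_lit 2277) (nat_lit 0x2550bf9) (.leaf 1 (nat_lit 0x3696b42) (nat_lit 1034)) (.cons (nat_lit 1722) (nat_lit 0x2851969) (.leaf 1 (nat_lit 0x285cff1) (nat_lit 40)) (.cons (nat_lit 691) (nat_lit 0x38f0d64) (.leaf 1 (nat_lit 0x3ed12ea) (nat_lit 40)) (.cons (nat_lit 2252) (nat_lit 0x3e480bb) (.leaf 1 (nat_lit 0x28e5ff2) (nat_lit 38)) (.cons (nat_lit 2964) (nat_lit 0x2e5196f) (.leaf 1 (nat_lit 0x65af68b0) (nat_lit 33)) (.cons (nat_lit 617) (nat_lit 0x2992e88) (.leaf 1 (nat_lit 0x6ce92c7a) (nat_lit 52)) (.cons (nat_lit 2690) (nat_lit 0x52199008) (.leaf 1 (nat_lit 0x264651e) (nat_lit 50)) (.cons (nat_lit 2432) (nat_lit 0x4b9b39c8) (.leaf 1 (nat_lit 0x4094bbe8) (nat_lit 54)) (.cons (nat_lit 1398) (nat_lit 0x4b9d1808) (.leaf 1 (nat_lit 0x36d9aea) (nat_lit 58)) .nil)))))))))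
def tA55 : CT := .cons (nat_lit 2977) (nat_lit 1) (.leaf 1 (nat_lit 0x14ae4b) (nat_lit 58)) (.cons (nat_lit 2709) (nat_lit 0x2550bf9) (.leaf 1 (nat_lit 0x500104c3) (nat_lit 49)) (.cons (nat_lit 1145) (nat_lit 0x2851969) (.leaf 1 (nat_lit 0x65a5111c) (nat_lit 52)) (.cons (nat_lit 521) (nat_lit 0x38f0d64) (.leaf 1 (nat_lit 0x61ee9b48) (nat_lit 48)) (.cons (nat_lit 144) (nat_lit 0x3e480bb) (.leaf 1 (nat_lit 0x20f809b) (nat_lit 1042)) (.cons (nat_lit 357) (nat_lit 0x2e5196f) (.leaf 1 (nat_lit 0x3b2b9d0) (nat_lit 1024)) (.cons (nat_lit 2048) (nat_lit 0x2992e88) (.leaf 1 (nat_lit 0x2fe6931) (nat_lit 60)) (.cons (nat_lit 1976) (nat_lit 0x52199008) (.leaf 1 (nat_lit 0x7528c50b) (nat_lit 49)) (.cons (nat_lit 2810) (nat_lit 0x4b9b39c8) (.leaf 1 (nat_lit 0x228a2af) (nat_lit 38)) (.cons (nat_lit 413) (nat_lit 0x4b9d1808) (.leaf 1 (nat_lit 0x222dd0f) (nat_lit 53)) .nil)))))))))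
def tA56 : CT := .cons (nat_lit 2519) (nat_lit 1) (.leaf 1 (nat_lit 0x4cff2437) (nat_lit 56)) (.cons (nat_lit 2631) (nat_lit 0x2550bf9) (.leaf 1 (nat_lit 0x61252390) (nat_lit 50)) (.cons (nat_lit 2579) (nat_lit 0x2851969) (.leaf 1 (nat_lit 0x65f96bd7) (nat_lit 32)) (.cons (nat_lit 3737) (nat_lit 0x38f0d64) (.leaf 1 (nat_lit 0x3ea2f63) (nat_lit 38)) (.cons (nat_lit 3912) (nat_lit 0x3e480bb) (.leaf 1 (nat_lit 0x368e87f) (nat_lit 41)) (.cons (nat_lit 3980) (nat_lit 0x2e5196f) (.leaf 1 (nat_lit 0x41758e1e) (nat_lit 49)) (.cons (nat_lit 1827) (nat_lit 0x2992e88) (.leaf 1 (nat_lit 0x60558f0a) (nat_lit 1)) (.cons (nat_lit 3880) (nat_lit 0x52199008) (.leaf 1 (nat_lit 0x544173e2) (nat_lit 55)) (.cons (nat_lit 1628) (nat_lit 0x4b9b39c8) (.leaf 1 (nat_lit 0x608ca535) (nat_lit 1043)) (.cons (nat_lit 2477) (nat_lit 0x4b9d1808) (.leaf 1 (nat_lit 0x60e4805f) (nat_lit 1032)) .nil)))))))))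
def tA57 : CT := .cons (nat_lit 580) (nat_lit 1) (.leaf 1 (nat_lit 0x36fa233) (nat_lit 60)) (.cons (nat_lit 3462) (nat_lit 0x2550bf9) (.leaf 1 (nat_lit 0x61cc41c5) (nat_lit 50)) (.cons (nat_lit 242) (nat_lit 0x2851969) (.leaf 1 (nat_lit 0x78255fd0) (nat_lit 59)) (.cons (nat_lit 2529) (nat_lit 0x38f0d64) (.leaf 1 (nat_lit 0x758b23de) (nat_lit 38)) (.cons (nat_lit 267) (nat_lit 0x3e480bb) (.leaf 1 (nat_lit 0x26e7e46) (nat_lit 50)) (.cons (nat_lit 3725) (nat_lit 0x2e5196f) (.leaf 1 (nat_lit 0x51558d0a) (nat_lit 1048)) (.cons (nat_lit 1671) (nat_lit 0x2992e88) (.leaf 1 (nat_lit 0x228eb88) (nat_lit 1032)) (.cons (nat_lit 1815) (nat_lit 0x52199008) (.leaf 1 (nat_lit 0x79fedad1) (nat_lit 34)) (.cons (nat_lit 3543) (nat_lit 0x4b9b39c8) (.leaf 1 (nat_lit 0x20569e2) (nat_lit 1542)) (.cons (nat_lit 1899) (nat_lit 0x4b9d1808) (.leaf 1 (nat_lit 0x3146828) (nat_lit 48)) .nil)))))))))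
def tA58 : CT := .cons (nat_lit 3617) (nat_lit 1) (.leaf 1 (nat_lit 0x51f1b8b5) (nat_lit 1040)) (.cons (nat_lit 1590) (nat_lit 0x2550bf9) (.leaf 1 (nat_lit 0x408827a2) (nat_lit 49)) (.cons (nat_lit 1236) (nat_lit 0x2851969) (.leaf 1 (nat_lit 0x411f6371) (nat_lit 40)) (.cons (nat_lit 421) (nat_lit 0x38f0d64) (.leaf 1 (nat_lit 0x51e92e09) (nat_lit 49)) (.cons (nat_lit 2585) (nat_lit 0x3e480bb) (.leaf 1 (nat_lit 0x2847624) (nat_lit 52)) (.cons (nat_lit 2730) (nat_lit 0x2e5196f) (.leaf 1 (nat_lit 0x2be7a22) (nat_lit 1)) (.cons (nat_lit 3209) (nat_lit 0x2992e88) (.leaf 1 (nat_lit 0x68f8f4de) (nat_lit 48)) (.cons (nat_lit 1715) (nat_lit 0x52199008) (.leaf 1 (nat_lit 0x65144ff4) (nat_lit 58)) (.cons (nat_lit 193) (nat_lit 0x4b9b39c8) (.leaf 1 (nat_lit 0x7a9f4d53) (nat_lit 60)) (.cons (nat_lit 1795) (nat_lit 0x4b9d1808) (.leaf 1 (nat_lit 0x6fecc969) (nat_lit 1050)) .nil)))))))))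
def tA59 : CT := .cons (nat_lit 2157) (nat_lit 1) (.leaf 1 (nat_lit 0x616dc1c4) (nat_lit 1042)) (.cons (nat_lit 3390) (nat_lit 0x2550bf9) (.leaf 1 (nat_lit 0x26d2709) (nat_lit 32)) (.cons (nat_lit 483) (nat_lit 0x2851969) (.leaf 1 (nat_lit 0x3e7de28) (nat_lit 1027)) (.cons (nat_lit 2151) (nat_lit 0x38f0d64) (.leaf 1 (nat_lit 0x3ad0f4e) (nat_lit 60)) (.cons (nat_lit 3163) (nat_lit 0x3e480bb) (.leaf 1 (nat_lit 0x61ab462b) (nat_lit 32)) (.cons (nat_lit 2089) (nat_lit 0x2e5196f) (.leaf 1 (nat_lit 0x5fe06c7d) (nat_lit 40)) (.cons (nat_lit 1049) (nat_lit 0x2992e88) (.leaf 1 (nat_lit 0x314d9ce) (nat_lit 1030)) (.cons (nat_lit 1523) (nat_lit 0x52199008) (.leaf 1 (nat_lit 0x63b1df62) (nat_lit 40)) (.cons (nat_lit 3566) (nat_lit 0x4b9b39c8) (.leaf 1 (nat_lit 0x239890f) (nat_lit 43)) (.cons (nat_lit 2019) (nat_lit 0x4b9d1808) (.leaf 1 (nat_lit 0x3aea470) (nat_lit 54)) .nil)))))))))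
def tA60 : CT := .cons (nat_lit 3337) (nat_lit 1) (.leaf 1 (nat_lit 0x3144d49) (nat_lit 1546)) (.cons (nat_lit 359) (nat_lit 0x2550bf9) (.leaf 1 (nat_lit 0x11bdf1) (nat_lit 32)) (.cons (nat_lit 4029) (nat_lit 0x2851969) (.leaf 1 (nat_lit 0x29ff540) (nat_lit 32)) (.cons (nat_lit 3649) (nat_lit 0x38f0d64) (.leaf 1 (nat_lit 0x2ab0a3f) (nat_lit 1026)) (.cons (nat_lit 3157) (nat_lit 0x3e480bb) (.leaf 1 (nat_lit 0x205cff6) (nat_lit 38)) (.cons (nat_lit 3779) (nat_lit 0x2e5196f) (.leaf 1 (nat_lit 0x3aa08dd) (nat_lit 52)) (.cons (nat_lit 2472) (nat_lit 0x2992e88) (.leaf 1 (nat_lit 0x3a7fa5f) (nat_lit 53)) (.cons (nat_lit 1836) (nat_lit 0x52199008) (.leaf 1 (nat_lit 0x38307d3) (nat_lit 1560)) (.cons (nat_lit 3657) (nat_lit 0x4b9b39c8) (.leaf 1 (nat_lit 0x62293c46) (nat_lit 32)) (.cons (nat_lit 4041) (nat_lit 0x4b9d1808) (.leaf 1 (nat_lit 0x22bbd0f) (nat_lit 60)) .nil)))))))))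
def tA61 : CT := .cons (nat_lit 1201) (nat_lit 1) (.leaf 1 (nat_lit 0x29038de) (nat_lit 56)) (.cons (nat_lit 2265) (nat_lit 0x2550bf9) (.leaf 1 (nat_lit 0x26d23e5) (nat_lit 56)) (.cons (nat_lit 3481) (nat_lit 0x2851969) (.leaf 1 (nat_lit 0x3a0ad36) (nat_lit 60)) (.cons (nat_lit 604) (nat_lit 0x38f0d64) (.leaf 1 (nat_lit 0x2a0c64a) (nat_lit 1)) (.cons (nat_lit 2436) (nat_lit 0x3e480bb) (.leaf 1 (nat_lit 0x6101d651) (nat_lit 1026)) (.cons (nat_lit 252) (nat_lit 0x2e5196f) (.leaf 1 (nat_lit 0x32fc111) (nat_lit 1026)) (.cons (nat_lit 1690) (nat_lit 0x2992e88) (.leaf 1 (nat_lit 0x541d96e0) (nat_lit 62)) (.cons (nat_lit 1491) (nat_lit 0x52199008) (.leaf 1 (nat_lit 0x21f8204) (nat_lit 47)) (.cons (nat_lit 291) (nat_lit 0x4b9b39c8) (.leaf 1 (nat_lit 0x6ea1a55e) (nat_lit 48)) (.cons (nat_lit 2165) (nat_lit 0x4b9d1808) (.leaf 1 (nat_lit 0x31cc84a) (nat_lit 1)) .nil)))))))))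
def tA62 : CT := .cons (nat_lit 3608) (nat_lit 1) (.leaf 1 (nat_lit 0x465b06e8) (nat_lit 32)) (.cons (nat_lit 2964) (nat_lit 0x2550bf9) (.leaf 1 (nat_lit 0x1de1d2) (nat_lit 1030)) (.cons (nat_lit 483) (nat_lit 0x2851969) (.leaf 1 (nat_lit 0x6427e48a) (nat_lit 59)) (.cons (nat_lit 2053) (nat_lit 0x38f0d64) (.leaf 1 (nat_lit 0x1f4651) (nat_lit 32)) (.cons (nat_lit 1549) (nat_lit 0x3e480bb) (.leaf 1 (nat_lit 0x228fa1d) (nat_lit 52)) (.cons (nat_lit 1362) (nat_lit 0x2e5196f) (.leaf 1 (nat_lit 0x64f5ced0) (nat_lit 56)) (.cons (nat_lit 1259) (nat_lit 0x2992e88) (.leaf 1 (nat_lit 0x77216bdc) (nat_lit 52)) (.cons (nat_lit 947) (nat_lit 0x52199008) (.leaf 1 (nat_lit 0x37146c2) (nat_lit 48)) (.cons (nat_lit 1255) (nat_lit 0x4b9b39c8) (.leaf 1 (nat_lit 0x2fd7530) (nat_lit 57)) (.cons (nat_lit 3238) (nat_lit 0x4b9d1808) (.leaf 1 (nat_lit 0x411fc962) (nat_lit 50)) .nil)))))))))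
def tA63 : CT := .cons (nat_lit 1523) (nat_lit 1) (.leaf 1 (nat_lit 0x79e45dfa) (nat_lit 32)) (.cons (nat_lit 1847) (nat_lit 0x2550bf9) (.leaf 1 (nat_lit 0x29b485d) (nat_lit 1557)) (.cons (nat_lit 3625) (nat_lit 0x2851969) (.leaf 1 (nat_lit 0x22fb921) (nat_lit 1)) (.cons (nat_lit 2495) (nat_lit 0x38f0d64) (.leaf 1 (nat_lit 0x17a03e) (nat_lit 54)) (.cons (nat_lit 1609) (nat_lit 0x3e480bb) (.leaf 1 (nat_lit 0x65700f42) (nat_lit 1028)) (.cons (nat_lit 3376) (nat_lit 0x2e5196f) (.leaf 1 (nat_lit 0x2aba05e) (nat_lit 60)) (.cons (nat_lit 2160) (nat_lit 0x2992e88) (.leaf 1 (nat_lit 0x7e0d80d3) (nat_lit 49)) (.cons (nat_lit 2157) (nat_lit 0x52199008) (.leaf 1 (nat_lit 0x3a1ef1f) (nat_lit 1)) (.cons (nat_lit 388) (nat_lit 0x4b9b39c8) (.leaf 1 (nat_lit 0x2988bcb) (nat_lit 1024)) (.cons (nat_lit 3868) (nat_lit 0x4b9d1808) (.leaf 1 (nat_lit 0x104268) (nat_lit 1)) .nil)))))))))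
def tA64 : CT := .cons (nat_lit 3563) (nat_lit 1) (.leaf 1 (nat_lit 0x32dc391) (nat_lit 1)) (.cons (nat_lit 3880) (nat_lit 0x2550bf9) (.leaf 1 (nat_lit 0x6d9923f6) (nat_lit 38)) (.cons (nat_lit 3571) (nat_lit 0x2851969) (.leaf 1 (nat_lit 0x30d057d) (nat_lit 55)) (.cons (nat_lit 2501) (nat_lit 0x38f0d64) (.leaf 1 (nat_lit 0x15f7e3) (nat_lit 1560)) (.cons (nat_lit 759) (nat_lit 0x3e480bb) (.leaf 1 (nat_lit 0x603e7b39) (nat_lit 32)) (.cons (nat_lit 3626) (nat_lit 0x2e5196f) (.leaf 1 (nat_lit 0x1f7b50) (nat_lit 50)) (.cons (nat_lit 2851) (nat_lit 0x2992e88) (.leaf 1 (nat_lit 0x3757232) (nat_lit 56)) (.cons (nat_lit 3450) (nat_lit 0x52199008) (.leaf 1 (nat_lit 0x37ca7f9) (nat_lit 1051)) (.cons (nat_lit 1162) (nat_lit 0x4b9b39c8) (.leaf 1 (nat_lit 0x22d24c3) (nat_lit 56)) (.cons (nat_lit 3010) (nat_lit 0x4b9d1808) (.leaf 1 (nat_lit 0x21b8a33) (nat_lit 1)) .nil)))))))))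
def tA65 : CT := .cons (nat_lit 3689) (nat_lit 1) (.leaf 1 (nat_lit 0x39fa47f) (nat_lit 1024)) (.cons (nat_lit 723) (nat_lit 0x2550bf9) (.leaf 1 (nat_lit 0x7bb85f5a) (nat_lit 58)) (.cons (nat_lit 2666) (nat_lit 0x2851969) (.leaf 1 (nat_lit 0x290122a) (nat_lit 32)) (.cons (nat_lit 3719) (nat_lit 0x38f0d64) (.leaf 1 (nat_lit 0x708853f0) (nat_lit 48)) (.cons (nat_lit 3027) (nat_lit 0x3e480bb) (.leaf 1 (nat_lit 0x2a1f768) (nat_lit 41)) (.cons (nat_lit 706) (nat_lit 0x2e5196f) (.leaf 1 (nat_lit 0x28d6b82) (nat_lit 34)) (.cons (nat_lit 208) (nat_lit 0x2992e88) (.leaf 1 (nat_lit 0x788ea6c3) (nat_lit 1028)) (.cons (nat_lit 688) (nat_lit 0x52199008) (.leaf 1 (nat_lit 0x7850fe03) (nat_lit 56)) (.cons (nat_lit 382) (nat_lit 0x4b9b39c8) (.leaf 1 (nat_lit 0x55712dca) (nat_lit 47)) (.cons (nat_lit 689) (nat_lit 0x4b9d1808) (.leaf 1 (nat_lit 0x28dc5f7) (nat_lit 40)) .nil)))))))))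
def tA66 : CT := .cons (nat_lit 1297) (nat_lit 1) (.leaf 1 (nat_lit 0x195c48) (nat_lit 1024)) (.cons (nat_lit 679) (nat_lit 0x2550bf9) (.leaf 1 (nat_lit 0x533815e2) (nat_lit 32)) (.cons (nat_lit 1252) (nat_lit 0x2851969) (.leaf 1 (nat_lit 0x3bcf87e) (nat_lit 53)) (.cons (nat_lit 215) (nat_lit 0x38f0d64) (.leaf 1 (nat_lit 0x7c01239f) (nat_lit 40)) (.cons (nat_lit 1037) (nat_lit 0x3e480bb) (.leaf 1 (nat_lit 0x413fdb7b) (nat_lit 48)) (.cons (nat_lit 1338) (nat_lit 0x2e5196f) (.leaf 1 (nat_lit 0x3891a7f) (nat_lit 52)) (.cons (nat_lit 4030) (nat_lit 0x2992e88) (.leaf 1 (nat_lit 0x6d67a33c) (nat_lit 1028)) (.cons (nat_lit 2741) (nat_lit 0x52199008) (.leaf 1 (nat_lit 0x21c7e9f) (nat_lit 40)) (.cons (nat_lit 2648) (nat_lit 0x4b9b39c8) (.leaf 1 (nat_lit 0x5654e776) (nat_lit 35)) (.cons (nat_lit 3542) (nat_lit 0x4b9d1808) (.leaf 1 (nat_lit 0x3a73a5a) (nat_lit 55)) .nil)))))))))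
def tA67 : CT := .cons (nat_lit 2727) (nat_lit 1) (.leaf 1 (nat_lit 0x500de3f6) (nat_lit 60)) (.cons (nat_lit 624) (nat_lit 0x2550bf9) (.leaf 1 (nat_lit 0x3c58132) (nat_lit 1)) (.cons (nat_lit 456) (nat_lit 0x2851969) (.leaf 1 (nat_lit 0x325da5b) (nat_lit 40)) (.cons (nat_lit 926) (nat_lit 0x38f0d64) (.leaf 1 (nat_lit 0x62e16cda) (nat_lit 56)) (.cons (nat_lit 2497) (nat_lit 0x3e480bb) (.leaf 1 (nat_lit 0x61613ae0) (nat_lit 1563)) (.cons (nat_lit 806) (nat_lit 0x2e5196f) (.leaf 1 (nat_lit 0x5487a36a) (nat_lit 32)) (.cons (nat_lit 3930) (nat_lit 0x2992e88) (.leaf 1 (nat_lit 0x45a0ea7b) (nat_lit 52)) (.cons (nat_lit 2950) (nat_lit 0x52199008) (.leaf 1 (nat_lit 0x3ae2ca6) (nat_lit 32)) (.cons (nat_lit 4002) (nat_lit 0x4b9b39c8) (.leaf 1 (nat_lit 0x2be792b) (nat_lit 34)) (.cons (nat_lit 2839) (nat_lit 0x4b9d1808) (.leaf 1 (nat_lit 0x1f0915) (nat_lit 1559)) .nil)))))))))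
def tA68 : CT := .cons (nat_lit 1843) (nat_lit 1) (.leaf 1 (nat_lit 0x4680aadc) (nat_lit 56)) (.cons (nat_lit 76) (nat_lit 0x2550bf9) (.leaf 1 (nat_lit 0x51a1eb24) (nat_lit 48)) (.cons (nat_lit 759) (nat_lit 0x2851969) (.leaf 1 (nat_lit 0x71085f5d) (nat_lit 49)) (.cons (nat_lit 1051) (nat_lit 0x38f0d64) (.leaf 1 (nat_lit 0x60350231) (nat_lit 1052)) (.cons (nat_lit 951) (nat_lit 0x3e480bb) (.leaf 1 (nat_lit 0x30cc51f) (nat_lit 50)) (.cons (nat_lit 1840) (nat_lit 0x2e5196f) (.leaf 1 (nat_lit 0x2252383) (nat_lit 1)) (.cons (nat_lit 2721) (nat_lit 0x2992e88) (.leaf 1 (nat_lit 0x7e24ec6e) (nat_lit 32)) (.cons (nat_lit 1019) (nat_lit 0x52199008) (.leaf 1 (nat_lit 0x344da6f) (nat_lit 1)) (.cons (nat_lit 2571) (nat_lit 0x4b9b39c8) (.leaf 1 (nat_lit 0x2b48e8f) (nat_lit 58)) (.cons (nat_lit 1534) (nat_lit 0x4b9d1808) (.leaf 1 (nat_lit 0x5025da63) (nat_lit 40)) .nil)))))))))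
def tA69 : CT := .cons (nat_lit 267) (nat_lit 1) (.leaf 1 (nat_lit 0x7bb48b3d) (nat_lit 1)) (.cons (nat_lit 322) (nat_lit 0x2550bf9) (.leaf 1 (nat_lit 0x3c8ab32) (nat_lit 1040)) (.cons (nat_lit 3741) (nat_lit 0x2851969) (.leaf 1 (nat_lit 0x45e4712e) (nat_lit 62)) (.cons (nat_lit 3779) (nat_lit 0x38f0d64) (.leaf 1 (nat_lit 0x3a413c5) (nat_lit 52)) (.cons (nat_lit 1788) (nat_lit 0x3e480bb) (.leaf 1 (nat_lit 0x225eccf) (nat_lit 48)) (.cons (nat_lit 1466) (nat_lit 0x2e5196f) (.leaf 1 (nat_lit 0x4c816c0b) (nat_lit 40)) (.cons (nat_lit 2529) (nat_lit 0x2992e88) (.leaf 1 (nat_lit 0x2f17a0f) (nat_lit 60)) (.cons (nat_lit 2771) (nat_lit 0x52199008) (.leaf 1 (nat_lit 0x32b8a37) (nat_lit 32)) (.cons (nat_lit 597) (nat_lit 0x4b9b39c8) (.leaf 1 (nat_lit 0x69690bf0) (nat_lit 43)) (.cons (nat_lit 448) (nat_lit 0x4b9d1808) (.leaf 1 (nat_lit 0x7f3fca2a) (nat_lit 62)) .nil)))))))))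
def tA70 : CT := .cons (nat_lit 1733) (nat_lit 1) (.leaf 1 (nat_lit 0x3942c70) (nat_lit 40)) (.cons (nat_lit 1187) (nat_lit 0x2550bf9) (.leaf 1 (nat_lit 0x55ddc3d9) (nat_lit 53)) (.cons (nat_lit 3459) (nat_lit 0x2851969) (.leaf 1 (nat_lit 0x63acc953) (nat_lit 1)) (.cons (nat_lit 1419) (nat_lit 0x38f0d64) (.leaf 1 (nat_lit 0x40a74bf0) (nat_lit 60)) (.cons (nat_lit 29) (nat_lit 0x3e480bb) (.leaf 1 (nat_lit 0x6880fc09) (nat_lit 52)) (.cons (nat_lit 260) (nat_lit 0x2e5196f) (.leaf 1 (nat_lit 0x7424bb7d) (nat_lit 48)) (.cons (nat_lit 665) (nat_lit 0x2992e88) (.leaf 1 (nat_lit 0x457f77e3) (nat_lit 1)) (.cons (nat_lit 195) (nat_lit 0x52199008) (.leaf 1 (nat_lit 0x29815c9) (nat_lit 49)) (.cons (nat_lit 3237) (nat_lit 0x4b9b39c8) (.leaf 1 (nat_lit 0x68ab0c3b) (nat_lit 1026)) (.cons (nat_lit 1045) (nat_lit 0x4b9d1808) (.leaf 1 (nat_lit 0x4251cee8) (nat_lit 58)) .nil)))))))))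
def tA71 : CT := .cons (nat_lit 1950) (nat_lit 1) (.leaf 1 (nat_lit 0x605bf529) (nat_lit 58)) (.cons (nat_lit 209) (nat_lit 0x2550bf9) (.leaf 1 (nat_lit 0x71222762) (nat_lit 1561)) (.cons (nat_lit 648) (nat_lit 0x2851969) (.leaf 1 (nat_lit 0x54e06ff1) (nat_lit 53)) (.cons (nat_lit 3775) (nat_lit 0x38f0d64) (.leaf 1 (nat_lit 0x23dc75d) (nat_lit 48)) (.cons (nat_lit 49) (nat_lit 0x3e480bb) (.leaf 1 (nat_lit 0x428f46d2) (nat_lit 58)) (.cons (nat_lit 2897) (nat_lit 0x2e5196f) (.leaf 1 (nat_lit 0x2fe5fe9) (nat_lit 53)) (.cons (nat_lit 3681) (nat_lit 0x2992e88) (.leaf 1 (nat_lit 0x568e7c68) (nat_lit 1)) (.cons (nat_lit 3728) (nat_lit 0x52199008) (.leaf 1 (nat_lit 0x51cf4bd7) (nat_lit 48)) (.cons (nat_lit 2690) (nat_lit 0x4b9b39c8) (.leaf 1 (nat_lit 0x3c4ed29) (nat_lit 60)) (.cons (nat_lit 2717) (nat_lit 0x4b9d1808) (.leaf 1 (nat_lit 0x7499dfd9) (nat_lit 53)) .nil)))))))))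
def tA72 : CT := .cons (nat_lit 2753) (nat_lit 1) (.leaf 1 (nat_lit 0x224657a) (nat_lit 1283)) (.cons (nat_lit 873) (nat_lit 0x2550bf9) (.leaf 1 (nat_lit 0x1d4118) (nat_lit 58)) (.cons (nat_lit 3133) (nat_lit 0x2851969) (.leaf 1 (nat_lit 0x40e54b60) (nat_lit 40)) (.cons (nat_lit 1722) (nat_lit 0x38f0d64) (.leaf 1 (nat_lit 0x4c1aeecb) (nat_lit 1050)) (.cons (nat_lit 2157) (nat_lit 0x3e480bb) (.leaf 1 (nat_lit 0x32dee49) (nat_lit 41)) (.cons (nat_lit 3335) (nat_lit 0x2e5196f) (.leaf 1 (nat_lit 0x57beee1c) (nat_lit 1047)) (.cons (nat_lit 507) (nat_lit 0x2992e88) (.leaf 1 (nat_lit 0x5fa16d39) (nat_lit 1)) (.cons (nat_lit 319) (nat_lit 0x52199008) (.leaf 1 (nat_lit 0x44ab6c00) (nat_lit 52)) (.cons (nat_lit 2252) (nat_lit 0x4b9b39c8) (.leaf 1 (nat_lit 0x61316a03) (nat_lit 59)) (.cons (nat_lit 3723) (nat_lit 0x4b9d1808) (.leaf 1 (nat_lit 0x29dc97d) (nat_lit 59)) .nil)))))))))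
def tA73 : CT := .cons (nat_lit 2753) (nat_lit 1) (.leaf 1 (nat_lit 0x3117f73) (nat_lit 50)) (.cons (nat_lit 3238) (nat_lit 0x2550bf9) (.leaf 1 (nat_lit 0x26b07cf) (nat_lit 1024)) (.cons (nat_lit 782) (nat_lit 0x2851969) (.leaf 1 (nat_lit 0x15d96e) (nat_lit 52)) (.cons (nat_lit 3225) (nat_lit 0x38f0d64) (.leaf 1 (nat_lit 0x6cac7eb3) (nat_lit 62)) (.cons (nat_lit 1653) (nat_lit 0x3e480bb) (.leaf 1 (nat_lit 0x30262eb) (nat_lit 1050)) (.cons (nat_lit 3018) (nat_lit 0x2e5196f) (.leaf 1 (nat_lit 0x45ed787a) (nat_lit 48)) (.cons (nat_lit 1682) (nat_lit 0x2992e88) (.leaf 1 (nat_lit 0x3cb245c) (nat_lit 1)) (.cons (nat_lit 58) (nat_lit 0x52199008) (.leaf 1 (nat_lit 0x3c30e82) (nat_lit 1041)) (.cons (nat_lit 2358) (nat_lit 0x4b9b39c8) (.leaf 1 (nat_lit 0x5feca459) (nat_lit 1)) (.cons (nat_lit 2725) (nat_lit 0x4b9d1808) (.leaf 1 (nat_lit 0x2b1de2b) (nat_lit 43)) .nil)))))))))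
def tA74 : CT := .cons (nat_lit 498) (nat_lit 1) (.leaf 1 (nat_lit 0x4095e268) (nat_lit 41)) (.cons (nat_lit 400) (nat_lit 0x2550bf9) (.leaf 1 (nat_lit 0x773d7863) (nat_lit 50)) (.cons (nat_lit 2536) (nat_lit 0x2851969) (.leaf 1 (nat_lit 0x2a2e1d6) (nat_lit 58)) (.cons (nat_lit 788) (nat_lit 0x38f0d64) (.leaf 1 (nat_lit 0x404b2df9) (nat_lit 32)) (.cons (nat_lit 1246) (nat_lit 0x3e480bb) (.leaf 1 (nat_lit 0x29fc642) (nat_lit 35)) (.cons (nat_lit 1521) (nat_lit 0x2e5196f) (.leaf 1 (nat_lit 0x22fdbb7) (nat_lit 1029)) (.cons (nat_lit 459) (nat_lit 0x2992e88) (.leaf 1 (nat_lit 0x205263b) (nat_lit 1046)) (.cons (nat_lit 2491) (nat_lit 0x52199008) (.leaf 1 (nat_lit 0x71b9dd13) (nat_lit 57)) (.cons (nat_lit 1996) (nat_lit 0x4b9b39c8) (.leaf 1 (nat_lit 0x45e7e7b6) (nat_lit 60)) (.cons (nat_lit 1910) (nat_lit 0x4b9d1808) (.leaf 1 (nat_lit 0x22dbf6e) (nat_lit 33)) .nil)))))))))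
def tA75 : CT := .cons (nat_lit 40) (nat_lit 1) (.leaf 1 (nat_lit 0x45eb7d32) (nat_lit 50)) (.cons (nat_lit 3100) (nat_lit 0x2550bf9) (.leaf 1 (nat_lit 0x7044a62f) (nat_lit 1052)) (.cons (nat_lit 1145) (nat_lit 0x2851969) (.leaf 1 (nat_lit 0x37825ce) (nat_lit 56)) (.cons (nat_lit 2560) (nat_lit 0x38f0d64) (.leaf 1 (nat_lit 0x320edc2) (nat_lit 32)) (.cons (nat_lit 160) (nat_lit 0x3e480bb) (.leaf 1 (nat_lit 0x78411357) (nat_lit 41)) (.cons (nat_lit 101) (nat_lit 0x2e5196f) (.leaf 1 (nat_lit 0x21463c3) (nat_lit 1)) (.cons (nat_lit 2132) (nat_lit 0x2992e88) (.leaf 1 (nat_lit 0x5e2cc536) (nat_lit 1030)) (.cons (nat_lit 445) (nat_lit 0x52199008) (.leaf 1 (nat_lit 0x364c63d) (nat_lit 41)) (.cons (nat_lit 538) (nat_lit 0x4b9b39c8) (.leaf 1 (nat_lit 0x61744065) (nat_lit 1054)) (.cons (nat_lit 2347) (nat_lit 0x4b9d1808) (.leaf 1 (nat_lit 0x3bb4f48) (nat_lit 60)) .nil)))))))))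
def tA76 : CT := .cons (nat_lit 1649) (nat_lit 1) (.leaf 1 (nat_lit 0x3f421ea) (nat_lit 34)) (.cons (nat_lit 1435) (nat_lit 0x2550bf9) (.leaf 1 (nat_lit 0x3b4c321) (nat_lit 56)) (.cons (nat_lit 1827) (nat_lit 0x2851969) (.leaf 1 (nat_lit 0x7d8f4502) (nat_lit 35)) (.cons (nat_lit 498) (nat_lit 0x38f0d64) (.leaf 1 (nat_lit 0x6d94fbce) (nat_lit 1032)) (.cons (nat_lit 459) (nat_lit 0x3e480bb) (.leaf 1 (nat_lit 0x3fa7b56) (nat_lit 48)) (.cons (nat_lit 1506) (nat_lit 0x2e5196f) (.leaf 1 (nat_lit 0x72abdf40) (nat_lit 58)) (.cons (nat_lit 40) (nat_lit 0x2992e88) (.leaf 1 (nat_lit 0x75a18e08) (nat_lit 38)) (.cons (nat_lit 3865) (nat_lit 0x52199008) (.leaf 1 (nat_lit 0x399690f) (nat_lit 62)) (.cons (nat_lit 3534) (nat_lit 0x4b9b39c8) (.leaf 1 (nat_lit 0x214025a) (nat_lit 34)) (.cons (nat_lit 842) (nat_lit 0x4b9d1808) (.leaf 1 (nat_lit 0x50ad0468) (nat_lit 58)) .nil)))))))))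
def tA77 : CT := .cons (nat_lit 2594) (nat_lit 1) (.leaf 1 (nat_lit 0x45836463) (nat_lit 1024)) (.cons (nat_lit 1290) (nat_lit 0x2550bf9) (.leaf 1 (nat_lit 0x64bc13f6) (nat_lit 35)) (.cons (nat_lit 3638) (nat_lit 0x2851969) (.leaf 1 (nat_lit 0x75cb5a6f) (nat_lit 1552)) (.cons (nat_lit 2417) (nat_lit 0x38f0d64) (.leaf 1 (nat_lit 0x3745f40) (nat_lit 34)) (.cons (nat_lit 2637) (nat_lit 0x3e480bb) (.leaf 1 (nat_lit 0x75c47dc8) (nat_lit 40)) (.cons (nat_lit 936) (nat_lit 0x2e5196f) (.leaf 1 (nat_lit 0x412d7229) (nat_lit 40)) (.cons (nat_lit 3993) (nat_lit 0x2992e88) (.leaf 1 (nat_lit 0x4791d553) (nat_lit 1564)) (.cons (nat_lit 2048) (nat_lit 0x52199008) (.leaf 1 (nat_lit 0x2ab269f) (nat_lit 1032)) (.cons (nat_lit 2816) (nat_lit 0x4b9b39c8) (.leaf 1 (nat_lit 0x60a4e27a) (nat_lit 60)) (.cons (nat_lit 3519) (nat_lit 0x4b9d1808) (.leaf 1 (nat_lit 0x7e8f3d15) (nat_lit 53)) .nil)))))))))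
def tA78 : CT := .cons (nat_lit 2553) (nat_lit 1) (.leaf 1 (nat_lit 0x50a8208b) (nat_lit 1)) (.cons (nat_lit 113) (nat_lit 0x2550bf9) (.leaf 1 (nat_lit 0x64f1691e) (nat_lit 50)) (.cons (nat_lit 1466) (nat_lit 0x2851969) (.leaf 1 (nat_lit 0x3f00f5e) (nat_lit 48)) (.cons (nat_lit 475) (nat_lit 0x38f0d64) (.leaf 1 (nat_lit 0x3c45632) (nat_lit 32)) (.cons (nat_lit 3741) (nat_lit 0x3e480bb) (.leaf 1 (nat_lit 0x3ac6dc8) (nat_lit 59)) (.cons (nat_lit 2329) (nat_lit 0x2e5196f) (.leaf 1 (nat_lit 0x450b76fe) (nat_lit 60)) (.cons (nat_lit 1383) (nat_lit 0x2992e88) (.leaf 1 (nat_lit 0x3a75a7a) (nat_lit 56)) (.cons (nat_lit 1507) (nat_lit 0x52199008) (.leaf 1 (nat_lit 0x78e45f70) (nat_lit 32)) (.cons (nat_lit 4051) (nat_lit 0x4b9b39c8) (.leaf 1 (nat_lit 0x4dcf2875) (nat_lit 58)) (.cons (nat_lit 1718) (nat_lit 0x4b9d1808) (.leaf 1 (nat_lit 0x765b0372) (nat_lit 62)) .nil)))))))))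
def tA79 : CT := .cons (nat_lit 3239) (nat_lit 1) (.leaf 1 (nat_lit 0x3b8c526) (nat_lit 48)) (.cons (nat_lit 3158) (nat_lit 0x2550bf9) (.leaf 1 (nat_lit 0x3a2792e) (nat_lit 1032)) (.cons (nat_lit 2024) (nat_lit 0x2851969) (.leaf 1 (nat_lit 0x51118ebf) (nat_lit 63)) (.cons (nat_lit 3194) (nat_lit 0x38f0d64) (.leaf 1 (nat_lit 0x451d5d78) (nat_lit 57)) (.cons (nat_lit 425) (nat_lit 0x3e480bb) (.leaf 1 (nat_lit 0x3ac8d15) (nat_lit 60)) (.cons (nat_lit 1351) (nat_lit 0x2e5196f) (.leaf 1 (nat_lit 0x408f7ad0) (nat_lit 1542)) (.cons (nat_lit 4057) (nat_lit 0x2992e88) (.leaf 1 (nat_lit 0x2ab6c7b) (nat_lit 47)) (.cons (nat_lit 1685) (nat_lit 0x52199008) (.leaf 1 (nat_lit 0x451eec92) (nat_lit 1)) (.cons (nat_lit 1646) (nat_lit 0x4b9b39c8) (.leaf 1 (nat_lit 0x74fdac7b) (nat_lit 1027)) (.cons (nat_lit 212) (nat_lit 0x4b9d1808) (.leaf 1 (nat_lit 0x7c158531) (nat_lit 1042)) .nil)))))))))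
def tA80 : CT := .cons (nat_lit 1348) (nat_lit 1) (.leaf 1 (nat_lit 0x3ba7ec9) (nat_lit 54)) (.cons (nat_lit 1116) (nat_lit 0x2550bf9) (.leaf 1 (nat_lit 0x7495c108) (nat_lit 58)) (.cons (nat_lit 2594) (nat_lit 0x2851969) (.leaf 1 (nat_lit 0x45a2d15a) (nat_lit 1027)) (.cons (nat_lit 689) (nat_lit 0x38f0d64) (.leaf 1 (nat_lit 0x3fb49fb) (nat_lit 56)) (.cons (nat_lit 81) (nat_lit 0x3e480bb) (.leaf 1 (nat_lit 0x41bf8949) (nat_lit 32)) (.cons (nat_lit 2538) (nat_lit 0x2e5196f) (.leaf 1 (nat_lit 0x748109f7) (nat_lit 62)) (.cons (nat_lit 3511) (nat_lit 0x2992e88) (.leaf 1 (nat_lit 0x22f83d7) (nat_lit 52)) (.cons (nat_lit 2571) (nat_lit 0x52199008) (.leaf 1 (nat_lit 0x51e02717) (nat_lit 47)) (.cons (nat_lit 3993) (nat_lit 0x4b9b39c8) (.leaf 1 (nat_lit 0x2246c30) (nat_lit 32)) (.cons (nat_lit 3036) (nat_lit 0x4b9d1808) (.leaf 1 (nat_lit 0x29063ff) (nat_lit 60)) .nil)))))))))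
def tA81 : CT := .cons (nat_lit 3147) (nat_lit 1) (.leaf 1 (nat_lit 0x22fc31a) (nat_lit 1546)) (.cons (nat_lit 3992) (nat_lit 0x2550bf9) (.leaf 1 (nat_lit 0x3648130) (nat_lit 52)) (.cons (nat_lit 2872) (nat_lit 0x2851969) (.leaf 1 (nat_lit 0x7d15637f) (nat_lit 59)) (.cons (nat_lit 1768) (nat_lit 0x38f0d64) (.leaf 1 (nat_lit 0x2971bd6) (nat_lit 40)) (.cons (nat_lit 1827) (nat_lit 0x3e480bb) (.leaf 1 (nat_lit 0x317dc51) (nat_lit 48)) (.cons (nat_lit 569) (nat_lit 0x2e5196f) (.leaf 1 (nat_lit 0x7761d932) (nat_lit 52)) (.cons (nat_lit 3823) (nat_lit 0x2992e88) (.leaf 1 (nat_lit 0x2b7f100) (nat_lit 48)) (.cons (nat_lit 271) (nat_lit 0x52199008) (.leaf 1 (nat_lit 0x39f8c6e) (nat_lit 50)) (.cons (nat_lit 3791) (nat_lit 0x4b9b39c8) (.leaf 1 (nat_lit 0x4d6984d2) (nat_lit 50)) (.cons (nat_lit 2631) (nat_lit 0x4b9d1808) (.leaf 1 (nat_lit 0x2900ae1) (nat_lit 32)) .nil)))))))))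
def tA82 : CT := .cons (nat_lit 137) (nat_lit 1) (.leaf 1 (nat_lit 0x2bb06b1) (nat_lit 56)) (.cons (nat_lit 400) (nat_lit 0x2550bf9) (.leaf 1 (nat_lit 0x3716b9e) (nat_lit 1042)) (.cons (nat_lit 3091) (nat_lit 0x2851969) (.leaf 1 (nat_lit 0x60a1bf96) (nat_lit 34)) (.cons (nat_lit 473) (nat_lit 0x38f0d64) (.leaf 1 (nat_lit 0x35429df) (nat_lit 52)) (.cons (nat_lit 3272) (nat_lit 0x3e480bb) (.leaf 1 (nat_lit 0x50bb0d23) (nat_lit 56)) (.cons (nat_lit 1848) (nat_lit 0x2e5196f) (.leaf 1 (nat_lit 0x1f6872) (nat_lit 1)) (.cons (nat_lit 2901) (nat_lit 0x2992e88) (.leaf 1 (nat_lit 0x615d7ac1) (nat_lit 32)) (.cons (nat_lit 2756) (nat_lit 0x52199008) (.leaf 1 (nat_lit 0x543921fa) (nat_lit 53)) (.cons (nat_lit 478) (nat_lit 0x4b9b39c8) (.leaf 1 (nat_lit 0x2f4a409) (nat_lit 48)) (.cons (nat_lit 1910) (nat_lit 0x4b9d1808) (.leaf 1 (nat_lit 0x51f8a87a) (nat_lit 60)) .nil)))))))))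
def tA83 : CT := .cons (nat_lit 413) (nat_lit 1) (.leaf 1 (nat_lit 0x3732405) (nat_lit 33)) (.cons (nat_lit 3865) (nat_lit 0x2550bf9) (.leaf 1 (nat_lit 0x3c477e9) (nat_lit 40)) (.cons (nat_lit 3692) (nat_lit 0x2851969) (.leaf 1 (nat_lit 0x55052068) (nat_lit 50)) (.cons (nat_lit 1942) (nat_lit 0x38f0d64) (.leaf 1 (nat_lit 0x3bf8fff) (nat_lit 1)) (.cons (nat_lit 3286) (nat_lit 0x3e480bb) (.leaf 1 (nat_lit 0x3b77c17) (nat_lit 55)) (.cons (nat_lit 144) (nat_lit 0x2e5196f) (.leaf 1 (nat_lit 0x32dacab) (nat_lit 52)) (.cons (nat_lit 3534) (nat_lit 0x2992e88) (.leaf 1 (nat_lit 0x3b1e11f) (nat_lit 49)) (.cons (nat_lit 2347) (nat_lit 0x52199008) (.leaf 1 (nat_lit 0x205b86e) (nat_lit 1667)) (.cons (nat_lit 4004) (nat_lit 0x4b9b39c8) (.leaf 1 (nat_lit 0x51e47bb6) (nat_lit 48)) (.cons (nat_lit 160) (nat_lit 0x4b9d1808) (.leaf 1 (nat_lit 0x32be7c3) (nat_lit 1024)) .nil)))))))))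
def tA84 : CT := .cons (nat_lit 957) (nat_lit 1) (.leaf 1 (nat_lit 0x7da1464f) (nat_lit 49)) (.cons (nat_lit 521) (nat_lit 0x2550bf9) (.leaf 1 (nat_lit 0x65a7a1e4) (nat_lit 34)) (.cons (nat_lit 2527) (nat_lit 0x2851969) (.leaf 1 (nat_lit 0x2046b8a) (nat_lit 57)) (.cons (nat_lit 1963) (nat_lit 0x38f0d64) (.leaf 1 (nat_lit 0x44fdefde) (nat_lit 1042)) (.cons (nat_lit 2445) (nat_lit 0x3e480bb) (.leaf 1 (nat_lit 0x2bb48ca) (nat_lit 60)) (.cons (nat_lit 3032) (nat_lit 0x2e5196f) (.leaf 1 (nat_lit 0x66134be6) (nat_lit 1040)) (.cons (nat_lit 2647) (nat_lit 0x2992e88) (.leaf 1 (nat_lit 0x26440ae) (nat_lit 57)) (.cons (nat_lit 4030) (nat_lit 0x52199008) (.leaf 1 (nat_lit 0x6891c2fe) (nat_lit 53)) (.cons (nat_lit 679) (nat_lit 0x4b9b39c8) (.leaf 1 (nat_lit 0x113f3b) (nat_lit 34)) (.cons (nat_lit 2709) (nat_lit 0x4b9d1808) (.leaf 1 (nat_lit 0x748e79f5) (nat_lit 52)) .nil)))))))))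
def tA85 : CT := .cons (nat_lit 2666) (nat_lit 1) (.leaf 1 (nat_lit 0x457bc6c8) (nat_lit 32)) (.cons (nat_lit 2709) (nat_lit 0x2550bf9) (.leaf 1 (nat_lit 0x51f1856f) (nat_lit 32)) (.cons (nat_lit 4030) (nat_lit 0x2851969) (.leaf 1 (nat_lit 0x3f7785b) (nat_lit 48)) (.cons (nat_lit 1590) (nat_lit 0x38f0d64) (.leaf 1 (nat_lit 0x3e07dd8) (nat_lit 32)) (.cons (nat_lit 1774) (nat_lit 0x3e480bb) (.leaf 1 (nat_lit 0x3243d58) (nat_lit 40)) (.cons (nat_lit 3417) (nat_lit 0x2e5196f) (.leaf 1 (nat_lit 0x65f5cfc1) (nat_lit 40)) (.cons (nat_lit 2300) (nat_lit 0x2992e88) (.leaf 1 (nat_lit 0x3aca628) (nat_lit 47)) (.cons (nat_lit 1649) (nat_lit 0x52199008) (.leaf 1 (nat_lit 0x6287a877) (nat_lit 40)) (.cons (nat_lit 1915) (nat_lit 0x4b9b39c8) (.leaf 1 (nat_lit 0x3ee5f20) (nat_lit 60)) (.cons (nat_lit 2774) (nat_lit 0x4b9d1808) (.leaf 1 (nat_lit 0x75a9baab) (nat_lit 1)) .nil)))))))))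
def tA86 : CT := .cons (nat_lit 2448) (nat_lit 1) (.leaf 1 (nat_lit 0x3943f76) (nat_lit 1)) (.cons (nat_lit 478) (nat_lit 0x2550bf9) (.leaf 1 (nat_lit 0x732d782a) (nat_lit 48)) (.cons (nat_lit 3091) (nat_lit 0x2851969) (.leaf 1 (nat_lit 0x5e25dbbf) (nat_lit 54)) (.cons (nat_lit 875) (nat_lit 0x38f0d64) (.leaf 1 (nat_lit 0x6880eddf) (nat_lit 49)) (.cons (nat_lit 1418) (nat_lit 0x3e480bb) (.leaf 1 (nat_lit 0x2b7ebd9) (nat_lit 43)) (.cons (nat_lit 3239) (nat_lit 0x2e5196f) (.leaf 1 (nat_lit 0x3a1b929) (nat_lit 40)) (.cons (nat_lit 101) (nat_lit 0x2992e88) (.leaf 1 (nat_lit 0x2830369) (nat_lit 41)) (.cons (nat_lit 624) (nat_lit 0x52199008) (.leaf 1 (nat_lit 0x406e413c) (nat_lit 34)) (.cons (nat_lit 3581) (nat_lit 0x4b9b39c8) (.leaf 1 (nat_lit 0x3a42bd8) (nat_lit 48)) (.cons (nat_lit 538) (nat_lit 0x4b9d1808) (.leaf 1 (nat_lit 0x4424ee48) (nat_lit 34)) .nil)))))))))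
def tA87 : CT := .cons (nat_lit 3238) (nat_lit 1) (.leaf 1 (nat_lit 0x60027c68) (nat_lit 38)) (.cons (nat_lit 1797) (nat_lit 0x2550bf9) (.leaf 1 (nat_lit 0x3f00fd4) (nat_lit 53)) (.cons (nat_lit 3543) (nat_lit 0x2851969) (.leaf 1 (nat_lit 0x63eca4d7) (nat_lit 48)) (.cons (nat_lit 3725) (nat_lit 0x38f0d64) (.leaf 1 (nat_lit 0x3bfc750) (nat_lit 41)) (.cons (nat_lit 838) (nat_lit 0x3e480bb) (.leaf 1 (nat_lit 0x381a353) (nat_lit 38)) (.cons (nat_lit 3040) (nat_lit 0x2e5196f) (.leaf 1 (nat_lit 0x51e43f7e) (nat_lit 57)) (.cons (nat_lit 416) (nat_lit 0x2992e88) (.leaf 1 (nat_lit 0x2985875) (nat_lit 54)) (.cons (nat_lit 1946) (nat_lit 0x52199008) (.leaf 1 (nat_lit 0x712516d3) (nat_lit 40)) (.cons (nat_lit 2729) (nat_lit 0x4b9b39c8) (.leaf 1 (nat_lit 0x45940562) (nat_lit 1305)) (.cons (nat_lit 3225) (nat_lit 0x4b9d1808) (.leaf 1 (nat_lit 0x51747932) (nat_lit 56)) .nil)))))))))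
def tA88 : CT := .cons (nat_lit 974) (nat_lit 1) (.leaf 1 (nat_lit 0x2888bd4) (nat_lit 41)) (.cons (nat_lit 215) (nat_lit 0x2550bf9) (.leaf 1 (nat_lit 0x46a1ed26) (nat_lit 52)) (.cons (nat_lit 2458) (nat_lit 0x2851969) (.leaf 1 (nat_lit 0x508d7162) (nat_lit 1)) (.cons (nat_lit 3286) (nat_lit 0x38f0d64) (.leaf 1 (nat_lit 0x3175873) (nat_lit 32)) (.cons (nat_lit 2730) (nat_lit 0x3e480bb) (.leaf 1 (nat_lit 0x3922c7a) (nat_lit 60)) (.cons (nat_lit 1070) (nat_lit 0x2e5196f) (.leaf 1 (nat_lit 0x28d734e) (nat_lit 56)) (.cons (nat_lit 1351) (nat_lit 0x2992e88) (.leaf 1 (nat_lit 0x743b4b50) (nat_lit 38)) (.cons (nat_lit 957) (nat_lit 0x52199008) (.leaf 1 (nat_lit 0x2330c6a) (nat_lit 48)) (.cons (nat_lit 1155) (nat_lit 0x4b9b39c8) (.leaf 1 (nat_lit 0x398a32a) (nat_lit 62)) (.cons (nat_lit 2647) (nat_lit 0x4b9d1808) (.leaf 1 (nat_lit 0x21f6533) (nat_lit 62)) .nil)))))))))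
def tA89 : CT := .cons (nat_lit 2289) (nat_lit 1) (.leaf 1 (nat_lit 0x41bfa47b) (nat_lit 58)) (.cons (nat_lit 1365) (nat_lit 0x2550bf9) (.leaf 1 (nat_lit 0x2af3ef1) (nat_lit 58)) (.cons (nat_lit 2794) (nat_lit 0x2851969) (.leaf 1 (nat_lit 0x6fa46b53) (nat_lit 40)) (.cons (nat_lit 2533) (nat_lit 0x38f0d64) (.leaf 1 (nat_lit 0x3285858) (nat_lit 56)) (.cons (nat_lit 2743) (nat_lit 0x3e480bb) (.leaf 1 (nat_lit 0x65f00f39) (nat_lit 48)) (.cons (nat_lit 1256) (nat_lit 0x2e5196f) (.leaf 1 (nat_lit 0x50fb8575) (nat_lit 62)) (.cons (nat_lit 260) (nat_lit 0x2992e88) (.leaf 1 (nat_lit 0x2a45d56) (nat_lit 1)) (.cons (nat_lit 2660) (nat_lit 0x52199008) (.leaf 1 (nat_lit 0x701dd92a) (nat_lit 53)) (.cons (nat_lit 2128) (nat_lit 0x4b9b39c8) (.leaf 1 (nat_lit 0x37d8bd4) (nat_lit 40)) (.cons (nat_lit 393) (nat_lit 0x4b9d1808) (.leaf 1 (nat_lit 0x7604b9d2) (nat_lit 43)) .nil)))))))))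
def tA90 : CT := .cons (nat_lit 273) (nat_lit 1) (.leaf 1 (nat_lit 0x2987130) (nat_lit 32)) (.cons (nat_lit 2638) (nat_lit 0x2550bf9) (.leaf 1 (nat_lit 0x150cb1) (nat_lit 62)) (.cons (nat_lit 2417) (nat_lit 0x2851969) (.leaf 1 (nat_lit 0x76f1790f) (nat_lit 1)) (.cons (nat_lit 2156) (nat_lit 0x38f0d64) (.leaf 1 (nat_lit 0x102042) (nat_lit 34)) (.cons (nat_lit 1338) (nat_lit 0x3e480bb) (.leaf 1 (nat_lit 0x3255f50) (nat_lit 1538)) (.cons (nat_lit 2309) (nat_lit 0x2e5196f) (.leaf 1 (nat_lit 0x3ae291a) (nat_lit 1562)) (.cons (nat_lit 464) (nat_lit 0x2992e88) (.leaf 1 (nat_lit 0x510bef6a) (nat_lit 1)) (.cons (nat_lit 2388) (nat_lit 0x52199008) (.leaf 1 (nat_lit 0x2092200) (nat_lit 40)) (.cons (nat_lit 672) (nat_lit 0x4b9b39c8) (.leaf 1 (nat_lit 0x3ad73fb) (nat_lit 33)) (.cons (nat_lit 3440) (nat_lit 0x4b9d1808) (.leaf 1 (nat_lit 0x54349874) (nat_lit 48)) .nil)))))))))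
def tA91 : CT := .cons (nat_lit 3440) (nat_lit 1) (.leaf 1 (nat_lit 0x2348e7e) (nat_lit 52)) (.cons (nat_lit 2477) (nat_lit 0x2550bf9) (.leaf 1 (nat_lit 0x2b84b65) (nat_lit 1042)) (.cons (nat_lit 3823) (nat_lit 0x2851969) (.leaf 1 (nat_lit 0x6489e87a) (nat_lit 32)) (.cons (nat_lit 2631) (nat_lit 0x38f0d64) (.leaf 1 (nat_lit 0x409e21eb) (nat_lit 1048)) (.cons (nat_lit 633) (nat_lit 0x3e480bb) (.leaf 1 (nat_lit 0x1cfc3e) (nat_lit 38)) (.cons (nat_lit 3740) (nat_lit 0x2e5196f) (.leaf 1 (nat_lit 0x63b76f6e) (nat_lit 53)) (.cons (nat_lit 1067) (nat_lit 0x2992e88) (.leaf 1 (nat_lit 0x33be6d1) (nat_lit 1)) (.cons (nat_lit 3892) (nat_lit 0x52199008) (.leaf 1 (nat_lit 0x3f1c31e) (nat_lit 32)) (.cons (nat_lit 3257) (nat_lit 0x4b9b39c8) (.leaf 1 (nat_lit 0x79a4e763) (nat_lit 52)) (.cons (nat_lit 2638) (nat_lit 0x4b9d1808) (.leaf 1 (nat_lit 0x519de2c0) (nat_lit 38)) .nil)))))))))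
def tA92 : CT := .cons (nat_lit 2770) (nat_lit 1) (.leaf 1 (nat_lit 0x2b92306) (nat_lit 58)) (.cons (nat_lit 1116) (nat_lit 0x2550bf9) (.leaf 1 (nat_lit 0x28eba4b) (nat_lit 32)) (.cons (nat_lit 2347) (nat_lit 0x2851969) (.leaf 1 (nat_lit 0x317a923) (nat_lit 1)) (.cons (nat_lit 689) (nat_lit 0x38f0d64) (.leaf 1 (nat_lit 0x658b1322) (nat_lit 34)) (.cons (nat_lit 3685) (nat_lit 0x3e480bb) (.leaf 1 (nat_lit 0x3a03904) (nat_lit 62)) (.cons (nat_lit 1554) (nat_lit 0x2e5196f) (.leaf 1 (nat_lit 0x6e80113f) (nat_lit 63)) (.cons (nat_lit 2265) (nat_lit 0x2992e88) (.leaf 1 (nat_lit 0x64a92bab) (nat_lit 1)) (.cons (nat_lit 759) (nat_lit 0x52199008) (.leaf 1 (nat_lit 0x21f8be3) (nat_lit 1564)) (.cons (nat_lit 2501) (nat_lit 0x4b9b39c8) (.leaf 1 (nat_lit 0x19fb3b) (nat_lit 58)) (.cons (nat_lit 3781) (nat_lit 0x4b9d1808) (.leaf 1 (nat_lit 0x4690a4d3) (nat_lit 55)) .nil)))))))))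
def tA93 : CT := .cons (nat_lit 1369) (nat_lit 1) (.leaf 1 (nat_lit 0x36b489b) (nat_lit 54)) (.cons (nat_lit 111) (nat_lit 0x2550bf9) (.leaf 1 (nat_lit 0x269a2fd) (nat_lit 57)) (.cons (nat_lit 2753) (nat_lit 0x2851969) (.leaf 1 (nat_lit 0x749ea7e1) (nat_lit 1)) (.cons (nat_lit 694) (nat_lit 0x38f0d64) (.leaf 1 (nat_lit 0x524b47c0) (nat_lit 58)) (.cons (nat_lit 2725) (nat_lit 0x3e480bb) (.leaf 1 (nat_lit 0x7909851a) (nat_lit 1)) (.cons (nat_lit 2364) (nat_lit 0x2e5196f) (.leaf 1 (nat_lit 0x261e31b) (nat_lit 48)) (.cons (nat_lit 2818) (nat_lit 0x2992e88) (.leaf 1 (nat_lit 0x3b1ea6e) (nat_lit 56)) (.cons (nat_lit 1295) (nat_lit 0x52199008) (.leaf 1 (nat_lit 0x325a68a) (nat_lit 32)) (.cons (nat_lit 814) (nat_lit 0x4b9b39c8) (.leaf 1 (nat_lit 0x4cfdba4b) (nat_lit 1)) (.cons (nat_lit 972) (nat_lit 0x4b9d1808) (.leaf 1 (nat_lit 0x3a0a4d2) (nat_lit 63)) .nil)))))))))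
def tA94 : CT := .cons (nat_lit 3748) (nat_lit 1) (.leaf 1 (nat_lit 0x5232e77e) (nat_lit 1052)) (.cons (nat_lit 1978) (nat_lit 0x2550bf9) (.leaf 1 (nat_lit 0x7099e778) (nat_lit 52)) (.cons (nat_lit 498) (nat_lit 0x2851969) (.leaf 1 (nat_lit 0x10ee42) (nat_lit 48)) (.cons (nat_lit 2541) (nat_lit 0x38f0d64) (.leaf 1 (nat_lit 0x3692f22) (nat_lit 53)) (.cons (nat_lit 3534) (nat_lit 0x3e480bb) (.leaf 1 (nat_lit 0x54a90b58) (nat_lit 1)) (.cons (nat_lit 2244) (nat_lit 0x2e5196f) (.leaf 1 (nat_lit 0x7d8922fa) (nat_lit 1)) (.cons (nat_lit 2170) (nat_lit 0x2992e88) (.leaf 1 (nat_lit 0x33f8363) (nat_lit 40)) (.cons (nat_lit 1823) (nat_lit 0x52199008) (.leaf 1 (nat_lit 0x5239fb08) (nat_lit 35)) (.cons (nat_lit 3131) (nat_lit 0x4b9b39c8) (.leaf 1 (nat_lit 0x3697ea9) (nat_lit 48)) (.cons (nat_lit 1130) (nat_lit 0x4b9d1808) (.leaf 1 (nat_lit 0x61ea2e08) (nat_lit 1034)) .nil)))))))))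
def tA95 : CT := .cons (nat_lit 2727) (nat_lit 1) (.leaf 1 (nat_lit 0x408262f0) (nat_lit 32)) (.cons (nat_lit 2552) (nat_lit 0x2550bf9) (.leaf 1 (nat_lit 0x71bffc28) (nat_lit 48)) (.cons (nat_lit 586) (nat_lit 0x2851969) (.leaf 1 (nat_lit 0x5d3b261a) (nat_lit 50)) (.cons (nat_lit 3834) (nat_lit 0x38f0d64) (.leaf 1 (nat_lit 0x2b8587d) (nat_lit 1297)) (.cons (nat_lit 109) (nat_lit 0x3e480bb) (.leaf 1 (nat_lit 0x4020a91e) (nat_lit 40)) (.cons (nat_lit 3700) (nat_lit 0x2e5196f) (.leaf 1 (nat_lit 0x33d0f2f) (nat_lit 1)) (.cons (nat_lit 1920) (nat_lit 0x2992e88) (.leaf 1 (nat_lit 0x5c903969) (nat_lit 54)) (.cons (nat_lit 1789) (nat_lit 0x52199008) (.leaf 1 (nat_lit 0x13484b) (nat_lit 50)) (.cons (nat_lit 4002) (nat_lit 0x4b9b39c8) (.leaf 1 (nat_lit 0x6aa75a7a) (nat_lit 58)) (.cons (nat_lit 3310) (nat_lit 0x4b9d1808) (.leaf 1 (nat_lit 0x556f8510) (nat_lit 32)) .nil)))))))))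
def tA96 : CT := .cons (nat_lit 2742) (nat_lit 1) (.leaf 1 (nat_lit 0x7451bef9) (nat_lit 62)) (.cons (nat_lit 2309) (nat_lit 0x2550bf9) (.leaf 1 (nat_lit 0x403f0576) (nat_lit 1052)) (.cons (nat_lit 1000) (nat_lit 0x2851969) (.leaf 1 (nat_lit 0x3cfb939) (nat_lit 58)) (.cons (nat_lit 555) (nat_lit 0x38f0d64) (.leaf 1 (nat_lit 0x3196ae2) (nat_lit 1050)) (.cons (nat_lit 1524) (nat_lit 0x3e480bb) (.leaf 1 (nat_lit 0x604a234e) (nat_lit 32)) (.cons (nat_lit 1957) (nat_lit 0x2e5196f) (.leaf 1 (nat_lit 0x229401f) (nat_lit 1)) (.cons (nat_lit 3823) (nat_lit 0x2992e88) (.leaf 1 (nat_lit 0x62a07e32) (nat_lit 1)) (.cons (nat_lit 628) (nat_lit 0x52199008) (.leaf 1 (nat_lit 0x62f26919) (nat_lit 33)) (.cons (nat_lit 2835) (nat_lit 0x4b9b39c8) (.leaf 1 (nat_lit 0x3e1c1d2) (nat_lit 54)) (.cons (nat_lit 1534) (nat_lit 0x4b9d1808) (.leaf 1 (nat_lit 0x4109de36) (nat_lit 1)) .nil)))))))))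
def tA97 : CT := .cons (nat_lit 947) (nat_lit 1) (.leaf 1 (nat_lit 0x3c97812) (nat_lit 40)) (.cons (nat_lit 2945) (nat_lit 0x2550bf9) (.leaf 1 (nat_lit 0x6038387b) (nat_lit 56)) (.cons (nat_lit 3913) (nat_lit 0x2851969) (.leaf 1 (nat_lit 0x3c4096b) (nat_lit 1038)) (.cons (nat_lit 1053) (nat_lit 0x38f0d64) (.leaf 1 (nat_lit 0x22bc5df) (nat_lit 1)) (.cons (nat_lit 1158) (nat_lit 0x3e480bb) (.leaf 1 (nat_lit 0x55846248) (nat_lit 1)) (.cons (nat_lit 1017) (nat_lit 0x2e5196f) (.leaf 1 (nat_lit 0x65884b68) (nat_lit 38)) (.cons (nat_lit 927) (nat_lit 0x2992e88) (.leaf 1 (nat_lit 0x3ab2e71) (nat_lit 35)) (.cons (nat_lit 2434) (nat_lit 0x52199008) (.leaf 1 (nat_lit 0x53b4f3cf) (nat_lit 1024)) (.cons (nat_lit 3493) (nat_lit 0x4b9b39c8) (.leaf 1 (nat_lit 0x4c3f27f2) (nat_lit 38)) (.cons (nat_lit 972) (nat_lit 0x4b9d1808) (.leaf 1 (nat_lit 0x32f07e4) (nat_lit 60)) .nil)))))))))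
def tA98 : CT := .cons (nat_lit 16) (nat_lit 1) (.leaf 1 (nat_lit 0x79210b60) (nat_lit 1)) (.cons (nat_lit 459) (nat_lit 0x2550bf9) (.leaf 1 (nat_lit 0x22ddb62) (nat_lit 34)) (.cons (nat_lit 1350) (nat_lit 0x2851969) (.leaf 1 (nat_lit 0x2b9f958) (nat_lit 40)) (.cons (nat_lit 40) (nat_lit 0x38f0d64) (.leaf 1 (nat_lit 0x5d750c64) (nat_lit 1)) (.cons (nat_lit 1590) (nat_lit 0x3e480bb) (.leaf 1 (nat_lit 0x5087eb09) (nat_lit 60)) (.cons (nat_lit 926) (nat_lit 0x2e5196f) (.leaf 1 (nat_lit 0x410f6b56) (nat_lit 40)) (.cons (nat_lit 1915) (nat_lit 0x2992e88) (.leaf 1 (nat_lit 0x3dd8b54) (nat_lit 35)) (.cons (nat_lit 631) (nat_lit 0x52199008) (.leaf 1 (nat_lit 0x1d137f) (nat_lit 52)) (.cons (nat_lit 456) (nat_lit 0x4b9b39c8) (.leaf 1 (nat_lit 0x510aa605) (nat_lit 54)) (.cons (nat_lit 1524) (nat_lit 0x4b9d1808) (.leaf 1 (nat_lit 0x310df4e) (nat_lit 50)) .nil)))))))))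
def tA99 : CT := .cons (nat_lit 653) (nat_lit 1) (.leaf 1 (nat_lit 0x29b6c16) (nat_lit 40)) (.cons (nat_lit 1183) (nat_lit 0x2550bf9) (.leaf 1 (nat_lit 0x3fb752f) (nat_lit 60)) (.cons (nat_lit 2623) (nat_lit 0x2851969) (.leaf 1 (nat_lit 0x56f7a382) (nat_lit 1040)) (.cons (nat_lit 2851) (nat_lit 0x38f0d64) (.leaf 1 (nat_lit 0x37be131) (nat_lit 35)) (.cons (nat_lit 3563) (nat_lit 0x3e480bb) (.leaf 1 (nat_lit 0x74010536) (nat_lit 48)) (.cons (nat_lit 4039) (nat_lit 0x2e5196f) (.leaf 1 (nat_lit 0x7c0da450) (nat_lit 34)) (.cons (nat_lit 2458) (nat_lit 0x2992e88) (.leaf 1 (nat_lit 0x6c2d9b89) (nat_lit 49)) (.cons (nat_lit 2950) (nat_lit 0x52199008) (.leaf 1 (nat_lit 0x21f4776) (nat_lit 32)) (.cons (nat_lit 2839) (nat_lit 0x4b9b39c8) (.leaf 1 (nat_lit 0x3aea570) (nat_lit 1033)) (.cons (nat_lit 3286) (nat_lit 0x4b9d1808) (.leaf 1 (nat_lit 0x75f80d3c) (nat_lit 1)) .nil)))))))))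
def tA100 : CT := .cons (nat_lit 2448) (nat_lit 1) (.leaf 1 (nat_lit 0x41bb26a8) (nat_lit 48)) (.cons (nat_lit 3504) (nat_lit 0x2550bf9) (.leaf 1 (nat_lit 0x2aa4502) (nat_lit 40)) (.cons (nat_lit 4019) (nat_lit 0x2851969) (.leaf 1 (nat_lit 0x3b4cc25) (nat_lit 40)) (.cons (nat_lit 1510) (nat_lit 0x38f0d64) (.leaf 1 (nat_lit 0x784fcb56) (nat_lit 52)) (.cons (nat_lit 681) (nat_lit 0x3e480bb) (.leaf 1 (nat_lit 0x748ea4d2) (nat_lit 62)) (.cons (nat_lit 1407) (nat_lit 0x2e5196f) (.leaf 1 (nat_lit 0x79a4812a) (nat_lit 47)) (.cons (nat_lit 176) (nat_lit 0x2992e88) (.leaf 1 (nat_lit 0x45bfa0c3) (nat_lit 62)) (.cons (nat_lit 468) (nat_lit 0x52199008) (.leaf 1 (nat_lit 0x3cfcbf3) (nat_lit 32)) (.cons (nat_lit 3581) (nat_lit 0x4b9b39c8) (.leaf 1 (nat_lit 0x7fb141c9) (nat_lit 48)) (.cons (nat_lit 1628) (nat_lit 0x4b9d1808) (.leaf 1 (nat_lit 0x143f4a) (nat_lit 38)) .nil)))))))))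
def tA101 : CT := .cons (nat_lit 89) (nat_lit 1) (.leaf 1 (nat_lit 0x50bfcc28) (nat_lit 52)) (.cons (nat_lit 491) (nat_lit 0x2550bf9) (.leaf 1 (nat_lit 0x3a46166) (nat_lit 52)) (.cons (nat_lit 1632) (nat_lit 0x2851969) (.leaf 1 (nat_lit 0x3e42a6e) (nat_lit 1556)) (.cons (nat_lit 358) (nat_lit 0x38f0d64) (.leaf 1 (nat_lit 0x7b740575) (nat_lit 1042)) (.cons (nat_lit 1500) (nat_lit 0x3e480bb) (.leaf 1 (nat_lit 0x5451d9c5) (nat_lit 35)) (.cons (nat_lit 2338) (nat_lit 0x2e5196f) (.leaf 1 (nat_lit 0x7d3d5f56) (nat_lit 54)) (.cons (nat_lit 1264) (nat_lit 0x2992e88) (.leaf 1 (nat_lit 0x44b8a39b) (nat_lit 1040)) (.cons (nat_lit 3709) (nat_lit 0x52199008) (.leaf 1 (nat_lit 0x115e42) (nat_lit 33)) (.cons (nat_lit 2673) (nat_lit 0x4b9b39c8) (.leaf 1 (nat_lit 0x40497ecb) (nat_lit 48)) (.cons (nat_lit 2677) (nat_lit 0x4b9d1808) (.leaf 1 (nat_lit 0x6dbfb963) (nat_lit 1026)) .nil)))))))))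
def tA102 : CT := .cons (nat_lit 993) (nat_lit 1) (.leaf 1 (nat_lit 0x41b9425e) (nat_lit 40)) (.cons (nat_lit 210) (nat_lit 0x2550bf9) (.leaf 1 (nat_lit 0x4cace448) (nat_lit 40)) (.cons (nat_lit 396) (nat_lit 0x2851969) (.leaf 1 (nat_lit 0x689dc776) (nat_lit 58)) (.cons (nat_lit 2549) (nat_lit 0x38f0d64) (.leaf 1 (nat_lit 0x2aa2c1b) (nat_lit 1562)) (.cons (nat_lit 880) (nat_lit 0x3e480bb) (.leaf 1 (nat_lit 0x3a9eec2) (nat_lit 1052)) (.cons (nat_lit 1200) (nat_lit 0x2e5196f) (.leaf 1 (nat_lit 0x5018a009) (nat_lit 60)) (.cons (nat_lit 729) (nat_lit 0x2992e88) (.leaf 1 (nat_lit 0x3fb6c5f) (nat_lit 62)) (.cons (nat_lit 2945) (nat_lit 0x52199008) (.leaf 1 (nat_lit 0x51bb25d1) (nat_lit 49)) (.cons (nat_lit 3341) (nat_lit 0x4b9b39c8) (.leaf 1 (nat_lit 0x1d1345) (nat_lit 40)) (.cons (nat_lit 2923) (nat_lit 0x4b9d1808) (.leaf 1 (nat_lit 0x708fa699) (nat_lit 1034)) .nil)))))))))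
def tA103 : CT := .cons (nat_lit 1414) (nat_lit 1) (.leaf 1 (nat_lit 0x60e75d63) (nat_lit 52)) (.cons (nat_lit 357) (nat_lit 0x2550bf9) (.leaf 1 (nat_lit 0x10e3e2) (nat_lit 33)) (.cons (nat_lit 3552) (nat_lit 0x2851969) (.leaf 1 (nat_lit 0x55295d49) (nat_lit 34)) (.cons (nat_lit 3015) (nat_lit 0x38f0d64) (.leaf 1 (nat_lit 0x3e1c07b) (nat_lit 57)) (.cons (nat_lit 1046) (nat_lit 0x3e480bb) (.leaf 1 (nat_lit 0x31ea5d0) (nat_lit 1540)) (.cons (nat_lit 1350) (nat_lit 0x2e5196f) (.leaf 1 (nat_lit 0x403d38ab) (nat_lit 48)) (.cons (nat_lit 3895) (nat_lit 0x2992e88) (.leaf 1 (nat_lit 0x239df55) (nat_lit 49)) (.cons (nat_lit 208) (nat_lit 0x52199008) (.leaf 1 (nat_lit 0x68250628) (nat_lit 1035)) (.cons (nat_lit 3440) (nat_lit 0x4b9b39c8) (.leaf 1 (nat_lit 0x765bf34f) (nat_lit 62)) (.cons (nat_lit 505) (nat_lit 0x4b9d1808) (.leaf 1 (nat_lit 0x295b88a) (nat_lit 48)) .nil)))))))))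
def tA104 : CT := .cons (nat_lit 1840) (nat_lit 1) (.leaf 1 (nat_lit 0x231fa88) (nat_lit 50)) (.cons (nat_lit 2851) (nat_lit 0x2550bf9) (.leaf 1 (nat_lit 0x1fac73) (nat_lit 58)) (.cons (nat_lit 628) (nat_lit 0x2851969) (.leaf 1 (nat_lit 0x7a8dc2d6) (nat_lit 1034)) (.cons (nat_lit 3331) (nat_lit 0x38f0d64) (.leaf 1 (nat_lit 0x3a8a52b) (nat_lit 40)) (.cons (nat_lit 1193) (nat_lit 0x3e480bb) (.leaf 1 (nat_lit 0x7898a294) (nat_lit 56)) (.cons (nat_lit 1128) (nat_lit 0x2e5196f) (.leaf 1 (nat_lit 0x1b0088) (nat_lit 33)) (.cons (nat_lit 3067) (nat_lit 0x2992e88) (.leaf 1 (nat_lit 0x2a7a2e1) (nat_lit 34)) (.cons (nat_lit 3712) (nat_lit 0x52199008) (.leaf 1 (nat_lit 0x44836a68) (nat_lit 40)) (.cons (nat_lit 908) (nat_lit 0x4b9b39c8) (.leaf 1 (nat_lit 0x613b5a78) (nat_lit 49)) (.cons (nat_lit 759) (nat_lit 0x4b9d1808) (.leaf 1 (nat_lit 0x6d236902) (nat_lit 32)) .nil)))))))))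
def tA105 : CT := .cons (nat_lit 2284) (nat_lit 1) (.leaf 1 (nat_lit 0x33c5f11) (nat_lit 1)) (.cons (nat_lit 3634) (nat_lit 0x2550bf9) (.leaf 1 (nat_lit 0x114753) (nat_lit 50)) (.cons (nat_lit 3517) (nat_lit 0x2851969) (.leaf 1 (nat_lit 0x21be25a) (nat_lit 60)) (.cons (nat_lit 3736) (nat_lit 0x38f0d64) (.leaf 1 (nat_lit 0x65156b29) (nat_lit 1032)) (.cons (nat_lit 72) (nat_lit 0x3e480bb) (.leaf 1 (nat_lit 0x57d20968) (nat_lit 53)) (.cons (nat_lit 1431) (nat_lit 0x2e5196f) (.leaf 1 (nat_lit 0x3916fb8) (nat_lit 41)) (.cons (nat_lit 2345) (nat_lit 0x2992e88) (.leaf 1 (nat_lit 0x411978a9) (nat_lit 1029)) (.cons (nat_lit 2291) (nat_lit 0x52199008) (.leaf 1 (nat_lit 0x2b0ec0b) (nat_lit 33)) (.cons (nat_lit 1938) (nat_lit 0x4b9b39c8) (.leaf 1 (nat_lit 0x60fb8771) (nat_lit 1)) (.cons (nat_lit 1589) (nat_lit 0x4b9d1808) (.leaf 1 (nat_lit 0x2048886) (nat_lit 1026)) .nil)))))))))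
def tA106 : CT := .cons (nat_lit 803) (nat_lit 1) (.leaf 1 (nat_lit 0x2a74f06) (nat_lit 60)) (.cons (nat_lit 1577) (nat_lit 0x2550bf9) (.leaf 1 (nat_lit 0x650b7f32) (nat_lit 48)) (.cons (nat_lit 3461) (nat_lit 0x2851969) (.leaf 1 (nat_lit 0x6c01f376) (nat_lit 35)) (.cons (nat_lit 3642) (nat_lit 0x38f0d64) (.leaf 1 (nat_lit 0x2b4c668) (nat_lit 56)) (.cons (nat_lit 2708) (nat_lit 0x3e480bb) (.leaf 1 (nat_lit 0x603722be) (nat_lit 60)) (.cons (nat_lit 1685) (nat_lit 0x2e5196f) (.leaf 1 (nat_lit 0x3cfa4dd) (nat_lit 1032)) (.cons (nat_lit 1553) (nat_lit 0x2992e88) (.leaf 1 (nat_lit 0x5eb37a6a) (nat_lit 54)) (.cons (nat_lit 4057) (nat_lit 0x52199008) (.leaf 1 (nat_lit 0x2986a6f) (nat_lit 60)) (.cons (nat_lit 2323) (nat_lit 0x4b9b39c8) (.leaf 1 (nat_lit 0x2ab03d7) (nat_lit 1)) (.cons (nat_lit 2562) (nat_lit 0x4b9d1808) (.leaf 1 (nat_lit 0x3ec8209) (nat_lit 38)) .nil)))))))))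
def tA107 : CT := .cons (nat_lit 3345) (nat_lit 1) (.leaf 1 (nat_lit 0x7161df96) (nat_lit 55)) (.cons (nat_lit 4057) (nat_lit 0x2550bf9) (.leaf 1 (nat_lit 0x2b7268b) (nat_lit 43)) (.cons (nat_lit 2562) (nat_lit 0x2851969) (.leaf 1 (nat_lit 0x2f17e75) (nat_lit 53)) (.cons (nat_lit 3743) (nat_lit 0x38f0d64) (.leaf 1 (nat_lit 0x2be1376) (nat_lit 52)) (.cons (nat_lit 3024) (nat_lit 0x3e480bb) (.leaf 1 (nat_lit 0x189149) (nat_lit 1)) (.cons (nat_lit 156) (nat_lit 0x2e5196f) (.leaf 1 (nat_lit 0x28bbdf7) (nat_lit 48)) (.cons (nat_lit 3709) (nat_lit 0x2992e88) (.leaf 1 (nat_lit 0x2806903) (nat_lit 47)) (.cons (nat_lit 2300) (nat_lit 0x52199008) (.leaf 1 (nat_lit 0x558beeef) (nat_lit 1042)) (.cons (nat_lit 2709) (nat_lit 0x4b9b39c8) (.leaf 1 (nat_lit 0x22a8c7f) (nat_lit 52)) (.cons (nat_lit 89) (nat_lit 0x4b9d1808) (.leaf 1 (nat_lit 0x458173d7) (nat_lit 32)) .nil)))))))))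
def tA108 : CT := .cons (nat_lit 3039) (nat_lit 1) (.leaf 1 (nat_lit 0x3442329) (nat_lit 1)) (.cons (nat_lit 2083) (nat_lit 0x2550bf9) (.leaf 1 (nat_lit 0x3cdc2a2) (nat_lit 1040)) (.cons (nat_lit 3486) (nat_lit 0x2851969) (.leaf 1 (nat_lit 0x1e24d9) (nat_lit 40)) (.cons (nat_lit 1669) (nat_lit 0x38f0d64) (.leaf 1 (nat_lit 0x709b5162) (nat_lit 1)) (.cons (nat_lit 2187) (nat_lit 0x3e480bb) (.leaf 1 (nat_lit 0x3a43f3a) (nat_lit 43)) (.cons (nat_lit 3678) (nat_lit 0x2e5196f) (.leaf 1 (nat_lit 0x2988fc9) (nat_lit 56)) (.cons (nat_lit 1236) (nat_lit 0x2992e88) (.leaf 1 (nat_lit 0x3cc2b58) (nat_lit 33)) (.cons (nat_lit 2585) (nat_lit 0x52199008) (.leaf 1 (nat_lit 0x4125fd2f) (nat_lit 60)) (.cons (nat_lit 3646) (nat_lit 0x4b9b39c8) (.leaf 1 (nat_lit 0x237f865) (nat_lit 48)) (.cons (nat_lit 3709) (nat_lit 0x4b9d1808) (.leaf 1 (nat_lit 0x29afaf7) (nat_lit 58)) .nil)))))))))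
def tA109 : CT := .cons (nat_lit 193) (nat_lit 1) (.leaf 1 (nat_lit 0x3af6acb) (nat_lit 41)) (.cons (nat_lit 212) (nat_lit 0x2550bf9) (.leaf 1 (nat_lit 0x317a805) (nat_lit 1)) (.cons (nat_lit 382) (nat_lit 0x2851969) (.leaf 1 (nat_lit 0x1b494e) (nat_lit 57)) (.cons (nat_lit 2244) (nat_lit 0x38f0d64) (.leaf 1 (nat_lit 0x3b97805) (nat_lit 32)) (.cons (nat_lit 3691) (nat_lit 0x3e480bb) (.leaf 1 (nat_lit 50779) (nat_lit 48)) (.cons (nat_lit 2233) (nat_lit 0x2e5196f) (.leaf 1 (nat_lit 0x3a2d802) (nat_lit 48)) (.cons (nat_lit 1236) (nat_lit 0x2992e88) (.leaf 1 (nat_lit 0x63ddc278) (nat_lit 32)) (.cons (nat_lit 3343) (nat_lit 0x52199008) (.leaf 1 (nat_lit 0x2ab0a33) (nat_lit 1051)) (.cons (nat_lit 688) (nat_lit 0x4b9b39c8) (.leaf 1 (nat_lit 0x227be51) (nat_lit 33)) (.cons (nat_lit 1122) (nat_lit 0x4b9d1808) (.leaf 1 (nat_lit 0x409e9943) (nat_lit 34)) .nil)))))))))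
def tA110 : CT := .cons (nat_lit 1979) (nat_lit 1) (.leaf 1 (nat_lit 0x10235a) (nat_lit 32)) (.cons (nat_lit 3257) (nat_lit 0x2550bf9) (.leaf 1 (nat_lit 0x28725f9) (nat_lit 56)) (.cons (nat_lit 1886) (nat_lit 0x2851969) (.leaf 1 (nat_lit 0x67f4c741) (nat_lit 57)) (.cons (nat_lit 3196) (nat_lit 0x38f0d64) (.leaf 1 (nat_lit 0x5d7f0536) (nat_lit 40)) (.cons (nat_lit 271) (nat_lit 0x3e480bb) (.leaf 1 (nat_lit 0x57876d2b) (nat_lit 48)) (.cons (nat_lit 2976) (nat_lit 0x2e5196f) (.leaf 1 (nat_lit 0x15225b) (nat_lit 52)) (.cons (nat_lit 2644) (nat_lit 0x2992e88) (.leaf 1 (nat_lit 0x3145c57) (nat_lit 50)) (.cons (nat_lit 1742) (nat_lit 0x52199008) (.leaf 1 (nat_lit 0x3140cc3) (nat_lit 48)) (.cons (nat_lit 3395) (nat_lit 0x4b9b39c8) (.leaf 1 (nat_lit 0x7eedb915) (nat_lit 1028)) (.cons (nat_lit 2631) (nat_lit 0x4b9d1808) (.leaf 1 (nat_lit 0x797b8b57) (nat_lit 63)) .nil)))))))))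
def tA111 : CT := .cons (nat_lit 1768) (nat_lit 1) (.leaf 1 (nat_lit 0x211a114) (nat_lit 53)) (.cons (nat_lit 1116) (nat_lit 0x2550bf9) (.leaf 1 (nat_lit 0x18ed2f) (nat_lit 41)) (.cons (nat_lit 2265) (nat_lit 0x2851969) (.leaf 1 (nat_lit 0x4167392e) (nat_lit 32)) (.cons (nat_lit 2653) (nat_lit 0x38f0d64) (.leaf 1 (nat_lit 0x5405e0bb) (nat_lit 52)) (.cons (nat_lit 1510) (nat_lit 0x3e480bb) (.leaf 1 (nat_lit 0x71f96c41) (nat_lit 48)) (.cons (nat_lit 3949) (nat_lit 0x2e5196f) (.leaf 1 (nat_lit 0x69b3709f) (nat_lit 52)) (.cons (nat_lit 3753) (nat_lit 0x2992e88) (.leaf 1 (nat_lit 0x615f8f73) (nat_lit 40)) (.cons (nat_lit 2872) (nat_lit 0x52199008) (.leaf 1 (nat_lit 0x22324c8) (nat_lit 40)) (.cons (nat_lit 3481) (nat_lit 0x4b9b39c8) (.leaf 1 (nat_lit 0x41a46ad5) (nat_lit 38)) (.cons (nat_lit 623) (nat_lit 0x4b9d1808) (.leaf 1 (nat_lit 0x457c450f) (nat_lit 1)) .nil)))))))))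
def tA112 : CT := .cons (nat_lit 964) (nat_lit 1) (.leaf 1 (nat_lit 0x3a15f62) (nat_lit 38)) (.cons (nat_lit 2338) (nat_lit 0x2550bf9) (.leaf 1 (nat_lit 0x51ec7919) (nat_lit 32)) (.cons (nat_lit 829) (nat_lit 0x2851969) (.leaf 1 (nat_lit 0x2226a1e) (nat_lit 58)) (.cons (nat_lit 1338) (nat_lit 0x38f0d64) (.leaf 1 (nat_lit 0x3bec53d) (nat_lit 52)) (.cons (nat_lit 4057) (nat_lit 0x3e480bb) (.leaf 1 (nat_lit 0x227f52b) (nat_lit 48)) (.cons (nat_lit 2156) (nat_lit 0x2e5196f) (.leaf 1 (nat_lit 0x26d3a82) (nat_lit 60)) (.cons (nat_lit 1246) (nat_lit 0x2992e88) (.leaf 1 (nat_lit 48894) (nat_lit 1040)) (.cons (nat_lit 664) (nat_lit 0x52199008) (.leaf 1 (nat_lit 0x3cdec09) (nat_lit 1)) (.cons (nat_lit 831) (nat_lit 0x4b9b39c8) (.leaf 1 (nat_lit 0x204a7bb) (nat_lit 38)) (.cons (nat_lit 3709) (nat_lit 0x4b9d1808) (.leaf 1 (nat_lit 0x3ec3a5a) (nat_lit 57)) .nil)))))))))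
def tA113 : CT := .cons (nat_lit 382) (nat_lit 1) (.leaf 1 (nat_lit 0x5690d833) (nat_lit 48)) (.cons (nat_lit 2300) (nat_lit 0x2550bf9) (.leaf 1 (nat_lit 0x69995f58) (nat_lit 32)) (.cons (nat_lit 3912) (nat_lit 0x2851969) (.leaf 1 (nat_lit 0x52e87563) (nat_lit 1042)) (.cons (nat_lit 2631) (nat_lit 0x38f0d64) (.leaf 1 (nat_lit 0x3bbe789) (nat_lit 1)) (.cons (nat_lit 1977) (nat_lit 0x3e480bb) (.leaf 1 (nat_lit 0x421d6bc3) (nat_lit 41)) (.cons (nat_lit 633) (nat_lit 0x2e5196f) (.leaf 1 (nat_lit 0x319793b) (nat_lit 58)) (.cons (nat_lit 2666) (nat_lit 0x2992e88) (.leaf 1 (nat_lit 0x3b4efb0) (nat_lit 41)) (.cons (nat_lit 1127) (nat_lit 0x52199008) (.leaf 1 (nat_lit 0x61a4cbf6) (nat_lit 63)) (.cons (nat_lit 3992) (nat_lit 0x4b9b39c8) (.leaf 1 (nat_lit 0x18b931) (nat_lit 1)) (.cons (nat_lit 2494) (nat_lit 0x4b9d1808) (.leaf 1 (nat_lit 0x4488b8ca) (nat_lit 48)) .nil)))))))))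
def tA114 : CT := .cons (nat_lit 2745) (nat_lit 1) (.leaf 1 (nat_lit 0x6c817c61) (nat_lit 62)) (.cons (nat_lit 3310) (nat_lit 0x2550bf9) (.leaf 1 (nat_lit 0x7c2b9ac9) (nat_lit 1054)) (.cons (nat_lit 2747) (nat_lit 0x2851969) (.leaf 1 (nat_lit 0x3b979fb) (nat_lit 32)) (.cons (nat_lit 1209) (nat_lit 0x38f0d64) (.leaf 1 (nat_lit 0x6e2d4963) (nat_lit 56)) (.cons (nat_lit 3172) (nat_lit 0x3e480bb) (.leaf 1 (nat_lit 0x770b3afa) (nat_lit 48)) (.cons (nat_lit 1142) (nat_lit 0x2e5196f) (.leaf 1 (nat_lit 0x46387a41) (nat_lit 62)) (.cons (nat_lit 3626) (nat_lit 0x2992e88) (.leaf 1 (nat_lit 0x3bfc068) (nat_lit 53)) (.cons (nat_lit 217) (nat_lit 0x52199008) (.leaf 1 (nat_lit 0x2b72bae) (nat_lit 56)) (.cons (nat_lit 2756) (nat_lit 0x4b9b39c8) (.leaf 1 (nat_lit 0x367de32) (nat_lit 34)) (.cons (nat_lit 1162) (nat_lit 0x4b9d1808) (.leaf 1 (nat_lit 0x4090a23c) (nat_lit 49)) .nil)))))))))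
def tA115 : CT := .cons (nat_lit 3431) (nat_lit 1) (.leaf 1 (nat_lit 0x508dfb57) (nat_lit 1045)) (.cons (nat_lit 2839) (nat_lit 0x2550bf9) (.leaf 1 (nat_lit 0x2370d01) (nat_lit 55)) (.cons (nat_lit 3527) (nat_lit 0x2851969) (.leaf 1 (nat_lit 0x64246dce) (nat_lit 56)) (.cons (nat_lit 653) (nat_lit 0x38f0d64) (.leaf 1 (nat_lit 0x7651b87d) (nat_lit 40)) (.cons (nat_lit 3930) (nat_lit 0x3e480bb) (.leaf 1 (nat_lit 0x41606d39) (nat_lit 1)) (.cons (nat_lit 1361) (nat_lit 0x2e5196f) (.leaf 1 (nat_lit 0x2ae9943) (nat_lit 41)) (.cons (nat_lit 2933) (nat_lit 0x2992e88) (.leaf 1 (nat_lit 0x3bb2919) (nat_lit 52)) (.cons (nat_lit 1492) (nat_lit 0x52199008) (.leaf 1 (nat_lit 0x3ace65a) (nat_lit 35)) (.cons (nat_lit 2526) (nat_lit 0x4b9b39c8) (.leaf 1 (nat_lit 0x26cd931) (nat_lit 40)) (.cons (nat_lit 1925) (nat_lit 0x4b9d1808) (.leaf 1 (nat_lit 0x3b4aed9) (nat_lit 32)) .nil)))))))))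
def tA116 : CT := .cons (nat_lit 2852) (nat_lit 1) (.leaf 1 (nat_lit 0x43bb6931) (nat_lit 56)) (.cons (nat_lit 3857) (nat_lit 0x2550bf9) (.leaf 1 (nat_lit 0x4498a5ce) (nat_lit 1)) (.cons (nat_lit 3496) (nat_lit 0x2851969) (.leaf 1 (nat_lit 0x220c7c8) (nat_lit 53)) (.cons (nat_lit 761) (nat_lit 0x38f0d64) (.leaf 1 (nat_lit 0x7d69e9fe) (nat_lit 32)) (.cons (nat_lit 3321) (nat_lit 0x3e480bb) (.leaf 1 (nat_lit 0x4177a9fe) (nat_lit 60)) (.cons (nat_lit 3645) (nat_lit 0x2e5196f) (.leaf 1 (nat_lit 0x3601129) (nat_lit 48)) (.cons (nat_lit 837) (nat_lit 0x2992e88) (.leaf 1 (nat_lit 0x608f6444) (nat_lit 1024)) (.cons (nat_lit 617) (nat_lit 0x52199008) (.leaf 1 (nat_lit 0x7d82bd40) (nat_lit 58)) (.cons (nat_lit 2277) (nat_lit 0x4b9b39c8) (.leaf 1 (nat_lit 0x7f2fadd3) (nat_lit 1043)) (.cons (nat_lit 56) (nat_lit 0x4b9d1808) (.leaf 1 (nat_lit 0x46eddb63) (nat_lit 38)) .nil)))))))))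
def tA117 : CT := .cons (nat_lit 706) (nat_lit 1) (.leaf 1 (nat_lit 0x53b74b3b) (nat_lit 52)) (.cons (nat_lit 1201) (nat_lit 0x2550bf9) (.leaf 1 (nat_lit 0x15ed22) (nat_lit 1035)) (.cons (nat_lit 430) (nat_lit 0x2851969) (.leaf 1 (nat_lit 0x40be190f) (nat_lit 1039)) (.cons (nat_lit 1246) (nat_lit 0x38f0d64) (.leaf 1 (nat_lit 0x6dab76c5) (nat_lit 47)) (.cons (nat_lit 2701) (nat_lit 0x3e480bb) (.leaf 1 (nat_lit 0x2092302) (nat_lit 50)) (.cons (nat_lit 1547) (nat_lit 0x2e5196f) (.leaf 1 (nat_lit 0x45876cdd) (nat_lit 1048)) (.cons (nat_lit 1297) (nat_lit 0x2992e88) (.leaf 1 (nat_lit 0x573d2322) (nat_lit 50)) (.cons (nat_lit 358) (nat_lit 0x52199008) (.leaf 1 (nat_lit 0x7585e76e) (nat_lit 40)) (.cons (nat_lit 664) (nat_lit 0x4b9b39c8) (.leaf 1 (nat_lit 0x629c2470) (nat_lit 49)) (.cons (nat_lit 2308) (nat_lit 0x4b9d1808) (.leaf 1 (nat_lit 0x40ae2779) (nat_lit 48)) .nil)))))))))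
def tA118 : CT := .cons (nat_lit 1310) (nat_lit 1) (.leaf 1 (nat_lit 0x35f0224) (nat_lit 58)) (.cons (nat_lit 2774) (nat_lit 0x2550bf9) (.leaf 1 (nat_lit 0x3284012) (nat_lit 33)) (.cons (nat_lit 1649) (nat_lit 0x2851969) (.leaf 1 (nat_lit 0x45b72317) (nat_lit 32)) (.cons (nat_lit 2873) (nat_lit 0x38f0d64) (.leaf 1 (nat_lit 0x294ef76) (nat_lit 1)) (.cons (nat_lit 1838) (nat_lit 0x3e480bb) (.leaf 1 (nat_lit 0x3f1f170) (nat_lit 52)) (.cons (nat_lit 3743) (nat_lit 0x2e5196f) (.leaf 1 (nat_lit 0x29b3e57) (nat_lit 48)) (.cons (nat_lit 4019) (nat_lit 0x2992e88) (.leaf 1 (nat_lit 0x45cf8f36) (nat_lit 56)) (.cons (nat_lit 3978) (nat_lit 0x52199008) (.leaf 1 (nat_lit 0x22e253d) (nat_lit 48)) (.cons (nat_lit 1725) (nat_lit 0x4b9b39c8) (.leaf 1 (nat_lit 0x3212ff0) (nat_lit 33)) (.cons (nat_lit 3430) (nat_lit 0x4b9d1808) (.leaf 1 (nat_lit 0x239df91) (nat_lit 1028)) .nil)))))))))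
def tA119 : CT := .cons (nat_lit 58) (nat_lit 1) (.leaf 1 (nat_lit 0x191169) (nat_lit 1024)) (.cons (nat_lit 2534) (nat_lit 0x2550bf9) (.leaf 1 (nat_lit 0x517b8bda) (nat_lit 62)) (.cons (nat_lit 2019) (nat_lit 0x2851969) (.leaf 1 (nat_lit 0x3faee48) (nat_lit 56)) (.cons (nat_lit 3843) (nat_lit 0x38f0d64) (.leaf 1 (nat_lit 0x36dcbe2) (nat_lit 47)) (.cons (nat_lit 3562) (nat_lit 0x3e480bb) (.leaf 1 (nat_lit 0x37dd83a) (nat_lit 57)) (.cons (nat_lit 3913) (nat_lit 0x2e5196f) (.leaf 1 (nat_lit 0x758979ce) (nat_lit 1050)) (.cons (nat_lit 2321) (nat_lit 0x2992e88) (.leaf 1 (nat_lit 0x15c93f) (nat_lit 50)) (.cons (nat_lit 2713) (nat_lit 0x52199008) (.leaf 1 (nat_lit 0x3f46aba) (nat_lit 1032)) (.cons (nat_lit 3166) (nat_lit 0x4b9b39c8) (.leaf 1 (nat_lit 0x2288859) (nat_lit 1038)) (.cons (nat_lit 3942) (nat_lit 0x4b9d1808) (.leaf 1 (nat_lit 0x2abbd19) (nat_lit 1028)) .nil)))))))))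
def tA120 : CT := .cons (nat_lit 1595) (nat_lit 1) (.leaf 1 (nat_lit 0x457d6268) (nat_lit 1052)) (.cons (nat_lit 2541) (nat_lit 0x2550bf9) (.leaf 1 (nat_lit 0x23d4f0b) (nat_lit 32)) (.cons (nat_lit 1510) (nat_lit 0x2851969) (.leaf 1 (nat_lit 0x3fb2459) (nat_lit 38)) (.cons (nat_lit 3461) (nat_lit 0x38f0d64) (.leaf 1 (nat_lit 0x31d2152) (nat_lit 34)) (.cons (nat_lit 3753) (nat_lit 0x3e480bb) (.leaf 1 (nat_lit 0x741dff7b) (nat_lit 1028)) (.cons (nat_lit 2745) (nat_lit 0x2e5196f) (.leaf 1 (nat_lit 0x237123a) (nat_lit 50)) (.cons (nat_lit 2244) (nat_lit 0x2992e88) (.leaf 1 (nat_lit 0x67a25fda) (nat_lit 1054)) (.cons (nat_lit 3046) (nat_lit 0x52199008) (.leaf 1 (nat_lit 0x41f8293f) (nat_lit 1048)) (.cons (nat_lit 3715) (nat_lit 0x4b9b39c8) (.leaf 1 (nat_lit 0x2bea83b) (nat_lit 40)) (.cons (nat_lit 3460) (nat_lit 0x4b9d1808) (.leaf 1 (nat_lit 0x4d7da639) (nat_lit 56)) .nil)))))))))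
def tA121 : CT := .cons (nat_lit 2708) (nat_lit 1) (.leaf 1 (nat_lit 0x6f343e23) (nat_lit 32)) (.cons (nat_lit 2222) (nat_lit 0x2550bf9) (.leaf 1 (nat_lit 0x3c96915) (nat_lit 34)) (.cons (nat_lit 3933) (nat_lit 0x2851969) (.leaf 1 (nat_lit 0x1173f5) (nat_lit 62)) (.cons (nat_lit 1979) (nat_lit 0x38f0d64) (.leaf 1 (nat_lit 0x75c80e4b) (nat_lit 32)) (.cons (nat_lit 3457) (nat_lit 0x3e480bb) (.leaf 1 (nat_lit 0x44283aab) (nat_lit 54)) (.cons (nat_lit 3439) (nat_lit 0x2e5196f) (.leaf 1 (nat_lit 0x5c30ffe3) (nat_lit 34)) (.cons (nat_lit 2024) (nat_lit 0x2992e88) (.leaf 1 (nat_lit 0x22f8ed6) (nat_lit 58)) (.cons (nat_lit 3147) (nat_lit 0x52199008) (.leaf 1 (nat_lit 0x62246edb) (nat_lit 57)) (.cons (nat_lit 569) (nat_lit 0x4b9b39c8) (.leaf 1 (nat_lit 0x2e7394f) (nat_lit 1)) (.cons (nat_lit 806) (nat_lit 0x4b9d1808) (.leaf 1 (nat_lit 0x70ebe139) (nat_lit 38)) .nil)))))))))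
def tA122 : CT := .cons (nat_lit 1743) (nat_lit 1) (.leaf 1 (nat_lit 0x32f76ff) (nat_lit 53)) (.cons (nat_lit 2873) (nat_lit 0x2550bf9) (.leaf 1 (nat_lit 0x65f9e44f) (nat_lit 48)) (.cons (nat_lit 2816) (nat_lit 0x2851969) (.leaf 1 (nat_lit 0x6db9290b) (nat_lit 52)) (.cons (nat_lit 2187) (nat_lit 0x38f0d64) (.leaf 1 (nat_lit 0x11bfc0) (nat_lit 34)) (.cons (nat_lit 1348) (nat_lit 0x3e480bb) (.leaf 1 (nat_lit 0x65b927e6) (nat_lit 53)) (.cons (nat_lit 3488) (nat_lit 0x2e5196f) (.leaf 1 (nat_lit 0x3f9e6c9) (nat_lit 1039)) (.cons (nat_lit 3743) (nat_lit 0x2992e88) (.leaf 1 (nat_lit 0x7d47f82b) (nat_lit 62)) (.cons (nat_lit 2709) (nat_lit 0x52199008) (.leaf 1 (nat_lit 0x552108d2) (nat_lit 62)) (.cons (nat_lit 2048) (nat_lit 0x4b9b39c8) (.leaf 1 (nat_lit 0x6994fd34) (nat_lit 32)) (.cons (nat_lit 2770) (nat_lit 0x4b9d1808) (.leaf 1 (nat_lit 0x622f9450) (nat_lit 1)) .nil)))))))))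
def tA123 : CT := .cons (nat_lit 382) (nat_lit 1) (.leaf 1 (nat_lit 0x2296558) (nat_lit 59)) (.cons (nat_lit 1752) (nat_lit 0x2550bf9) (.leaf 1 (nat_lit 0x60322bda) (nat_lit 52)) (.cons (nat_lit 3788) (nat_lit 0x2851969) (.leaf 1 (nat_lit 0x3178b02) (nat_lit 59)) (.cons (nat_lit 3720) (nat_lit 0x38f0d64) (.leaf 1 (nat_lit 0x3ad23a6) (nat_lit 1)) (.cons (nat_lit 835) (nat_lit 0x3e480bb) (.leaf 1 (nat_lit 0x320ec0a) (nat_lit 1034)) (.cons (nat_lit 116) (nat_lit 0x2e5196f) (.leaf 1 (nat_lit 0x6ef907f3) (nat_lit 1048)) (.cons (nat_lit 2140) (nat_lit 0x2992e88) (.leaf 1 (nat_lit 0x448376c4) (nat_lit 58)) (.cons (nat_lit 3251) (nat_lit 0x52199008) (.leaf 1 (nat_lit 0x33d3f69) (nat_lit 33)) (.cons (nat_lit 3992) (nat_lit 0x4b9b39c8) (.leaf 1 (nat_lit 0x34523c0) (nat_lit 60)) (.cons (nat_lit 3943) (nat_lit 0x4b9d1808) (.leaf 1 (nat_lit 0x37ba915) (nat_lit 1)) .nil)))))))))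
def tA124 : CT := .cons (nat_lit 3570) (nat_lit 1) (.leaf 1 (nat_lit 0x2a1a633) (nat_lit 35)) (.cons (nat_lit 3353) (nat_lit 0x2550bf9) (.leaf 1 (nat_lit 0x2022868) (nat_lit 50)) (.cons (nat_lit 2128) (nat_lit 0x2851969) (.leaf 1 (nat_lit 0x7bfa276e) (nat_lit 33)) (.cons (nat_lit 2845) (nat_lit 0x38f0d64) (.leaf 1 (nat_lit 0x65eb0fa8) (nat_lit 49)) (.cons (nat_lit 359) (nat_lit 0x3e480bb) (.leaf 1 (nat_lit 0x5295a718) (nat_lit 40)) (.cons (nat_lit 106) (nat_lit 0x2e5196f) (.leaf 1 (nat_lit 0x3a821f5) (nat_lit 56)) (.cons (nat_lit 2001) (nat_lit 0x2992e88) (.leaf 1 (nat_lit 0x3ddfa6a) (nat_lit 48)) (.cons (nat_lit 2616) (nat_lit 0x52199008) (.leaf 1 (nat_lit 0x368a048) (nat_lit 47)) (.cons (nat_lit 2660) (nat_lit 0x4b9b39c8) (.leaf 1 (nat_lit 0x1d5f10) (nat_lit 60)) (.cons (nat_lit 1609) (nat_lit 0x4b9d1808) (.leaf 1 (nat_lit 0x2288c31) (nat_lit 48)) .nil)))))))))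
def tA125 : CT := .cons (nat_lit 1848) (nat_lit 1) (.leaf 1 (nat_lit 0x50144f69) (nat_lit 33)) (.cons (nat_lit 762) (nat_lit 0x2550bf9) (.leaf 1 (nat_lit 0x613c5931) (nat_lit 1)) (.cons (nat_lit 1068) (nat_lit 0x2851969) (.leaf 1 (nat_lit 0x3e0ee32) (nat_lit 62)) (.cons (nat_lit 3520) (nat_lit 0x38f0d64) (.leaf 1 (nat_lit 0x3b4f05b) (nat_lit 48)) (.cons (nat_lit 2613) (nat_lit 0x3e480bb) (.leaf 1 (nat_lit 0x2f7eec9) (nat_lit 54)) (.cons (nat_lit 3587) (nat_lit 0x2e5196f) (.leaf 1 (nat_lit 0x1d73f0) (nat_lit 50)) (.cons (nat_lit 3604) (nat_lit 0x2992e88) (.leaf 1 (nat_lit 0x3b162ff) (nat_lit 32)) (.cons (nat_lit 2165) (nat_lit 0x52199008) (.leaf 1 (nat_lit 0x5487f87f) (nat_lit 41)) (.cons (nat_lit 2756) (nat_lit 0x4b9b39c8) (.leaf 1 (nat_lit 0x40bbfa9e) (nat_lit 1)) (.cons (nat_lit 1046) (nat_lit 0x4b9d1808) (.leaf 1 (nat_lit 0x30f5816) (nat_lit 62)) .nil)))))))))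
def tA126 : CT := .cons (nat_lit 1164) (nat_lit 1) (.leaf 1 (nat_lit 0x523ddad3) (nat_lit 48)) (.cons (nat_lit 3845) (nat_lit 0x2550bf9) (.leaf 1 (nat_lit 0x758283f4) (nat_lit 56)) (.cons (nat_lit 2263) (nat_lit 0x2851969) (.leaf 1 (nat_lit 0x5d848f39) (nat_lit 58)) (.cons (nat_lit 2553) (nat_lit 0x38f0d64) (.leaf 1 (nat_lit 0x3c55f7f) (nat_lit 1032)) (.cons (nat_lit 617) (nat_lit 0x3e480bb) (.leaf 1 (nat_lit 0x71bdd969) (nat_lit 1054)) (.cons (nat_lit 244) (nat_lit 0x2e5196f) (.leaf 1 (nat_lit 0x36b25c9) (nat_lit 52)) (.cons (nat_lit 1502) (nat_lit 0x2992e88) (.leaf 1 (nat_lit 0x3c4fc28) (nat_lit 53)) (.cons (nat_lit 1192) (nat_lit 0x52199008) (.leaf 1 (nat_lit 0x2bb4576) (nat_lit 38)) (.cons (nat_lit 2555) (nat_lit 0x4b9b39c8) (.leaf 1 (nat_lit 0x3ed02d5) (nat_lit 52)) (.cons (nat_lit 181) (nat_lit 0x4b9d1808) (.leaf 1 (nat_lit 0x4115bfd4) (nat_lit 55)) .nil)))))))))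
def tA127 : CT := .cons (nat_lit 66) (nat_lit 1) (.leaf 1 (nat_lit 0x5d61c3d7) (nat_lit 50)) (.cons (nat_lit 1167) (nat_lit 0x2550bf9) (.leaf 1 (nat_lit 0x2130d08) (nat_lit 56)) (.cons (nat_lit 1331) (nat_lit 0x2851969) (.leaf 1 (nat_lit 0x22f613b) (nat_lit 55)) (.cons (nat_lit 3847) (nat_lit 0x38f0d64) (.leaf 1 (nat_lit 0x119529) (nat_lit 1038)) (.cons (nat_lit 4032) (nat_lit 0x3e480bb) (.leaf 1 (nat_lit 0x2245e84) (nat_lit 33)) (.cons (nat_lit 2080) (nat_lit 0x2e5196f) (.leaf 1 (nat_lit 0x44850feb) (nat_lit 1)) (.cons (nat_lit 441) (nat_lit 0x2992e88) (.leaf 1 (nat_lit 0x4730a15f) (nat_lit 40)) (.cons (nat_lit 2925) (nat_lit 0x52199008) (.leaf 1 (nat_lit 0x2eba15c) (nat_lit 48)) (.cons (nat_lit 1076) (nat_lit 0x4b9b39c8) (.leaf 1 (nat_lit 0x3cdd3ee) (nat_lit 41)) (.cons (nat_lit 1919) (nat_lit 0x4b9d1808) (.leaf 1 (nat_lit 0x3f483eb) (nat_lit 1028)) .nil)))))))))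
def tA128 : CT := .cons (nat_lit 2977) (nat_lit 1) (.leaf 1 (nat_lit 0x3b96c78) (nat_lit 41)) (.cons (nat_lit 2200) (nat_lit 0x2550bf9) (.leaf 1 (nat_lit 0x79f715ce) (nat_lit 50)) (.cons (nat_lit 1374) (nat_lit 0x2851969) (.leaf 1 (nat_lit 0x3aca605) (nat_lit 54)) (.cons (nat_lit 1823) (nat_lit 0x38f0d64) (.leaf 1 (nat_lit 0x31f0d3a) (nat_lit 48)) (.cons (nat_lit 3895) (nat_lit 0x3e480bb) (.leaf 1 (nat_lit 0x29b2616) (nat_lit 1)) (.cons (nat_lit 2522) (nat_lit 0x2e5196f) (.leaf 1 (nat_lit 0x3ad0a3e) (nat_lit 52)) (.cons (nat_lit 208) (nat_lit 0x2992e88) (.leaf 1 (nat_lit 0x3ad00d9) (nat_lit 52)) (.cons (nat_lit 3691) (nat_lit 0x52199008) (.leaf 1 (nat_lit 0x1f6b0e) (nat_lit 38)) (.cons (nat_lit 2244) (nat_lit 0x4b9b39c8) (.leaf 1 (nat_lit 0x61ee6c06) (nat_lit 1038)) (.cons (nat_lit 413) (nat_lit 0x4b9d1808) (.leaf 1 (nat_lit 0x31fc276) (nat_lit 1024)) .nil)))))))))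
def tA129 : CT := .cons (nat_lit 705) (nat_lit 1) (.leaf 1 (nat_lit 0x43e46809) (nat_lit 60)) (.cons (nat_lit 2780) (nat_lit 0x2550bf9) (.leaf 1 (nat_lit 0x2a75517) (nat_lit 33)) (.cons (nat_lit 722) (nat_lit 0x2851969) (.leaf 1 (nat_lit 0x14a911) (nat_lit 40)) (.cons (nat_lit 2460) (nat_lit 0x38f0d64) (.leaf 1 (nat_lit 0x4caa0bc0) (nat_lit 62)) (.cons (nat_lit 1000) (nat_lit 0x3e480bb) (.leaf 1 (nat_lit 0x7839fd2f) (nat_lit 38)) (.cons (nat_lit 1668) (nat_lit 0x2e5196f) (.leaf 1 (nat_lit 0x51e46a82) (nat_lit 40)) (.cons (nat_lit 3345) (nat_lit 0x2992e88) (.leaf 1 (nat_lit 0x503f2386) (nat_lit 41)) (.cons (nat_lit 2644) (nat_lit 0x52199008) (.leaf 1 (nat_lit 0x3a1bd5d) (nat_lit 58)) (.cons (nat_lit 768) (nat_lit 0x4b9b39c8) (.leaf 1 (nat_lit 0x3ec8e7f) (nat_lit 56)) (.cons (nat_lit 1014) (nat_lit 0x4b9d1808) (.leaf 1 (nat_lit 0x609057e1) (nat_lit 62)) .nil)))))))))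
def tA130 : CT := .cons (nat_lit 1170) (nat_lit 1) (.leaf 1 (nat_lit 0x6ead26ab) (nat_lit 60)) (.cons (nat_lit 2708) (nat_lit 0x2550bf9) (.leaf 1 (nat_lit 0x648dafae) (nat_lit 47)) (.cons (nat_lit 3642) (nat_lit 0x2851969) (.leaf 1 (nat_lit 0x457cec76) (nat_lit 33)) (.cons (nat_lit 2200) (nat_lit 0x38f0d64) (.leaf 1 (nat_lit 0x743524d7) (nat_lit 40)) (.cons (nat_lit 1374) (nat_lit 0x3e480bb) (.leaf 1 (nat_lit 0x3aac451) (nat_lit 43)) (.cons (nat_lit 46) (nat_lit 0x2e5196f) (.leaf 1 (nat_lit 0x51f58772) (nat_lit 1032)) (.cons (nat_lit 3791) (nat_lit 0x2992e88) (.leaf 1 (nat_lit 0x61458242) (nat_lit 50)) (.cons (nat_lit 2539) (nat_lit 0x52199008) (.leaf 1 (nat_lit 0x7928f534) (nat_lit 38)) (.cons (nat_lit 2847) (nat_lit 0x4b9b39c8) (.leaf 1 (nat_lit 0x22c8be5) (nat_lit 50)) (.cons (nat_lit 569) (nat_lit 0x4b9d1808) (.leaf 1 (nat_lit 0x3d1cb7f) (nat_lit 32)) .nil)))))))))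
def tA131 : CT := .cons (nat_lit 3046) (nat_lit 1) (.leaf 1 (nat_lit 0x76b7eb88) (nat_lit 43)) (.cons (nat_lit 1646) (nat_lit 0x2550bf9) (.leaf 1 (nat_lit 0x29b6463) (nat_lit 35)) (.cons (nat_lit 2949) (nat_lit 0x2851969) (.leaf 1 (nat_lit 0x410db90a) (nat_lit 48)) (.cons (nat_lit 2162) (nat_lit 0x38f0d64) (.leaf 1 (nat_lit 0x2bafa63) (nat_lit 1)) (.cons (nat_lit 1142) (nat_lit 0x3e480bb) (.leaf 1 (nat_lit 0x7d91d173) (nat_lit 63)) (.cons (nat_lit 621) (nat_lit 0x2e5196f) (.leaf 1 (nat_lit 0x5085dadd) (nat_lit 43)) (.cons (nat_lit 2536) (nat_lit 0x2992e88) (.leaf 1 (nat_lit 0x7c8d23d0) (nat_lit 34)) (.cons (nat_lit 931) (nat_lit 0x52199008) (.leaf 1 (nat_lit 0x20f8e8e) (nat_lit 32)) (.cons (nat_lit 2810) (nat_lit 0x4b9b39c8) (.leaf 1 (nat_lit 0x45043f55) (nat_lit 1)) (.cons (nat_lit 2745) (nat_lit 0x4b9d1808) (.leaf 1 (nat_lit 0x54350ff9) (nat_lit 56)) .nil)))))))))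
def tA132 : CT := .cons (nat_lit 1809) (nat_lit 1) (.leaf 1 (nat_lit 0x3d4ec74) (nat_lit 47)) (.cons (nat_lit 1350) (nat_lit 0x2550bf9) (.leaf 1 (nat_lit 0x7e9026a8) (nat_lit 62)) (.cons (nat_lit 456) (nat_lit 0x2851969) (.leaf 1 (nat_lit 0x65f94533) (nat_lit 1)) (.cons (nat_lit 1715) (nat_lit 0x38f0d64) (.leaf 1 (nat_lit 0x30727b0) (nat_lit 40)) (.cons (nat_lit 2497) (nat_lit 0x3e480bb) (.leaf 1 (nat_lit 0x717f0933) (nat_lit 63)) (.cons (nat_lit 1795) (nat_lit 0x2e5196f) (.leaf 1 (nat_lit 0x603a9936) (nat_lit 43)) (.cons (nat_lit 164) (nat_lit 0x2992e88) (.leaf 1 (nat_lit 0x62a9ee88) (nat_lit 34)) (.cons (nat_lit 3972) (nat_lit 0x52199008) (.leaf 1 (nat_lit 0x11972f) (nat_lit 55)) (.cons (nat_lit 1651) (nat_lit 0x4b9b39c8) (.leaf 1 (nat_lit 0x1f3920) (nat_lit 47)) (.cons (nat_lit 606) (nat_lit 0x4b9d1808) (.leaf 1 (nat_lit 0x368ea42) (nat_lit 53)) .nil)))))))))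
def tA133 : CT := .cons (nat_lit 3360) (nat_lit 1) (.leaf 1 (nat_lit 0x47ae5dea) (nat_lit 59)) (.cons (nat_lit 3067) (nat_lit 0x2550bf9) (.leaf 1 (nat_lit 0x55af6a1d) (nat_lit 1043)) (.cons (nat_lit 1781) (nat_lit 0x2851969) (.leaf 1 (nat_lit 0x1cfd1b) (nat_lit 1032)) (.cons (nat_lit 1795) (nat_lit 0x38f0d64) (.leaf 1 (nat_lit 0x77b1b912) (nat_lit 49)) (.cons (nat_lit 2471) (nat_lit 0x3e480bb) (.leaf 1 (nat_lit 0x391fed3) (nat_lit 52)) (.cons (nat_lit 1809) (nat_lit 0x2e5196f) (.leaf 1 (nat_lit 0x50e47850) (nat_lit 34)) (.cons (nat_lit 1840) (nat_lit 0x2992e88) (.leaf 1 (nat_lit 0x500dfcb1) (nat_lit 58)) (.cons (nat_lit 2677) (nat_lit 0x52199008) (.leaf 1 (nat_lit 0x378a3d7) (nat_lit 48)) (.cons (nat_lit 2131) (nat_lit 0x4b9b39c8) (.leaf 1 (nat_lit 0x31f0ea4) (nat_lit 49)) (.cons (nat_lit 2571) (nat_lit 0x4b9d1808) (.leaf 1 (nat_lit 0x452c7ba2) (nat_lit 43)) .nil)))))))))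
def tA134 : CT := .cons (nat_lit 900) (nat_lit 1) (.leaf 1 (nat_lit 0x2f88948) (nat_lit 48)) (.cons (nat_lit 773) (nat_lit 0x2550bf9) (.leaf 1 (nat_lit 0x3bb245f) (nat_lit 1046)) (.cons (nat_lit 538) (nat_lit 0x2851969) (.leaf 1 (nat_lit 0x2e4acd3) (nat_lit 58)) (.cons (nat_lit 3748) (nat_lit 0x38f0d64) (.leaf 1 (nat_lit 0x3aedfd6) (nat_lit 58)) (.cons (nat_lit 2721) (nat_lit 0x3e480bb) (.leaf 1 (nat_lit 0x4528e47e) (nat_lit 1034)) (.cons (nat_lit 2448) (nat_lit 0x2e5196f) (.leaf 1 (nat_lit 0x457dee58) (nat_lit 1)) (.cons (nat_lit 348) (nat_lit 0x2992e88) (.leaf 1 (nat_lit 0x297a87a) (nat_lit 50)) (.cons (nat_lit 3696) (nat_lit 0x52199008) (.leaf 1 (nat_lit 0x75abf108) (nat_lit 53)) (.cons (nat_lit 445) (nat_lit 0x4b9b39c8) (.leaf 1 (nat_lit 0x65e5407b) (nat_lit 1)) (.cons (nat_lit 76) (nat_lit 0x4b9d1808) (.leaf 1 (nat_lit 0x51c815d3) (nat_lit 40)) .nil)))))))))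
def tA135 : CT := .cons (nat_lit 3992) (nat_lit 1) (.leaf 1 (nat_lit 0x459d201f) (nat_lit 43)) (.cons (nat_lit 3450) (nat_lit 0x2550bf9) (.leaf 1 (nat_lit 0x2398771) (nat_lit 1)) (.cons (nat_lit 183) (nat_lit 0x2851969) (.leaf 1 (nat_lit 0x5c587bc9) (nat_lit 62)) (.cons (nat_lit 3552) (nat_lit 0x38f0d64) (.leaf 1 (nat_lit 0x3a28ef8) (nat_lit 56)) (.cons (nat_lit 275) (nat_lit 0x3e480bb) (.leaf 1 (nat_lit 0x2f42c7f) (nat_lit 52)) (.cons (nat_lit 3251) (nat_lit 0x2e5196f) (.leaf 1 (nat_lit 0x4080a469) (nat_lit 54)) (.cons (nat_lit 3823) (nat_lit 0x2992e88) (.leaf 1 (nat_lit 0x55778b7e) (nat_lit 40)) (.cons (nat_lit 633) (nat_lit 0x52199008) (.leaf 1 (nat_lit 0x77188944) (nat_lit 40)) (.cons (nat_lit 1886) (nat_lit 0x4b9b39c8) (.leaf 1 (nat_lit 0x6a8fdad3) (nat_lit 41)) (.cons (nat_lit 2389) (nat_lit 0x4b9d1808) (.leaf 1 (nat_lit 0x2217b36) (nat_lit 1047)) .nil)))))))))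
def tA : CT := .cons (nat_lit 1183) (nat_lit 1) tA0 (.cons (nat_lit 3343) (nat_lit 1941) tA1 (.cons (nat_lit 1868) (nat_lit 41764) tA2 (.cons (nat_lit 90) (nat_lit 36034) tA3 (.cons (nat_lit 445) (nat_lit 44095) tA4 (.cons (nat_lit 1690) (nat_lit 63498) tA5 (.cons (nat_lit 2458) (nat_lit 34816) tA6 (.cons (nat_lit 3461) (nat_lit 60991) tA7 (.cons (nat_lit 473) (nat_lit 38665) tA8 (.cons (nat_lit 2265) (nat_lit 42806) tA9 (.cons (nat_lit 2024) (nat_lit 57096) tA10 (.cons (nat_lit 3865) (nat_lit 35470) tA11 (.cons (nat_lit 3829) (nat_lit 48868) tA12 (.cons (nat_lit 3051) (nat_lit 38606) tA13 (.cons (nat_lit 1127) (nat_lit 37454) tA14 (.cons (nat_lit 3743) (nat_lit 48388) tA15 (.cons (nat_lit 3329) (nat_lit 48310) tA16 (.cons (nat_lit 606) (nat_lit 0x14ba33) tA17 (.cons (nat_lit 1140) (nat_lit 0x1b721b) tA18 (.cons (nat_lit 2048) (nat_lit 0x1da791) tA19 (.cons (nat_lit 1669)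 (nat_lit 0x120b28) tA20 (.cons (nat_lit 464) (nat_lit 0x14d2c3) tA21 (.cons (nat_lit 936) (nat_lit 0x149b25) tA22 (.cons (nat_lit 1978) (nat_lit 0x1dc40a) tA23 (.cons (nat_lit 705) (nat_lit 0x1474a3) tA24 (.cons (nat_lit 2478) (nat_lit 0x1aa470) tA25 (.cons (nat_lit 2156) (nat_lit 0x1e15c8) tA26 (.cons (nat_lit 3943) (nat_lit 0x1c0912) tA27 (.cons (nat_lit 3015) (nat_lit 0x15e650) tA28 (.cons (nat_lit 1628) (nat_lit 0x1580a1) tA29 (.cons (nat_lit 2827) (nat_lit 0x195fd3) tA30 (.cons (nat_lit 3995) (nat_lit 0x1eccc2) tA31 (.cons (nat_lit 3431) (nat_lit 0x18d910) tA32 (.cons (nat_lit 1768) (nat_lit 0x1f0cc3) tA33 (.cons (nat_lit 3039) (nat_lit 0x1bcd53) tA34 (.cons (nat_lit 3933) (nat_lit 0x14c7a3) tA35 (.cons (nat_lit 1418) (nat_lit 0x193e08) tA36 (.cons (nat_lit 3823) (nat_lit 0x123e96) tA37 (.cons (nat_lit 3421) (nat_lit 0x112c29) tA38 (.cons (nat_lit 3010) (nat_lit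 0x1afe20) tA39 (.cons (nat_lit 3355) (nat_lit 0x14626e) tA40 (.cons (nat_lit 1781) (nat_lit 0x140dc2) tA41 (.cons (nat_lit 3728) (nat_lit 0x1cc670) tA42 (.cons (nat_lit 1599) (nat_lit 0x1fd07f) tA43 (.cons (nat_lit 3767) (nat_lit 0x180feb) tA44 (.cons (nat_lit 46) (nat_lit 0x1bbe89) tA45 (.cons (nat_lit 3554) (nat_lit 0x1ff41e) tA46 (.cons (nat_lit 3027) (nat_lit 0x14d5d3) tA47 (.cons (nat_lit 3906) (nat_lit 0x188914) tA48 (.cons (nat_lit 441) (nat_lit 0x1287c2) tA49 (.cons (nat_lit 1577) (nat_lit 0x1f2acb) tA50 (.cons (nat_lit 1468) (nat_lit 0x1dac4b) tA51 (.cons (nat_lit 2405) (nat_lit 0x1b0757) tA52 (.cons (nat_lit 3223) (nat_lit 0x1c3bfc) tA53 (.cons (nat_lit 16) (nat_lit 0x112a08) tA54 (.cons (nat_lit 3341) (nat_lit 0x18ca18) tA55 (.cons (nat_lit 2626) (nat_lit 0x1f0abe) tA56 (.cons (nat_lit 252) (nat_lit 0x14f613) tA57 (.cons (nat_lit 2818) (nat_lit 0x1ea10b) tA58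 (.cons (nat_lit 3719) (nat_lit 0x112e34) tA59 (.cons (nat_lit 3691) (nat_lit 0x152258) tA60 (.cons (nat_lit 3815) (nat_lit 0x11fc04) tA61 (.cons (nat_lit 1963) (nat_lit 0x14c563) tA62 (.cons (nat_lit 2494) (nat_lit 0x111663) tA63 (.cons (nat_lit 404) (nat_lit 0x19bfcf) tA64 (.cons (nat_lit 3868) (nat_lit 0x150d5a) tA65 (.cons (nat_lit 3947) (nat_lit 0x177dd2) tA66 (.cons (nat_lit 1722) (nat_lit 0x1b6c17) tA67 (.cons (nat_lit 1598) (nat_lit 0x15253c) tA68 (.cons (nat_lit 1524) (nat_lit 0x17a309) tA69 (.cons (nat_lit 964) (nat_lit 0x14e48e) tA70 (.cons (nat_lit 3696) (nat_lit 0x18d440) tA71 (.cons (nat_lit 1350) (nat_lit 0x1b2216) tA72 (.cons (nat_lit 2013) (nat_lit 0x1108d4) tA73 (.cons (nat_lit 3372) (nat_lit 0x309c39a) tA74 (.cons (nat_lit 2480) (nat_lit 0x3ee3fda) tA75 (.cons (nat_lit 2753) (nat_lit 0x36ea148) tA76 (.cons (nat_lit 3878) (nat_lit 0x2ff466b) tA77 (.cons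 (nat_lit 926) (nat_lit 0x3a7a210) tA78 (.cons (nat_lit 3227) (nat_lit 0x2aadb00) tA79 (.cons (nat_lit 2641) (nat_lit 0x37ea5c6) tA80 (.cons (nat_lit 1354) (nat_lit 0x23ddd02) tA81 (.cons (nat_lit 2871) (nat_lit 0x3dd59de) tA82 (.cons (nat_lit 2764) (nat_lit 0x2ae2e36) tA83 (.cons (nat_lit 3913) (nat_lit 0x398c769) tA84 (.cons (nat_lit 1788) (nat_lit 0x31a5a10) tA85 (.cons (nat_lit 3801) (nat_lit 0x23f8e7a) tA86 (.cons (nat_lit 1742) (nat_lit 0x35f8290) tA87 (.cons (nat_lit 3840) (nat_lit 0x2354f78) tA88 (.cons (nat_lit 3556) (nat_lit 0x397eb82) tA89 (.cons (nat_lit 2289) (nat_lit 0x29dcfca) tA90 (.cons (nat_lit 2794) (nat_lit 0x3a4580b) tA91 (.cons (nat_lit 761) (nat_lit 0x37aa5c6) tA92 (.cons (nat_lit 2980) (nat_lit 0x219c66e) tA93 (.cons (nat_lit 1844) (nat_lit 0x23f602a) tA94 (.cons (nat_lit 356) (nat_lit 0x2347a71) tA95 (.cons (nat_lit 1488) (nat_lit 0x37f8aea) tA96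 (.cons (nat_lit 1162) (nat_lit 0x290185f) tA97 (.cons (nat_lit 1369) (nat_lit 0x29f4b64) tA98 (.cons (nat_lit 1847) (nat_lit 0x3d46a70) tA99 (.cons (nat_lit 873) (nat_lit 0x235cb4f) tA100 (.cons (nat_lit 134) (nat_lit 0x285012a) tA101 (.cons (nat_lit 2338) (nat_lit 0x2887353) tA102 (.cons (nat_lit 2845) (nat_lit 0x3a9c356) tA103 (.cons (nat_lit 2160) (nat_lit 0x2bd875a) tA104 (.cons (nat_lit 2977) (nat_lit 0x3e30e16) tA105 (.cons (nat_lit 3853) (nat_lit 0x3dd712a) tA106 (.cons (nat_lit 396) (nat_lit 0x3a9ab58) tA107 (.cons (nat_lit 666) (nat_lit 0x38f2385) tA108 (.cons (nat_lit 2345) (nat_lit 0x3a90888) tA109 (.cons (nat_lit 580) (nat_lit 0x370dbf9) tA110 (.cons (nat_lit 3648) (nat_lit 0x36c5d1a) tA111 (.cons (nat_lit 2346) (nat_lit 0x3e13d4a) tA112 (.cons (nat_lit 2358) (nat_lit 0x2fb87c2) tA113 (.cons (nat_lit 3666) (nat_lit 0x2319b68) tA114 (.cons (nat_lit 2866) (nat_lit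 0x2ef210e) tA115 (.cons (nat_lit 2594) (nat_lit 0x2aea6b0) tA116 (.cons (nat_lit 1419) (nat_lit 0x3350b32) tA117 (.cons (nat_lit 388) (nat_lit 0x3f2ee42) tA118 (.cons (nat_lit 2083) (nat_lit 0x3093e50) tA119 (.cons (nat_lit 2183) (nat_lit 0x3318361) tA120 (.cons (nat_lit 2800) (nat_lit 0x21f83d2) tA121 (.cons (nat_lit 3321) (nat_lit 0x382e108) tA122 (.cons (nat_lit 3136) (nat_lit 0x2045f60) tA123 (.cons (nat_lit 2309) (nat_lit 0x2fb977d) tA124 (.cons (nat_lit 2744) (nat_lit 0x2a8d0d0) tA125 (.cons (nat_lit 3536) (nat_lit 0x26926d6) tA126 (.cons (nat_lit 101) (nat_lit 0x2ac5d00) tA127 (.cons (nat_lit 3922) (nat_lit 0x3f96f78) tA128 (.cons (nat_lit 2831) (nat_lit 0x3d45c2a) tA129 (.cons (nat_lit 3045) (nat_lit 0x291c162) tA130 (.cons (nat_lit 1605) (nat_lit 0x3650a38) tA131 (.cons (nat_lit 1187) (nat_lit 0x2bb7f84) tA132 (.cons (nat_lit 2315) (nat_lit 0x331a3c2) tA133 (.cons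 (nat_lit 3847) (nat_lit 0x3cbc3e8) tA134 (.cons (nat_lit 3213) (nat_lit 0x746de110) tA135 (.nil))))))))))))))))))))))))))))))))))))))))))))))))))))))))))))))))))))))))))))))))))))))))))))))))))))))))))))))))))))))))))))))))))))))))
def mB : ℕ := nat_lit 0xa4042f44008645609190090108c888208038000129000c40000002984738480000810888a200410a18111802fa99a206806100024c48623001008910804661150811180e0a0010052090050248005c02c209a0d0401202988c00289088860028008d017024d43c18a1876048c02000078740820b320880404881a0208000d439920466d1c4000064010070820a02c000160040021050030e0b884440501001000dd131021c01c2132c32205382404802181ec8580016006660b082a43008546d1a50820ca20d9a00401401d0010170040200102a1c50e1e021b08759173402280801604120040090424608000c32090130b00026104821c00020a018101612c012a119006208120c50282051c61800ce001c00702b11099049a202af22041a20b075138244201bc402600a1232a41040514c038e060401804420840101a000408036000142424001c020c420060140163e6849060880230b81a8c0084010180d014200480a6020504478800285456f442920090081270002c2000950b0a810430e0585201082642e10c103400272a240450040824486cc806b2218714020006001c90c2a4694ac094c40002069126107120204004034000440026203b1608091ab1030966004620b8301c120a92026c23141384d609600a04ca88b13802a0c2043570a80a90200884184a40084080200080294c2702002424000000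
def uB : ℕ := nat_lit 64464
def qB : List LQ := [⟨b1.L, [], nat_lit 64464, [nat_lit 48310, nat_lit 0x2b1400a, nat_lit 0x7d045e60, nat_lit 0x5ca16c80], [nat_lit 0x170d35ba31393174317421f431ba31ba215d315d215d13fb33fb23fb13fb088931dd32ad39e539e52686382138212021302120211f523f522f521f52073432ba3d5a37f037f02a75303830382b773b772b771e2a3e2a2e2a1e2a0742321e3dbd3d003d0025b5312331232aa03aa02aa01be83be82be81be805b33a383a2f3f0e3f0e2a7e3b653b652b743b742b7410243024202410240147325539f931333133243138ee38ee29de39de29de1f4f3f4f2f4f1f4f07e53e2f336b39af39af288d324632462b303b302b3012d232d222d212d2063f3c5c3fa13314331428b9329232922ad33ad32ad316d236d226d216d20d1638593678377c377c2e88393039302cd33cd32cd31f733f732f731f7300ed37ba30d430f130f12a7d3ce13ce120ce30ce20ce11d531d521d511d50, nat_lit 0x1dc72611361126111f223f222f221f22055836953f9834b134b12e25352535252832383228321b8a3b8a2b8a1b8a087832c035a6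3a713a7122e43bc73bc727b837b827b81b643b642b641b640432388b36da3c973c972805305330532528352825281baa3baa2baa1baa03803abb3f5e3bf83bf824a835b435b42b213b212b2110a830a820a810a80d193da53da03aa13aa1224031553155215a315a215a1596359625961596020a319c3a903a902abd3abd2abd0da43fa332b4394639462d87322932292aea3aea2aea1d013d012d011d01051d3b1f3d6a318131812e3d361636162472347224721e6b3e6b2e6b1e6b065b372e3189305a305a2d59381c381c2a003a002a001f1c3f1c2f1c1f1c0175376b3ab534d034d021a03bd93bd9222b322b222b10673067206710670, nat_lit 0x1f5a3a413801380128ea3d6b3d6b234b334b234b1af13af12af11af10e6633053546387238722b85340d340d28c438c428c416043604260416040be73e3a312138533aaa3aaa2a3f3c943c9421be31be21be1a803a802a801a80006b39ed32ee3709370925f23603360325b835b825b819da39da29da19da015c3552375d37203720253e353e253e00a0375c3dc93b373b3728543c643c642d483d482d4818cf38cf28cf18cf051133d53cdf36cc36cc250f3b253b2524763476247616d136d126d116d10e98364539e13904390420933209320926e536e526e51c553c552c551c550116329c39293ad23ad228873af03af024b734b724b71739373927391739079e35593547323a323a289a3b7d3b7d2b883b882b881d033d032d031d0301543c5433e839a739a723c63dc73,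 nat_lit 0x12db38633bdc39d036a436a424b234b224b2080b334a313c313c29e839e829e80c5d375f3a4b3a4b214c314c214c0bb639e23efa316231622c82308e308e2e9f3e9f2e9f1d663d662d661d660e313b3932da302830282a953bf03bf021de31de21de10a130a120a110a10a5839dc3e003e002e5e3e5e2e5e0d073fc93ccf353d353d2c5e37c837c82f7c3f7c2f7c1eea3eea2eea1eea038c355e33ef3393339327703730373025d035d025d01326332623261326035a3cb63ad63d253d25271430e730e722a732a722a71d093d092d091d090b17310f3a9c312e312e232d3ab83ab82b9e3b9e2b9e127a327a227a127a06c83bfb31c8364f364f28f03ec33ec326fe36fe26fe1dc83dc82dc81dc801643]⟩,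
  ⟨b2.L, [nat_lit 26, nat_lit 147, nat_lit 394, nat_lit 521, nat_lit 612, nat_lit 1435, nat_lit 1605, nat_lit 1765, nat_lit 2140, nat_lit 2308, nat_lit 2529, nat_lit 3157, nat_lit 3213, nat_lit 3550, nat_lit 3736, nat_lit 3988], nat_lit 1337, [], []⟩]
def tB0 : CT := .cons (nat_lit 3987) (nat_lit 48310) (.leaf 2 (nat_lit 48) 0) (.cons (nat_lit 4038) (nat_lit 0x2b1400a) (.leaf 2 (nat_lit 40) 0) (.cons (nat_lit 770) (nat_lit 0x788fdb68) (.leaf 2 (nat_lit 32) 0) (.cons (nat_lit 3890) (nat_lit 0x7d045e60) (.leaf 2 (nat_lit 40) 0) (.cons (nat_lit 678) (nat_lit 0x6af44024) (.leaf 2 (nat_lit 48) 0) (.cons (nat_lit 2292) (nat_lit 0x7318d97c) (.leaf 2 (nat_lit 48) 0) (.cons (nat_lit 1626) (nat_lit 0x6e8d089c) (.leaf 2 (nat_lit 32) 0) (.cons (nat_lit 1113) (nat_lit 0xc6d044710) (.leaf 2 (nat_lit 32) 0) (.cons (nat_lit 2340) (nat_lit 0xf93bb12c0) (.leaf 2 (nat_lit 32) 0) (.cons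 (nat_lit 3017) (nat_lit 0xfc7f94ac0) (.leaf 2 (nat_lit 32) 0) .nil)))))))))
def tB1 : CT := .cons (nat_lit 1701) (nat_lit 0x2b1400a) (.leaf 2 (nat_lit 32) 0) (.cons (nat_lit 3407) (nat_lit 0x50ae2b18) (.leaf 2 (nat_lit 48) 0) (.cons (nat_lit 1626) (nat_lit 0x6e8d089c) (.leaf 2 (nat_lit 32) 0) (.cons (nat_lit 583) (nat_lit 0x5ca16c80) (.leaf 2 (nat_lit 32) 0) (.cons (nat_lit 1302) (nat_lit 0xf93bb12c0) (.leaf 2 (nat_lit 32) 0) (.cons (nat_lit 2273) (nat_lit 0xfc7f94ac0) (.leaf 2 (nat_lit 32) 0) .nil)))))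
def tB2 : CT := .cons (nat_lit 3070) (nat_lit 0x50ae2b18) (.leaf 2 (nat_lit 40) 0) (.cons (nat_lit 3997) (nat_lit 0x6af44024) (.leaf 2 (nat_lit 32) 0) (.cons (nat_lit 903) (nat_lit 0x7318d97c) (.leaf 2 (nat_lit 32) 0) (.cons (nat_lit 1604) (nat_lit 0xc6d044710) (.leaf 2 (nat_lit 48) 0) .nil)))
def tB3 : CT := .cons (nat_lit 877) (nat_lit 48310) (.leaf 2 (nat_lit 48) 0) (.cons (nat_lit 1696) (nat_lit 0x4c9b01c0) (.leaf 2 (nat_lit 32) 0) (.cons (nat_lit 2890) (nat_lit 0x50ae2b18) (.leaf 2 (nat_lit 32) 0) (.cons (nat_lit 2026) (nat_lit 0xc6d044710) (.leaf 2 (nat_lit 32) 0) (.cons (nat_lit 1937) (nat_lit 0xf93bb12c0) (.leaf 2 (nat_lit 32) 0) (.cons (nat_lit 1367) (nat_lit 0xfc7f94ac0) (.leaf 2 (nat_lit 32) 0) .nil)))))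
def tB4 : CT := .cons (nat_lit 2292) (nat_lit 0x50ae2b18) (.leaf 2 (nat_lit 48) 0) (.cons (nat_lit 3186) (nat_lit 0x6af44024) (.leaf 2 (nat_lit 48) 0) (.cons (nat_lit 3069) (nat_lit 0x7318d97c) (.leaf 2 (nat_lit 32) 0) (.cons (nat_lit 558) (nat_lit 0xc6d044710) (.leaf 2 (nat_lit 32) 0) .nil)))
def tB5 : CT := .cons (nat_lit 2808) (nat_lit 1) (.leaf 2 (nat_lit 32) 0) (.cons (nat_lit 3073) (nat_lit 0x4c9b01c0) (.leaf 2 (nat_lit 32) 0) (.cons (nat_lit 2236) (nat_lit 0x50ae2b18) (.leaf 2 (nat_lit 40) 0) (.cons (nat_lit 2217) (nat_lit 0x7318d97c) (.leaf 2 (nat_lit 48) 0) (.cons (nat_lit 1168) (nat_lit 0xc6d044710) (.leaf 2 (nat_lit 34) 0) (.cons (nat_lit 304) (nat_lit 0xf93bb12c0) (.leaf 2 (nat_lit 32) 0) .nil)))))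
def tB6 : CT := .cons (nat_lit 593) (nat_lit 48310) (.leaf 2 (nat_lit 48) 0) (.cons (nat_lit 69) (nat_lit 0x2b1400a) (.leaf 2 (nat_lit 56) 0) (.cons (nat_lit 118) (nat_lit 0x788fdb68) (.leaf 2 (nat_lit 48) 0) (.cons (nat_lit 800) (nat_lit 0x50ae2b18) (.leaf 2 (nat_lit 32) 0) (.cons (nat_lit 2664) (nat_lit 0x7d045e60) (.leaf 2 (nat_lit 40) 0) (.cons (nat_lit 2363) (nat_lit 0x7aa85a18) (.leaf 2 (nat_lit 32) 0) (.cons (nat_lit 3311) (nat_lit 0x6af44024) (.leaf 2 (nat_lit 40) 0) (.cons (nat_lit 1027) (nat_lit 0x5ca16c80) (.leaf 2 (nat_lit 32) 0) .nil)))))))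
def tB7 : CT := .cons (nat_lit 3588) (nat_lit 48310) (.leaf 2 (nat_lit 32) 0) (.cons (nat_lit 3828) (nat_lit 0x4c9b01c0) (.leaf 2 (nat_lit 40) 0) (.cons (nat_lit 1871) (nat_lit 0x788fdb68) (.leaf 2 (nat_lit 48) 0) (.cons (nat_lit 2489) (nat_lit 0x7318d97c) (.leaf 2 (nat_lit 32) 0) (.cons (nat_lit 75) (nat_lit 0x6e8d089c) (.leaf 2 (nat_lit 32) 0) (.cons (nat_lit 148) (nat_lit 0xc6d044710) (.leaf 2 (nat_lit 32) 0) (.cons (nat_lit 3125) (nat_lit 0xf93bb12c0) (.leaf 2 (nat_lit 32) 0) (.cons (nat_lit 2082) (nat_lit 0xfc7f94ac0) (.leaf 2 (nat_lit 32) 0) .nil)))))))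
def tB8 : CT := .cons (nat_lit 3445) (nat_lit 1) (.leaf 2 (nat_lit 32) 0) (.cons (nat_lit 2285) (nat_lit 48310) (.leaf 2 (nat_lit 32) 0) (.cons (nat_lit 1767) (nat_lit 0x6af44024) (.leaf 2 (nat_lit 40) 0) (.cons (nat_lit 2890) (nat_lit 0x6e8d089c) (.leaf 2 (nat_lit 32) 0) (.cons (nat_lit 3844) (nat_lit 0xf520d2160) (.leaf 2 (nat_lit 32) 0) (.cons (nat_lit 205) (nat_lit 0xc6d044710) (.leaf 2 (nat_lit 40) 0) .nil)))))
def tB9 : CT := .cons (nat_lit 3532) (nat_lit 48310) (.leaf 2 (nat_lit 32) 0) (.cons (nat_lit 1453) (nat_lit 0x788fdb68) (.leaf 2 (nat_lit 32) 0) (.cons (nat_lit 1160) (nat_lit 0x50ae2b18) (.leaf 2 (nat_lit 40) 0) (.cons (nat_lit 2230) (nat_lit 0x7d045e60) (.leaf 2 (nat_lit 32) 0) (.cons (nat_lit 1895) (nat_lit 0x7aa85a18) (.leaf 2 (nat_lit 32) 0) (.cons (nat_lit 3078) (nat_lit 0x6e8d089c) (.leaf 2 (nat_lit 48) 0) .nil)))))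
def tB10 : CT := .cons (nat_lit 3367) (nat_lit 0x2b1400a) (.leaf 2 (nat_lit 48) 0) (.cons (nat_lit 2306) (nat_lit 0x4c9b01c0) (.leaf 2 (nat_lit 32) 0) (.cons (nat_lit 159) (nat_lit 0x7d045e60) (.leaf 2 (nat_lit 48) 0) (.cons (nat_lit 1870) (nat_lit 0x7aa85a18) (.leaf 2 (nat_lit 32) 0) (.cons (nat_lit 3624) (nat_lit 0x7318d97c) (.leaf 2 (nat_lit 48) 0) (.cons (nat_lit 1509) (nat_lit 0x6e8d089c) (.leaf 2 (nat_lit 32) 0) (.cons (nat_lit 2782) (nat_lit 0x5ca16c80) (.leaf 2 (nat_lit 48) 0) (.cons (nat_lit 3826) (nat_lit 0xc6d044710) (.leaf 2 (nat_lit 32) 0) .nil)))))))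
def tB11 : CT := .cons (nat_lit 148) (nat_lit 1) (.leaf 2 (nat_lit 32) 0) (.cons (nat_lit 508) (nat_lit 0x2b1400a) (.leaf 2 (nat_lit 32) 0) (.cons (nat_lit 3137) (nat_lit 0x50ae2b18) (.leaf 2 (nat_lit 32) 0) (.cons (nat_lit 2576) (nat_lit 0x7d045e60) (.leaf 2 (nat_lit 48) 0) (.cons (nat_lit 1316) (nat_lit 0x6e8d089c) (.leaf 2 (nat_lit 32) 0) (.cons (nat_lit 3824) (nat_lit 0xf520d2160) (.leaf 2 (nat_lit 48) 0) (.cons (nat_lit 613) (nat_lit 0xf93bb12c0) (.leaf 2 (nat_lit 48) 0) (.cons (nat_lit 3537) (nat_lit 0xfc7f94ac0) (.leaf 2 (nat_lit 32) 0) .nil)))))))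
def tB12 : CT := .cons (nat_lit 2367) (nat_lit 1) (.leaf 2 (nat_lit 32) 0) (.cons (nat_lit 1048) (nat_lit 48310) (.leaf 2 (nat_lit 32) 0) (.cons (nat_lit 304) (nat_lit 0x2b1400a) (.leaf 2 (nat_lit 32) 0) (.cons (nat_lit 579) (nat_lit 0x50ae2b18) (.leaf 2 (nat_lit 48) 0) (.cons (nat_lit 253) (nat_lit 0x7aa85a18) (.leaf 2 (nat_lit 56) 0) (.cons (nat_lit 848) (nat_lit 0x7318d97c) (.leaf 2 (nat_lit 48) 0) (.cons (nat_lit 3923) (nat_lit 0x6e8d089c) (.leaf 2 (nat_lit 32) 0) (.cons (nat_lit 3579) (nat_lit 0xf520d2160) (.leaf 2 (nat_lit 40) 0) (.cons (nat_lit 1713) (nat_lit 0xf93bb12c0) (.leaf 2 (nat_lit 32) 0) (.cons (nat_lit 497) (nat_lit 0xfc7f94ac0) (.leaf 2 (nat_lit 32) 0) .nil)))))))))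
def tB13 : CT := .cons (nat_lit 956) (nat_lit 1) (.leaf 2 (nat_lit 32) 0) (.cons (nat_lit 3243) (nat_lit 0x7d045e60) (.leaf 2 (nat_lit 32) 0) (.cons (nat_lit 1335) (nat_lit 0x7aa85a18) (.leaf 2 (nat_lit 48) 0) (.cons (nat_lit 3233) (nat_lit 0xfc7f94ac0) (.leaf 2 (nat_lit 32) 0) .nil)))
def tB14 : CT := .cons (nat_lit 159) (nat_lit 0x4c9b01c0) (.leaf 2 (nat_lit 32) 0) (.cons (nat_lit 75) (nat_lit 0x50ae2b18) (.leaf 2 (nat_lit 32) 0) (.cons (nat_lit 1914) (nat_lit 0x7d045e60) (.leaf 2 (nat_lit 40) 0) (.cons (nat_lit 807) (nat_lit 0x7aa85a18) (.leaf 2 (nat_lit 40) 0) (.cons (nat_lit 3679) (nat_lit 0x6af44024) (.leaf 2 (nat_lit 32) 0) (.cons (nat_lit 3749) (nat_lit 0x6e8d089c) (.leaf 2 (nat_lit 32) 0) (.cons (nat_lit 2363) (nat_lit 0xf520d2160) (.leaf 2 (nat_lit 56) 0) (.cons (nat_lit 613) (nat_lit 0xf93bb12c0) (.leaf 2 (nat_lit 56) 0) .nil)))))))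
def tB15 : CT := .cons (nat_lit 1542) (nat_lit 48310) (.leaf 2 (nat_lit 48) 0) (.cons (nat_lit 2806) (nat_lit 0x4c9b01c0) (.leaf 2 (nat_lit 48) 0) (.cons (nat_lit 1111) (nat_lit 0x788fdb68) (.leaf 2 (nat_lit 32) 0) (.cons (nat_lit 53) (nat_lit 0x7318d97c) (.leaf 2 (nat_lit 32) 0) (.cons (nat_lit 3844) (nat_lit 0x6e8d089c) (.leaf 2 (nat_lit 32) 0) (.cons (nat_lit 613) (nat_lit 0xc6d044710) (.leaf 2 (nat_lit 32) 0) (.cons (nat_lit 1763) (nat_lit 0xf93bb12c0) (.leaf 2 (nat_lit 48) 0) (.cons (nat_lit 2437) (nat_lit 0xfc7f94ac0) (.leaf 2 (nat_lit 32) 0) .nil)))))))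
def tB16 : CT := .cons (nat_lit 2595) (nat_lit 48310) (.leaf 2 (nat_lit 48) 0) (.cons (nat_lit 2230) (nat_lit 0x7d045e60) (.leaf 2 (nat_lit 40) 0) (.cons (nat_lit 136) (nat_lit 0x7aa85a18) (.leaf 2 (nat_lit 48) 0) (.cons (nat_lit 879) (nat_lit 0xc6d044710) (.leaf 2 (nat_lit 40) 0) (.cons (nat_lit 3098) (nat_lit 0xf93bb12c0) (.leaf 2 (nat_lit 32) 0) (.cons (nat_lit 3861) (nat_lit 0xfc7f94ac0) (.leaf 2 (nat_lit 32) 0) .nil)))))
def tB17 : CT := .cons (nat_lit 1696) (nat_lit 1) (.leaf 2 (nat_lit 32) 0) (.cons (nat_lit 889) (nat_lit 0x788fdb68) (.leaf 2 (nat_lit 32) 0) (.cons (nat_lit 1113) (nat_lit 0x7d045e60) (.leaf 2 (nat_lit 48) 0) (.cons (nat_lit 63) (nat_lit 0x7318d97c) (.leaf 2 (nat_lit 56) 0) (.cons (nat_lit 1216) (nat_lit 0x5ca16c80) (.leaf 2 (nat_lit 32) 0) (.cons (nat_lit 1890) (nat_lit 0xfc7f94ac0) (.leaf 2 (nat_lit 32) 0) .nil)))))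
def tB18 : CT := .cons (nat_lit 383) (nat_lit 1) (.leaf 2 (nat_lit 32) 0) (.cons (nat_lit 1360) (nat_lit 48310) (.leaf 2 (nat_lit 48) 0) (.cons (nat_lit 1185) (nat_lit 0x50ae2b18) (.leaf 2 (nat_lit 32) 0) (.cons (nat_lit 167) (nat_lit 0x6af44024) (.leaf 2 (nat_lit 32) 0) (.cons (nat_lit 1009) (nat_lit 0xc6d044710) (.leaf 2 (nat_lit 48) 0) (.cons (nat_lit 3195) (nat_lit 0xfc7f94ac0) (.leaf 2 (nat_lit 32) 0) .nil)))))
def tB19 : CT := .cons (nat_lit 711) (nat_lit 1) (.leaf 2 (nat_lit 40) 0) (.cons (nat_lit 2148) (nat_lit 0x788fdb68) (.leaf 2 (nat_lit 32) 0) (.cons (nat_lit 558) (nat_lit 0x7d045e60) (.leaf 2 (nat_lit 48) 0) (.cons (nat_lit 683) (nat_lit 0x5ca16c80) (.leaf 2 (nat_lit 32) 0) (.cons (nat_lit 3540) (nat_lit 0xc6d044710) (.leaf 2 (nat_lit 48) 0) (.cons (nat_lit 328) (nat_lit 0xf93bb12c0) (.leaf 2 (nat_lit 40) 0) .nil)))))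
def tB20 : CT := .cons (nat_lit 3588) (nat_lit 1) (.leaf 2 (nat_lit 32) 0) (.cons (nat_lit 593) (nat_lit 0x4c9b01c0) (.leaf 2 (nat_lit 32) 0) (.cons (nat_lit 2475) (nat_lit 0x788fdb68) (.leaf 2 (nat_lit 32) 0) (.cons (nat_lit 2209) (nat_lit 0x50ae2b18) (.leaf 2 (nat_lit 32) 0) (.cons (nat_lit 3624) (nat_lit 0xf520d2160) (.leaf 2 (nat_lit 48) 0) (.cons (nat_lit 3125) (nat_lit 0xc6d044710) (.leaf 2 (nat_lit 32) 0) (.cons (nat_lit 3939) (nat_lit 0xf93bb12c0) (.leaf 2 (nat_lit 32) 0) (.cons (nat_lit 3900) (nat_lit 0xfc7f94ac0) (.leaf 2 (nat_lit 32) 0) .nil)))))))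
def tB21 : CT := .nil
def tB22 : CT := .cons (nat_lit 1937) (nat_lit 1) (.leaf 2 (nat_lit 32) 0) (.cons (nat_lit 1124) (nat_lit 48310) (.leaf 2 (nat_lit 48) 0) (.cons (nat_lit 1635) (nat_lit 0x2b1400a) (.leaf 2 (nat_lit 32) 0) (.cons (nat_lit 497) (nat_lit 0x5ca16c80) (.leaf 2 (nat_lit 48) 0) (.cons (nat_lit 1453) (nat_lit 0xf520d2160) (.leaf 2 (nat_lit 32) 0) (.cons (nat_lit 877) (nat_lit 0xc6d044710) (.leaf 2 (nat_lit 32) 0) .nil)))))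
def tB23 : CT := .cons (nat_lit 3957) (nat_lit 1) (.leaf 2 (nat_lit 48) 0) (.cons (nat_lit 2194) (nat_lit 48310) (.leaf 2 (nat_lit 32) 0) (.cons (nat_lit 646) (nat_lit 0x2b1400a) (.leaf 2 (nat_lit 40) 0) (.cons (nat_lit 1274) (nat_lit 0x4c9b01c0) (.leaf 2 (nat_lit 48) 0) (.cons (nat_lit 2082) (nat_lit 0x788fdb68) (.leaf 2 (nat_lit 32) 0) (.cons (nat_lit 1313) (nat_lit 0x50ae2b18) (.leaf 2 (nat_lit 32) 0) (.cons (nat_lit 1010) (nat_lit 0x7d045e60) (.leaf 2 (nat_lit 32) 0) (.cons (nat_lit 1566) (nat_lit 0x7aa85a18) (.leaf 2 (nat_lit 32) 0) (.cons (nat_lit 2025) (nat_lit 0x6af44024) (.leaf 2 (nat_lit 32) 0) (.cons (nat_lit 1111) (nat_lit 0x7318d97c) (.leaf 2 (nat_lit 32) 0) (.cons (nat_lit 1571) (nat_lit 0x6e8d089c) (.leaf 2 (nat_lit 32) 0) (.cons (nat_lit 1931) (nat_lit 0x5ca16c80) (.leaf 2 (nat_lit 32) 0) (.cons (nat_lit 2437) (nat_lit 0xf520d2160) (.leaf 2 (nat_lit 32)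 0) (.cons (nat_lit 1244) (nat_lit 0xc6d044710) (.leaf 2 (nat_lit 56) 0) (.cons (nat_lit 344) (nat_lit 0xf93bb12c0) (.leaf 2 (nat_lit 32) 0) (.cons (nat_lit 1871) (nat_lit 0xfc7f94ac0) (.leaf 2 (nat_lit 32) 0) .nil)))))))))))))))
def tB24 : CT := .cons (nat_lit 2664) (nat_lit 1) (.leaf 2 (nat_lit 32) 0) (.cons (nat_lit 885) (nat_lit 48310) (.leaf 2 (nat_lit 32) 0) (.cons (nat_lit 3180) (nat_lit 0x2b1400a) (.leaf 2 (nat_lit 32) 0) (.cons (nat_lit 3579) (nat_lit 0x788fdb68) (.leaf 2 (nat_lit 32) 0) (.cons (nat_lit 1499) (nat_lit 0x50ae2b18) (.leaf 2 (nat_lit 32) 0) (.cons (nat_lit 1870) (nat_lit 0x7aa85a18) (.leaf 2 (nat_lit 32) 0) (.cons (nat_lit 429) (nat_lit 0x7318d97c) (.leaf 2 (nat_lit 32) 0) (.cons (nat_lit 1509) (nat_lit 0x6e8d089c) (.leaf 2 (nat_lit 32) 0) (.cons (nat_lit 3311) (nat_lit 0xc6d044710) (.leaf 2 (nat_lit 32) 0) (.cons (nat_lit 848) (nat_lit 0xfc7f94ac0)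 (.leaf 2 (nat_lit 32) 0) .nil)))))))))
def tB25 : CT := .cons (nat_lit 1335) (nat_lit 0x50ae2b18) (.leaf 2 (nat_lit 48) 0) (.cons (nat_lit 2797) (nat_lit 0x6af44024) (.leaf 2 (nat_lit 32) 0) (.cons (nat_lit 411) (nat_lit 0xf93bb12c0) (.leaf 2 (nat_lit 32) 0) (.cons (nat_lit 3351) (nat_lit 0xfc7f94ac0) (.leaf 2 (nat_lit 32) 0) .nil)))
def tB26 : CT := .cons (nat_lit 1582) (nat_lit 0x788fdb68) (.leaf 2 (nat_lit 32) 0) (.cons (nat_lit 2995) (nat_lit 0x50ae2b18) (.leaf 2 (nat_lit 32) 0) (.cons (nat_lit 4023) (nat_lit 0x6af44024) (.leaf 2 (nat_lit 32) 0) (.cons (nat_lit 1129) (nat_lit 0x7318d97c) (.leaf 2 (nat_lit 32) 0) (.cons (nat_lit 4055) (nat_lit 0xf520d2160) (.leaf 2 (nat_lit 48) 0) (.cons (nat_lit 1118) (nat_lit 0xf93bb12c0) (.leaf 2 (nat_lit 56) 0) .nil)))))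
def tB27 : CT := .cons (nat_lit 1995) (nat_lit 48310) (.leaf 2 (nat_lit 48) 0) (.cons (nat_lit 2518) (nat_lit 0x50ae2b18) (.leaf 2 (nat_lit 48) 0) (.cons (nat_lit 2642) (nat_lit 0x7d045e60) (.leaf 2 (nat_lit 48) 0) (.cons (nat_lit 3233) (nat_lit 0x6e8d089c) (.leaf 2 (nat_lit 32) 0) (.cons (nat_lit 1235) (nat_lit 0x5ca16c80) (.leaf 2 (nat_lit 56) 0) (.cons (nat_lit 3997) (nat_lit 0xc6d044710) (.leaf 2 (nat_lit 32) 0) (.cons (nat_lit 3184) (nat_lit 0xf93bb12c0) (.leaf 2 (nat_lit 32) 0) (.cons (nat_lit 579) (nat_lit 0xfc7f94ac0) (.leaf 2 (nat_lit 32) 0) .nil)))))))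
def tB28 : CT := .cons (nat_lit 1767) (nat_lit 48310) (.leaf 2 (nat_lit 56) 0) (.cons (nat_lit 3115) (nat_lit 0x2b1400a) (.leaf 2 (nat_lit 48) 0) (.cons (nat_lit 3665) (nat_lit 0x4c9b01c0) (.leaf 2 (nat_lit 32) 0) (.cons (nat_lit 3714) (nat_lit 0x788fdb68) (.leaf 2 (nat_lit 40) 0) (.cons (nat_lit 2209) (nat_lit 0x50ae2b18) (.leaf 2 (nat_lit 32) 0) (.cons (nat_lit 3849) (nat_lit 0x7aa85a18) (.leaf 2 (nat_lit 48) 0) (.cons (nat_lit 1664) (nat_lit 0x6af44024) (.leaf 2 (nat_lit 32) 0) (.cons (nat_lit 92) (nat_lit 0x6e8d089c) (.leaf 2 (nat_lit 48) 0) .nil)))))))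
def tB29 : CT := .cons (nat_lit 159) (nat_lit 1) (.leaf 2 (nat_lit 32) 0) (.cons (nat_lit 2627) (nat_lit 48310) (.leaf 2 (nat_lit 40) 0) (.cons (nat_lit 3607) (nat_lit 0x2b1400a) (.leaf 2 (nat_lit 32) 0) (.cons (nat_lit 1633) (nat_lit 0x6af44024) (.leaf 2 (nat_lit 56) 0) (.cons (nat_lit 903) (nat_lit 0x7318d97c) (.leaf 2 (nat_lit 32) 0) (.cons (nat_lit 2303) (nat_lit 0x6e8d089c) (.leaf 2 (nat_lit 32) 0) (.cons (nat_lit 2018) (nat_lit 0x5ca16c80) (.leaf 2 (nat_lit 32) 0) (.cons (nat_lit 3825) (nat_lit 0xfc7f94ac0) (.leaf 2 (nat_lit 32) 0) .nil)))))))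
def tB30 : CT := .cons (nat_lit 3398) (nat_lit 0x50ae2b18) (.leaf 2 (nat_lit 48) 0) (.cons (nat_lit 1011) (nat_lit 0x6af44024) (.leaf 2 (nat_lit 48) 0) (.cons (nat_lit 3651) (nat_lit 0xf93bb12c0) (.leaf 2 (nat_lit 48) 0) (.cons (nat_lit 1604) (nat_lit 0xfc7f94ac0) (.leaf 2 (nat_lit 32) 0) .nil)))
def tB31 : CT := .cons (nat_lit 1429) (nat_lit 0x4c9b01c0) (.leaf 2 (nat_lit 32) 0) (.cons (nat_lit 770) (nat_lit 0x788fdb68) (.leaf 2 (nat_lit 40) 0) (.cons (nat_lit 1308) (nat_lit 0x50ae2b18) (.leaf 2 (nat_lit 48) 0) (.cons (nat_lit 2833) (nat_lit 0x7d045e60) (.leaf 2 (nat_lit 32) 0) (.cons (nat_lit 1657) (nat_lit 0x7aa85a18) (.leaf 2 (nat_lit 40) 0) (.cons (nat_lit 1119) (nat_lit 0x6af44024) (.leaf 2 (nat_lit 48) 0) (.cons (nat_lit 2148) (nat_lit 0x7318d97c) (.leaf 2 (nat_lit 48) 0) (.cons (nat_lit 1218) (nat_lit 0x6e8d089c) (.leaf 2 (nat_lit 36) 0) (.cons (nat_lit 1961) (nat_lit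 0xf93bb12c0) (.leaf 2 (nat_lit 36) 0) (.cons (nat_lit 3017) (nat_lit 0xfc7f94ac0) (.leaf 2 (nat_lit 40) 0) .nil)))))))))
def tB32 : CT := .cons (nat_lit 1988) (nat_lit 0x2b1400a) (.leaf 2 (nat_lit 32) 0) (.cons (nat_lit 2678) (nat_lit 0x4c9b01c0) (.leaf 2 (nat_lit 40) 0) (.cons (nat_lit 1313) (nat_lit 0x788fdb68) (.leaf 2 (nat_lit 40) 0) (.cons (nat_lit 261) (nat_lit 0x7d045e60) (.leaf 2 (nat_lit 56) 0) (.cons (nat_lit 3351) (nat_lit 0x7318d97c) (.leaf 2 (nat_lit 36) 0) (.cons (nat_lit 2148) (nat_lit 0x6e8d089c) (.leaf 2 (nat_lit 32) 0) (.cons (nat_lit 798) (nat_lit 0xf93bb12c0) (.leaf 2 (nat_lit 56) 0) (.cons (nat_lit 1931) (nat_lit 0xfc7f94ac0) (.leaf 2 (nat_lit 40) 0) .nil)))))))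
def tB33 : CT := .cons (nat_lit 811) (nat_lit 48310) (.leaf 2 (nat_lit 32) 0) (.cons (nat_lit 1473) (nat_lit 0x4c9b01c0) (.leaf 2 (nat_lit 32) 0) (.cons (nat_lit 1179) (nat_lit 0x7318d97c) (.leaf 2 (nat_lit 32) 0) (.cons (nat_lit 377) (nat_lit 0x6e8d089c) (.leaf 2 (nat_lit 48) 0) (.cons (nat_lit 1147) (nat_lit 0xf520d2160) (.leaf 2 (nat_lit 32) 0) (.cons (nat_lit 3192) (nat_lit 0xfc7f94ac0) (.leaf 2 (nat_lit 40) 0) .nil)))))
def tB34 : CT := .cons (nat_lit 2629) (nat_lit 0x4c9b01c0) (.leaf 2 (nat_lit 48) 0) (.cons (nat_lit 3351) (nat_lit 0x788fdb68) (.leaf 2 (nat_lit 32) 0) (.cons (nat_lit 3248) (nat_lit 0x50ae2b18) (.leaf 2 (nat_lit 32) 0) (.cons (nat_lit 3270) (nat_lit 0x7d045e60) (.leaf 2 (nat_lit 32) 0) (.cons (nat_lit 3651) (nat_lit 0x7aa85a18) (.leaf 2 (nat_lit 32) 0) (.cons (nat_lit 3373) (nat_lit 0xf520d2160) (.leaf 2 (nat_lit 32) 0) (.cons (nat_lit 1664) (nat_lit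 0xc6d044710) (.leaf 2 (nat_lit 56) 0) (.cons (nat_lit 682) (nat_lit 0xf93bb12c0) (.leaf 2 (nat_lit 32) 0) .nil)))))))
def tB35 : CT := .cons (nat_lit 1537) (nat_lit 0x4c9b01c0) (.leaf 2 (nat_lit 32) 0) (.cons (nat_lit 800) (nat_lit 0x50ae2b18) (.leaf 2 (nat_lit 32) 0) (.cons (nat_lit 1119) (nat_lit 0x7d045e60) (.leaf 2 (nat_lit 48) 0) (.cons (nat_lit 2833) (nat_lit 0x6af44024) (.leaf 2 (nat_lit 32) 0) (.cons (nat_lit 3624) (nat_lit 0x6e8d089c) (.leaf 2 (nat_lit 32) 0) (.cons (nat_lit 1027) (nat_lit 0x5ca16c80) (.leaf 2 (nat_lit 32) 0) (.cons (nat_lit 2627) (nat_lit 0xf93bb12c0) (.leaf 2 (nat_lit 32) 0) (.cons (nat_lit 1636) (nat_lit 0xfc7f94ac0) (.leaf 2 (nat_lit 40) 0) .nil)))))))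
def tB36 : CT := .cons (nat_lit 1988) (nat_lit 1) (.leaf 2 (nat_lit 32) 0) (.cons (nat_lit 2675) (nat_lit 0x7d045e60) (.leaf 2 (nat_lit 32) 0) (.cons (nat_lit 1753) (nat_lit 0x7318d97c) (.leaf 2 (nat_lit 48) 0) (.cons (nat_lit 3408) (nat_lit 0x5ca16c80) (.leaf 2 (nat_lit 48) 0) (.cons (nat_lit 3004) (nat_lit 0xf520d2160) (.leaf 2 (nat_lit 32) 0) (.cons (nat_lit 2678) (nat_lit 0xc6d044710) (.leaf 2 (nat_lit 32) 0) (.cons (nat_lit 2320) (nat_lit 0xf93bb12c0) (.leaf 2 (nat_lit 40) 0) (.cons (nat_lit 1367) (nat_lit 0xfc7f94ac0) (.leaf 2 (nat_lit 32) 0) .nil)))))))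
def tB37 : CT := .cons (nat_lit 1895) (nat_lit 1) (.leaf 2 (nat_lit 40) 0) (.cons (nat_lit 1185) (nat_lit 48310) (.leaf 2 (nat_lit 40) 0) (.cons (nat_lit 2104) (nat_lit 0x2b1400a) (.leaf 2 (nat_lit 32) 0) (.cons (nat_lit 3141) (nat_lit 0x5ca16c80) (.leaf 2 (nat_lit 32) 0) (.cons (nat_lit 780) (nat_lit 0xf520d2160) (.leaf 2 (nat_lit 32) 0) (.cons (nat_lit 3078) (nat_lit 0xc6d044710) (.leaf 2 (nat_lit 32) 0) .nil)))))
def tB38 : CT := .cons (nat_lit 593) (nat_lit 1) (.leaf 2 (nat_lit 40) 0) (.cons (nat_lit 3367) (nat_lit 48310) (.leaf 2 (nat_lit 32) 0) (.cons (nat_lit 3514) (nat_lit 0x788fdb68) (.leaf 2 (nat_lit 48) 0) (.cons (nat_lit 3675) (nat_lit 0x50ae2b18) (.leaf 2 (nat_lit 48) 0) (.cons (nat_lit 1321) (nat_lit 0x6af44024) (.leaf 2 (nat_lit 32) 0) (.cons (nat_lit 3369) (nat_lit 0xf520d2160) (.leaf 2 (nat_lit 32) 0) (.cons (nat_lit 2306) (nat_lit 0xf93bb12c0) (.leaf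 2 (nat_lit 48) 0) (.cons (nat_lit 1620) (nat_lit 0xfc7f94ac0) (.leaf 2 (nat_lit 32) 0) .nil)))))))
def tB39 : CT := .cons (nat_lit 2242) (nat_lit 0x6af44024) (.leaf 2 (nat_lit 48) 0) (.cons (nat_lit 2485) (nat_lit 0x7318d97c) (.leaf 2 (nat_lit 48) 0) (.cons (nat_lit 2292) (nat_lit 0x6e8d089c) (.leaf 2 (nat_lit 32) 0) (.cons (nat_lit 645) (nat_lit 0xf520d2160) (.leaf 2 (nat_lit 48) 0) (.cons (nat_lit 798) (nat_lit 0xc6d044710) (.leaf 2 (nat_lit 32) 0) (.cons (nat_lit 589) (nat_lit 0xfc7f94ac0) (.leaf 2 (nat_lit 32) 0) .nil)))))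
def tB40 : CT := .cons (nat_lit 2509) (nat_lit 0x2b1400a) (.leaf 2 (nat_lit 48) 0) (.cons (nat_lit 3359) (nat_lit 0x4c9b01c0) (.leaf 2 (nat_lit 32) 0) (.cons (nat_lit 2844) (nat_lit 0x7d045e60) (.leaf 2 (nat_lit 48) 0) (.cons (nat_lit 3214) (nat_lit 0x7aa85a18) (.leaf 2 (nat_lit 32) 0) (.cons (nat_lit 1703) (nat_lit 0x7318d97c) (.leaf 2 (nat_lit 40) 0) (.cons (nat_lit 3802) (nat_lit 0x6e8d089c) (.leaf 2 (nat_lit 32) 0) (.cons (nat_lit 3675) (nat_lit 0x5ca16c80) (.leaf 2 (nat_lit 48) 0) (.cons (nat_lit 2190) (nat_lit 0xc6d044710) (.leaf 2 (nat_lit 32) 0) .nil)))))))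
def tB41 : CT := .cons (nat_lit 3098) (nat_lit 1) (.leaf 2 (nat_lit 56) 0) (.cons (nat_lit 304) (nat_lit 48310) (.leaf 2 (nat_lit 56) 0) (.cons (nat_lit 2844) (nat_lit 0x2b1400a) (.leaf 2 (nat_lit 32) 0) (.cons (nat_lit 3035) (nat_lit 0x5ca16c80) (.leaf 2 (nat_lit 32) 0) (.cons (nat_lit 1486) (nat_lit 0xf520d2160) (.leaf 2 (nat_lit 48) 0) (.cons (nat_lit 2595) (nat_lit 0xc6d044710) (.leaf 2 (nat_lit 32) 0) .nil)))))
def tB42 : CT := .cons (nat_lit 406) (nat_lit 0x2b1400a) (.leaf 2 (nat_lit 48) 0) (.cons (nat_lit 493) (nat_lit 0x7aa85a18) (.leaf 2 (nat_lit 48) 0) (.cons (nat_lit 3651) (nat_lit 0x7318d97c) (.leaf 2 (nat_lit 32) 0) (.cons (nat_lit 1402) (nat_lit 0xc6d044710) (.leaf 2 (nat_lit 48) 0) .nil)))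
def tB43 : CT := .cons (nat_lit 687) (nat_lit 1) (.leaf 2 (nat_lit 32) 0) (.cons (nat_lit 3826) (nat_lit 0x4c9b01c0) (.leaf 2 (nat_lit 32) 0) (.cons (nat_lit 1757) (nat_lit 0x50ae2b18) (.leaf 2 (nat_lit 40) 0) (.cons (nat_lit 1160) (nat_lit 0x7aa85a18) (.leaf 2 (nat_lit 48) 0) (.cons (nat_lit 1108) (nat_lit 0x5ca16c80) (.leaf 2 (nat_lit 32) 0) (.cons (nat_lit 1703) (nat_lit 0xf520d2160) (.leaf 2 (nat_lit 32) 0) .nil)))))
def tB44 : CT := .cons (nat_lit 1696) (nat_lit 48310) (.leaf 2 (nat_lit 48) 0) (.cons (nat_lit 1184) (nat_lit 0x2b1400a) (.leaf 2 (nat_lit 48) 0) (.cons (nat_lit 1568) (nat_lit 0x7d045e60) (.leaf 2 (nat_lit 32) 0) (.cons (nat_lit 253) (nat_lit 0x7aa85a18) (.leaf 2 (nat_lit 32) 0) (.cons (nat_lit 764) (nat_lit 0x6af44024) (.leaf 2 (nat_lit 40) 0) (.cons (nat_lit 1532) (nat_lit 0x7318d97c) (.leaf 2 (nat_lit 32) 0) (.cons (nat_lit 3923) (nat_lit 0x6e8d089c)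 (.leaf 2 (nat_lit 32) 0) (.cons (nat_lit 616) (nat_lit 0x5ca16c80) (.leaf 2 (nat_lit 32) 0) .nil)))))))
def tB45 : CT := .cons (nat_lit 480) (nat_lit 1) (.leaf 2 (nat_lit 32) 0) (.cons (nat_lit 2410) (nat_lit 0x2b1400a) (.leaf 2 (nat_lit 32) 0) (.cons (nat_lit 4034) (nat_lit 0x4c9b01c0) (.leaf 2 (nat_lit 40) 0) (.cons (nat_lit 3004) (nat_lit 0x50ae2b18) (.leaf 2 (nat_lit 32) 0) (.cons (nat_lit 3266) (nat_lit 0x6af44024) (.leaf 2 (nat_lit 60) 0) (.cons (nat_lit 2273) (nat_lit 0x6e8d089c) (.leaf 2 (nat_lit 32) 0) (.cons (nat_lit 1753) (nat_lit 0x5ca16c80) (.leaf 2 (nat_lit 32) 0) (.cons (nat_lit 941) (nat_lit 0xfc7f94ac0) (.leaf 2 (nat_lit 32) 0) .nil)))))))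
def tB46 : CT := .cons (nat_lit 769) (nat_lit 1) (.leaf 2 (nat_lit 32) 0) (.cons (nat_lit 1010) (nat_lit 0x50ae2b18) (.leaf 2 (nat_lit 48) 0) (.cons (nat_lit 1316) (nat_lit 0x7d045e60) (.leaf 2 (nat_lit 40) 0) (.cons (nat_lit 652) (nat_lit 0x7318d97c) (.leaf 2 (nat_lit 32) 0) (.cons (nat_lit 3398) (nat_lit 0x6e8d089c) (.leaf 2 (nat_lit 32) 0) (.cons (nat_lit 2025) (nat_lit 0x5ca16c80) (.leaf 2 (nat_lit 32) 0) (.cons (nat_lit 199) (nat_lit 0xc6d044710) (.leaf 2 (nat_lit 32) 0) (.cons (nat_lit 1857) (nat_lit 0xf93bb12c0) (.leaf 2 (nat_lit 32) 0) .nil)))))))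
def tB47 : CT := .cons (nat_lit 4014) (nat_lit 48310) (.leaf 2 (nat_lit 32) 0) (.cons (nat_lit 1321) (nat_lit 0x7d045e60) (.leaf 2 (nat_lit 32) 0) (.cons (nat_lit 2022) (nat_lit 0x7aa85a18) (.leaf 2 (nat_lit 32) 0) (.cons (nat_lit 826) (nat_lit 0xc6d044710) (.leaf 2 (nat_lit 36) 0) (.cons (nat_lit 3447) (nat_lit 0xf93bb12c0) (.leaf 2 (nat_lit 32) 0) (.cons (nat_lit 2224) (nat_lit 0xfc7f94ac0) (.leaf 2 (nat_lit 48) 0) .nil)))))
def tB48 : CT := .cons (nat_lit 3369) (nat_lit 1) (.leaf 2 (nat_lit 48) 0) (.cons (nat_lit 3382) (nat_lit 0x788fdb68) (.leaf 2 (nat_lit 48) 0) (.cons (nat_lit 1672) (nat_lit 0x7d045e60) (.leaf 2 (nat_lit 48) 0) (.cons (nat_lit 3192) (nat_lit 0x7318d97c) (.leaf 2 (nat_lit 48) 0) (.cons (nat_lit 1391) (nat_lit 0x5ca16c80) (.leaf 2 (nat_lit 32) 0) (.cons (nat_lit 1135) (nat_lit 0xfc7f94ac0) (.leaf 2 (nat_lit 32) 0) .nil)))))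
def tB49 : CT := .cons (nat_lit 1402) (nat_lit 48310) (.leaf 2 (nat_lit 32) 0) (.cons (nat_lit 3651) (nat_lit 0x788fdb68) (.leaf 2 (nat_lit 32) 0) (.cons (nat_lit 406) (nat_lit 0x7d045e60) (.leaf 2 (nat_lit 32) 0) (.cons (nat_lit 493) (nat_lit 0x5ca16c80) (.leaf 2 (nat_lit 32) 0) .nil)))
def tB50 : CT := .cons (nat_lit 3382) (nat_lit 48310) (.leaf 2 (nat_lit 48) 0) (.cons (nat_lit 1391) (nat_lit 0x7d045e60) (.leaf 2 (nat_lit 40) 0) (.cons (nat_lit 1672) (nat_lit 0x7aa85a18) (.leaf 2 (nat_lit 48) 0) (.cons (nat_lit 3192) (nat_lit 0xc6d044710) (.leaf 2 (nat_lit 48) 0) (.cons (nat_lit 1135) (nat_lit 0xf93bb12c0) (.leaf 2 (nat_lit 32) 0) (.cons (nat_lit 3369) (nat_lit 0xfc7f94ac0) (.leaf 2 (nat_lit 48) 0) .nil)))))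
def tB51 : CT := .cons (nat_lit 1582) (nat_lit 0x2b1400a) (.leaf 2 (nat_lit 48) 0) (.cons (nat_lit 1681) (nat_lit 0x788fdb68) (.leaf 2 (nat_lit 32) 0) (.cons (nat_lit 2590) (nat_lit 0x7318d97c) (.leaf 2 (nat_lit 32) 0) (.cons (nat_lit 471) (nat_lit 0x5ca16c80) (.leaf 2 (nat_lit 32) 0) (.cons (nat_lit 4038) (nat_lit 0xf93bb12c0) (.leaf 2 (nat_lit 32) 0) (.cons (nat_lit 3984) (nat_lit 0xfc7f94ac0) (.leaf 2 (nat_lit 56) 0) .nil)))))
def tB52 : CT := .cons (nat_lit 148) (nat_lit 1) (.leaf 2 (nat_lit 32) 0) (.cons (nat_lit 3125) (nat_lit 48310) (.leaf 2 (nat_lit 32) 0) (.cons (nat_lit 3828) (nat_lit 0x2b1400a) (.leaf 2 (nat_lit 32) 0) (.cons (nat_lit 2082) (nat_lit 0x788fdb68) (.leaf 2 (nat_lit 32) 0) (.cons (nat_lit 75) (nat_lit 0x7aa85a18) (.leaf 2 (nat_lit 32) 0) (.cons (nat_lit 2489) (nat_lit 0xf520d2160) (.leaf 2 (nat_lit 32) 0) (.cons (nat_lit 3588) (nat_lit 0xf93bb12c0)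 (.leaf 2 (nat_lit 48) 0) (.cons (nat_lit 1871) (nat_lit 0xfc7f94ac0) (.leaf 2 (nat_lit 32) 0) .nil)))))))
def tB53 : CT := .cons (nat_lit 1681) (nat_lit 1) (.leaf 2 (nat_lit 32) 0) (.cons (nat_lit 471) (nat_lit 0x4c9b01c0) (.leaf 2 (nat_lit 32) 0) (.cons (nat_lit 4038) (nat_lit 0x788fdb68) (.leaf 2 (nat_lit 32) 0) (.cons (nat_lit 1582) (nat_lit 0x6e8d089c) (.leaf 2 (nat_lit 32) 0) (.cons (nat_lit 3984) (nat_lit 0xc6d044710) (.leaf 2 (nat_lit 32) 0) (.cons (nat_lit 2590) (nat_lit 0xf93bb12c0) (.leaf 2 (nat_lit 48) 0) .nil)))))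
def tB : CT := .cons (nat_lit 469) (nat_lit 1) tB0 (.cons (nat_lit 3955) (nat_lit 1941) tB1 (.cons (nat_lit 1746) (nat_lit 38606) tB2 (.cons (nat_lit 722) (nat_lit 54260) tB3 (.cons (nat_lit 3919) (nat_lit 42806) tB4 (.cons (nat_lit 36) (nat_lit 51541) tB5 (.cons (nat_lit 3048) (nat_lit 64026) tB6 (.cons (nat_lit 3725) (nat_lit 48868) tB7 (.cons (nat_lit 3626) (nat_lit 60991) tB8 (.cons (nat_lit 3922) (nat_lit 44095) tB9 (.cons (nat_lit 1019) (nat_lit 36034) tB10 (.cons (nat_lit 103) (nat_lit 41764) tB11 (.cons (nat_lit 3868) (nat_lit 38665) tB12 (.cons (nat_lit 3691) (nat_lit 48388) tB13 (.cons (nat_lit 3329) (nat_lit 63498) tB14 (.cons (nat_lit 2749) (nat_lit 0x194408) tB15 (.cons (nat_lit 1430) (nat_lit 0x1bd06e) tB16 (.cons (nat_lit 168) (nat_lit 0x155d7f) tB17 (.cons (nat_lit 2986) (nat_lit 0x14d2c3) tB18 (.cons (nat_lit 2916) (nat_lit 0x1122c3) tB19 (.cons (nat_lit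 2954) (nat_lit 0x196728) tB20 (.cons (nat_lit 3874) (nat_lit 0x191bae) tB21 (.cons (nat_lit 3331) (nat_lit 0x1e6a60) tB22 (.cons (nat_lit 1849) (nat_lit 0x1ca08a) tB23 (.cons (nat_lit 3157) (nat_lit 0x119a5c) tB24 (.cons (nat_lit 1745) (nat_lit 0x1123a5) tB25 (.cons (nat_lit 2255) (nat_lit 0x1b6c17) tB26 (.cons (nat_lit 1342) (nat_lit 0x1d0926) tB27 (.cons (nat_lit 348) (nat_lit 0x194788) tB28 (.cons (nat_lit 2522) (nat_lit 0x1a6a60) tB29 (.cons (nat_lit 2688) (nat_lit 0x18ca18) tB30 (.cons (nat_lit 3047) (nat_lit 0x17a2ce) tB31 (.cons (nat_lit 1540) (nat_lit 0x18751a) tB32 (.cons (nat_lit 2801) (nat_lit 0x177dd2) tB33 (.cons (nat_lit 3528) (nat_lit 0x124aa3) tB34 (.cons (nat_lit 634) (nat_lit 0x1108d4) tB35 (.cons (nat_lit 3337) (nat_lit 0x157851) tB36 (.cons (nat_lit 806) (nat_lit 0x1d47b7) tB37 (.cons (nat_lit 3818) (nat_lit 0x1e0f29) tB38 (.cons (nat_lit 3678) (nat_lit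 0x15c41a) tB39 (.cons (nat_lit 161) (nat_lit 0x1580a1) tB40 (.cons (nat_lit 3430) (nat_lit 0x1dd554) tB41 (.cons (nat_lit 2191) (nat_lit 0x112a08) tB42 (.cons (nat_lit 332) (nat_lit 0x1d8e19) tB43 (.cons (nat_lit 2536) (nat_lit 0x14d7f3) tB44 (.cons (nat_lit 1202) (nat_lit 0x3b423d3) tB45 (.cons (nat_lit 2147) (nat_lit 0x261d952) tB46 (.cons (nat_lit 731) (nat_lit 0x3cd12ce) tB47 (.cons (nat_lit 16) (nat_lit 0x2b28378) tB48 (.cons (nat_lit 1032) (nat_lit 0x32b6304) tB49 (.cons (nat_lit 1154) (nat_lit 0x33fba02) tB50 (.cons (nat_lit 1555) (nat_lit 0x3917757) tB51 (.cons (nat_lit 1507) (nat_lit 0x28fd660) tB52 (.cons (nat_lit 623) (nat_lit 0x37aa5c6) tB53 (.nil))))))))))))))))))))))))))))))))))))))))))))))))))))))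
def mC : ℕ := nat_lit 0xee852f46088e45eab39159010aca9ca6c0f83041a9c01c41202423d847784800608b0a8cea02630b38139af2fa99a2868161209a4c6972b49d00899a80c6e3550c15380e6f001b1520900f624a18dc07e219b4d344132ad8bc6228b1aece8028848d177034d4be39a18f684bd073432f8748863bb2aa80514881a0a69810dfb9b2946ff1e4808965010074a2cb12c30816204006387023bf0ba8e470d43241800dd1312ebe01ee333f3230578ee0d906583ecaf8109e066670b08bf4320ad66d5e56c20ca21f9b01401e13d0018572240300142b1e50e3e0a1b2875917bf422a68096045241420b5524f28005e328b1131b02826914c21f10032a0ba5417f7ca12a11900f2083a0c5468e259c618c8cf041d00703b9509904da262af62041aa2b07f139244b41bfc43611f1a32b411c1d14c238e06c435964562c4a50de006c180be022173c24691ce28c4284629c816bef8490648a0272f85acc3084030990d11d200582a703070c479d49aaf6dffcd29200982912788aad60019d1b4ea10e30e45c5231c8274ae10c10b502272a6404508d6826486cc956b2718f169240560f1cb0e7a47beec997c491eb06b12734716224d90607ca004400ae203b56a8197ab3ab0b66006621b8711f12cab212fc27341b84de2b720a06cb88b13856a0e207b774aa0eb1613b9639cfd04c52bca05f82396ca722413e64000000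
def uC : ℕ := nat_lit 59360
def qC : List LQ := [⟨a1.L, [], nat_lit 1337, [], []⟩,
  ⟨a2.L, [nat_lit 29, nat_lit 278, nat_lit 1149, nat_lit 1419, nat_lit 1653, nat_lit 1929, nat_lit 2624, nat_lit 2725, nat_lit 3639, nat_lit 3919], nat_lit 52720, [], []⟩]
def tC0 : CT := .nil
def tC1 : CT := .nil
def tC2 : CT := .nil
def tC3 : CT := .cons (nat_lit 4036) (nat_lit 1) (.leaf 2 (nat_lit 32) 0) (.cons (nat_lit 2624) (nat_lit 0x52199008) (.leaf 2 (nat_lit 32) 0) .nil)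
def tC4 : CT := .cons (nat_lit 1951) (nat_lit 1) (.leaf 2 (nat_lit 32) 0) .nil
def tC5 : CT := .cons (nat_lit 2846) (nat_lit 1) (.leaf 2 (nat_lit 32) 0) .nil
def tC6 : CT := .nil
def tC7 : CT := .nil
def tC8 : CT := .cons (nat_lit 2624) (nat_lit 0x2851969) (.leaf 2 (nat_lit 32) 0) .nil
def tC9 : CT := .nil
def tC10 : CT := .nil
def tC11 : CT := .nil
def tC12 : CT := .nil
def tC13 : CT := .cons (nat_lit 355) (nat_lit 0x3e480bb) (.leaf 2 (nat_lit 32) 0) .nil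
def tC14 : CT := .nil
def tC15 : CT := .cons (nat_lit 1020) (nat_lit 0x52199008) (.leaf 2 (nat_lit 32) 0) (.cons (nat_lit 2367) (nat_lit 0x4b9b39c8) (.leaf 2 (nat_lit 32) 0) .nil)
def tC16 : CT := .cons (nat_lit 1746) (nat_lit 1) (.leaf 2 (nat_lit 32) 0) .nil
def tC17 : CT := .nil
def tC18 : CT := .nil
def tC19 : CT := .nil
def tC20 : CT := .cons (nat_lit 2846) (nat_lit 0x3e480bb) (.leaf 2 (nat_lit 32) 0) .nil
def tC21 : CT := .cons (nat_lit 1746) (nat_lit 0x3e480bb) (.leaf 2 (nat_lit 32) 0) .nil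
def tC22 : CT := .nil
def tC23 : CT := .nil
def tC24 : CT := .cons (nat_lit 2151) (nat_lit 0x52199008) (.leaf 2 (nat_lit 48) 0) (.cons (nat_lit 3307) (nat_lit 0x4b9d1808) (.leaf 2 (nat_lit 32) 0) .nil)
def tC25 : CT := .nil
def tC26 : CT := .nil
def tC27 : CT := .nil
def tC28 : CT := .nil
def tC29 : CT := .nil
def tC30 : CT := .cons (nat_lit 355) (nat_lit 0x2e5196f) (.leaf 2 (nat_lit 32) 0) .nil
def tC31 : CT := .nil
def tC32 : CT := .nil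
def tC33 : CT := .cons (nat_lit 1184) (nat_lit 0x2550bf9) (.leaf 2 (nat_lit 32) 0) (.cons (nat_lit 1020) (nat_lit 0x2992e88) (.leaf 2 (nat_lit 32) 0) .nil)
def tC34 : CT := .nil
def tC35 : CT := .cons (nat_lit 2020) (nat_lit 0x3e480bb) (.leaf 2 (nat_lit 32) 0) .nil
def tC36 : CT := .nil
def tC37 : CT := .cons (nat_lit 2514) (nat_lit 0x52199008) (.leaf 2 (nat_lit 32) 0) .nil
def tC38 : CT := .cons (nat_lit 2367) (nat_lit 0x2851969) (.leaf 2 (nat_lit 32) 0) .nil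
def tC39 : CT := .nil
def tC40 : CT := .nil
def tC41 : CT := .nil
def tC42 : CT := .nil
def tC43 : CT := .nil
def tC44 : CT := .cons (nat_lit 2020) (nat_lit 1) (.leaf 2 (nat_lit 32) 0) (.cons (nat_lit 1184) (nat_lit 0x2992e88) (.leaf 2 (nat_lit 32) 0) .nil)
def tC45 : CT := .cons (nat_lit 1951) (nat_lit 0x38f0d64) (.leaf 2 (nat_lit 32) 0) .nil
def tC46 : CT := .nil
def tC47 : CT := .cons (nat_lit 612) (nat_lit 1) (.leaf 2 (nat_lit 32) 0) .nil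
def tC : CT := .cons (nat_lit 2137) (nat_lit 38665) tC0 (.cons (nat_lit 237) (nat_lit 57096) tC1 (.cons (nat_lit 1801) (nat_lit 0x115fa5) tC2 (.cons (nat_lit 716) (nat_lit 0x1ac06e) tC3 (.cons (nat_lit 2357) (nat_lit 0x17aad4) tC4 (.cons (nat_lit 2697) (nat_lit 0x1d0926) tC5 (.cons (nat_lit 2595) (nat_lit 0x194408) tC6 (.cons (nat_lit 1811) (nat_lit 0x1209fc) tC7 (.cons (nat_lit 1615) (nat_lit 0x2558156) tC8 (.cons (nat_lit 1168) (nat_lit 0x3a9a9f3) tC9 (.cons (nat_lit 1841) (nat_lit 0x30479f2) tC10 (.cons (nat_lit 866) (nat_lit 0x298815d) tC11 (.cons (nat_lit 655) (nat_lit 0x2b07d11) tC12 (.cons (nat_lit 1700) (nat_lit 0x3c8d2df) tC13 (.cons (nat_lit 3215) (nat_lit 0x264fe56) tC14 (.cons (nat_lit 3199) (nat_lit 0x292da0b) tC15 (.cons (nat_lit 500) (nat_lit 0x20ff6c9) tC16 (.cons (nat_lit 1755) (nat_lit 0x23f82ce) tC17 (.cons (nat_lit 869) (nat_lit 0x218ee20) tC18 (.cons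 (nat_lit 2354) (nat_lit 0x28fe060) tC19 (.cons (nat_lit 1129) (nat_lit 0x2f561c3) tC20 (.cons (nat_lit 3616) (nat_lit 0x30b6962) tC21 (.cons (nat_lit 2686) (nat_lit 0x3ef0648) tC22 (.cons (nat_lit 3070) (nat_lit 0x3272e5b) tC23 (.cons (nat_lit 2367) (nat_lit 0x3481400) tC24 (.cons (nat_lit 2292) (nat_lit 0x2ac6b4e) tC25 (.cons (nat_lit 1791) (nat_lit 0x28588b6) tC26 (.cons (nat_lit 2136) (nat_lit 0x2fd4648) tC27 (.cons (nat_lit 1895) (nat_lit 0x2ab6e4a) tC28 (.cons (nat_lit 1558) (nat_lit 0x359ad00) tC29 (.cons (nat_lit 167) (nat_lit 0x2830d72) tC30 (.cons (nat_lit 471) (nat_lit 0x3cb0360) tC31 (.cons (nat_lit 1247) (nat_lit 0x3e8c5f2) tC32 (.cons (nat_lit 1335) (nat_lit 0x78676e50) tC33 (.cons (nat_lit 885) (nat_lit 0x47f4c8dc) tC34 (.cons (nat_lit 1890) (nat_lit 0x6cb46b40) tC35 (.cons (nat_lit 3407) (nat_lit 0x7d51ff90) tC36 (.cons (nat_lit 1903) (nat_lit 0x5594bba8)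 tC37 (.cons (nat_lit 331) (nat_lit 0x7db79600) tC38 (.cons (nat_lit 3771) (nat_lit 0x5d8eff00) tC39 (.cons (nat_lit 3048) (nat_lit 0x7751ae70) tC40 (.cons (nat_lit 3346) (nat_lit 0x6f8d5d5c) tC41 (.cons (nat_lit 3683) (nat_lit 0x5692ad10) tC42 (.cons (nat_lit 457) (nat_lit 0x433b7d10) tC43 (.cons (nat_lit 2249) (nat_lit 0x4bc88920) tC44 (.cons (nat_lit 493) (nat_lit 0x78a76060) tC45 (.cons (nat_lit 1179) (nat_lit 0x6db44520) tC46 (.cons (nat_lit 3026) (nat_lit 0x7eb43b60) tC47 (.nil))))))))))))))))))))))))))))))))))))))))))))))))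
def mD : ℕ := nat_lit 0xee852f56088e45eab39159010aca9ca6c0fa3041a9c01c4122262bd847784800608b0a8cea02630b38139af2fb99b6ae816120be4c6972b49d00899a80c6e3550d35381f6f101b1520900fe24a18dc07e219b4d744932ad8bc6a28b1aece8028848d177034d4be39e98f684bd073432f8748863bb2aa80514881a4a69810dfb9b2d46ff1e480c975010076a2cb12c30856204006387023bf0ba8e470d43241800dd1312ebe01ee333f3230578ee0d906583ecaf8129e06e670b08bf4b20ad66d5e56c22ca21f9b01401e33d001a572240300142b9e50e3e0a1b2875917bfc22a68096145241420b5724fa8005e738b9131b02826914c21f10032a2ba5417f7ca12a19900f208ba0c5468e259c618c8cf041d00703bb589984da262af62041aa2f07f139254b41bfc43611f1a32b411c1d14c238e86c4359645e2c5a50de006c581be022173c246b1ce28c4284629c816bef84d0648a0372f85acc3084030990d11d200582a7030f0c479d4daaf6dffcd29200982916788aaf60219d1b4ea10e30e45c7231c8274ae10c10b50227aa6404518d6aa6486cc956ba71af169240d60f1cb0e7a47beec997c4b1eb06b1273471e224d90607ca004400ae203b56a8197ab3ab0b66006621b8711f12cab212fc37341b84de2b720a06cb88b13856a0e207b774aa0fb161bb9639cfd44c52bca05f8a396ca726413e64000000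
def uD : ℕ := nat_lit 54344
def qD : List LQ := [⟨a1.L, [], nat_lit 1337, [], []⟩,
  ⟨a2.L, [nat_lit 29, nat_lit 278, nat_lit 1149, nat_lit 1419, nat_lit 1653, nat_lit 1929, nat_lit 2624, nat_lit 2725, nat_lit 3639, nat_lit 3919], nat_lit 52720, [], []⟩]
def tD0 : CT := .nil
def tD1 : CT := .nil
def tD2 : CT := .nil
def tD3 : CT := .cons (nat_lit 610) (nat_lit 0x52199008) (.leaf 2 (nat_lit 32) 0) .nil
def tD4 : CT := .nil
def tD5 : CT := .nil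
def tD6 : CT := .nil
def tD7 : CT := .nil
def tD : CT := .cons (nat_lit 3447) (nat_lit 0x14c7a3) tD0 (.cons (nat_lit 1791) (nat_lit 0x2908c0e) tD1 (.cons (nat_lit 2357) (nat_lit 0x3e13d4a) tD2 (.cons (nat_lit 1168) (nat_lit 0x375ec32) tD3 (.cons (nat_lit 3445) (nat_lit 0x29eeec8) tD4 (.cons (nat_lit 1801) (nat_lit 0x3b46450) tD5 (.cons (nat_lit 2354) (nat_lit 0x295edd0) tD6 (.cons (nat_lit 1179) (nat_lit 0x3c8db78) tD7 (.nil))))))))
def mE : ℕ := nat_lit 0xee852f56088e45eab39159010aca9ca6c0fa3041a9c01c4122262bd847784800608b0a8cea02630b38139af2fb99b6ae816120be4c6972b49d00899a80c6e3550d35381f6f101b1520900fe24a18dc07e219b4d744932ad8bc6a28b1aece8028848d177034d4be39e98f684bd073432f8748863bb2aa80514881a4a69810dfb9b2d46ff1e480c975010076a2cb12c30856204006387023bf0ba8e470d43241850dd1312ebe01ee333f3230578ee0d906597ecaf8129e06e670b08bf4b20ad66d5e56c22ca21f9b01401e33d001a5722403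00142b9e50e3e0a1b2875917bfc22a68096145241420b5724fa8005e738b9131b02826914c21f10032a2ba5417f7ca12a19900f208ba0c5468e259c618c8cf041d00703bb589984da262af62041aa2f07f139254b41bfc43611f1a32b411f1d14c238e86c4359645e2c5a50de006c581be022173c246b1ce28c4284629c816bef84d0648a0372f85acc3084030990d11d200582a7030fcc479d4daaf6dffcd29200982916788aaf60219d1b4ea10e30e45c7231c8274ae10c10b50227aa6404518d6aa6486cc956ba71af169240d60f1cb0e7a47beec997c4b1eb06b1e73471e224d90607ca004400ae203b56a8197ab3ab0b66006621b8711f12cab212fc37341b84de2b720a06cb88b13856a0e207b774aa0fb161bb9639cfd44c52bca05f8a396ca726413e64000000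
def uE : ℕ := nat_lit 1
def qE : List LQ := [⟨a1.L, [], nat_lit 1337, [], []⟩,
  ⟨a2.L, [nat_lit 29, nat_lit 278, nat_lit 1149, nat_lit 1419, nat_lit 1653, nat_lit 1929, nat_lit 2624, nat_lit 2725, nat_lit 3639, nat_lit 3919], nat_lit 52720, [], []⟩]
def tE0 : CT := .cons (nat_lit 29) (nat_lit 1) (.leaf 0 0 0) .nil
def tE : CT := .cons (nat_lit 26) (nat_lit 1) tE0 (.nil)
def bq : List ℕ := [nat_lit 16, nat_lit 26, nat_lit 29]

theorem cA0 : preOK lkR s0 (nat_lit 4060) (nat_lit 65536) (fun _ => true) [l0, a1, a2] [] = true := by decide +kernel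
theorem cB0 : preOK lkR s0 (nat_lit 4060) (nat_lit 65536) (fun _ => true) [b1, b2] [nat_lit 16] = true := by
  decide +kernel
theorem cC0 : levOK lkR s0 (nat_lit 4060) (nat_lit 65536) (fun _ => true) [nat_lit 16] c1 = true := by decide +kernel
theorem cD0 : levOK lkR s0 (nat_lit 4060) (nat_lit 65536) (fun _ => true) [nat_lit 16] d1 = true := by decide +kernel
theorem cX : agree bq (iterF (lkR T8) (nat_lit 13)) (fun i => i) = true := by decide +kernel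

/-- the check of one case -/
noncomputable abbrev chkQ (u c M' M D : ℕ) (cs : List LQ) (ct : CT) : Bool :=
  wf lkR s0 u fun g _ => Nat.beq (g (nat_lit 16)) c && Nat.beq M' (Nat.lor M D) &&
    srch lkR s0 (nat_lit 4060) bq (lkR T8) (nat_lit 16) M cs ct g [nat_lit 16]

theorem cA : chkQ uA a1.L.b mB mA a1.L.D qA tA = true := by decide +kernel
theorem cB : chkQ uB b1.L.b mC mB b1.L.D qB tB = true := by decide +kernel
theorem cC : chkQ uC c1.L.b mD mC c1.L.D qC tC = true := by decide +kernel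
theorem cD : chkQ uD d1.L.b mE mD d1.L.D qD tD = true := by decide +kernel
theorem cE : chkQ uE (nat_lit 16) l0.L.D mE (Nat.shiftLeft 1 (nat_lit 16)) qE tE = true := by decide +kernel

end Cfsg.Agent.H37.Ti
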